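import Cfsg.Agent.H25.DLen
import Cfsg.Agent.H28.Spec2
import Cfsg.Agent.S0261

/-! Derived length of `2`-subgroups of symplectic groups. -/

set_option autoImplicit false

namespace Cfsg.Agent.H13

open Module H12 H28 H25 Subgroup
open scoped MatrixGroups

universe u

theorem exists_sp_derived (F : Type u) [Field F] [Fintype F] (hF : Odd (Fintype.card F)) (k : ℕ) :
    ∃ (D : Type u) (_ : Group D) (_ : Finite D) (V : Type u) (_ : AddCommGroup V) (_ : Module F V)
      (_ : FiniteDimensional F V) (B : V →ₗ[F] V →ₗ[F] F) (f : D →* End F V), SD (σ := RingHom.id F) B ∧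
      (∀ d, Pres (σ := RingHom.id F) B (f d)) ∧ Function.Injective f ∧ IsPGroup 2 D ∧ finrank F V = 2 * 2 ^ k ∧
      derivedSeries D (k + 1) ≠ ⊥ := by
  classical
  induction k with
  | zero =>
    obtain ⟨P⟩ : Nonempty (Sylow 2 SL(2, F)) := inferInstance
    obtain ⟨k, hk, ⟨e⟩⟩ := S0261.result hF P
    refine ⟨P, inferInstance, inferInstance, Fin 2 → F, inferInstance, inferInstance, inferInstance,
      Matrix.toLinearMap₂' F !![0, 1; -1, 0], (Matrix.toLinAlgEquiv' : Matrix (Fin 2) (Fin 2) F ≃ₐ[F] _).toMulEquiv.toMonoidHom.comp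
        (Matrix.SpecialLinearGroup.coeMonoidHom.comp P.1.subtype), ⟨fun _ => rfl, fun x y => ?_, fun x h => ?_,
        fun x => ⟨0, ?_⟩⟩, fun d x y => ?_, fun a b h => Subtype.ext (Subtype.ext
        ((Matrix.toLinAlgEquiv' : Matrix (Fin 2) (Fin 2) F ≃ₐ[F] _).injective h)), P.isPGroup', by simp,
      derived_ne_bot_of_injective e.symm.toMonoidHom e.symm.injective fun h => ?_⟩
    · simp [Matrix.toLinearMap₂'_apply, Fin.sum_univ_two]; ring
    · have h0 := h ![1, 0]
      have h1 := h ![0, 1]
      simp [Matrix.toLinearMap₂'_apply, Fin.sum_univ_two] at h0 h1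
      ext i; fin_cases i <;> simpa
    · simp [Matrix.toLinearMap₂'_apply, Fin.sum_univ_two]; ring
    · have := d.1.det_coe
      rw [Matrix.det_fin_two] at this
      simp [Matrix.toLinearMap₂'_apply, Fin.sum_univ_two, Matrix.mulVec, dotProduct]
      linear_combination (x 0 * y 1 - x 1 * y 0) * this
    · have h1 := commutatorElement_eq_one_iff_mul_comm.1 (mem_bot.1 (h.le (commutator_mem_commutator
        (mem_top (QuaternionGroup.a 1)) (mem_top (QuaternionGroup.xa 0)))))
      simp only [QuaternionGroup.a_mul_xa, QuaternionGroup.xa_mul_a, QuaternionGroup.xa.injEq] at h1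
      have h2 := Nat.le_of_dvd two_pos ((ZMod.natCast_eq_zero_iff 2 (2 * 2 ^ k)).1 (by
        push_cast; linear_combination -h1))
      have := Nat.pow_le_pow_right two_pos hk
      omega
  | succ k ih =>
    obtain ⟨D, _, _, V, _, _, _, B, f, a1, a2, h1, h2, h3, h4⟩ := ih
    haveI : Nontrivial V := Module.nontrivial_of_finrank_pos (R := F) (h3 ▸ by positivity)
    let g : D ≀ᵣ Multiplicative (ZMod 2) →* End F (Multiplicative (ZMod 2) → V) :=
      { toFun := fun w => LinearMap.pi fun x => f (w.left x) ∘ₗ LinearMap.proj (w.right⁻¹ * x)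
        map_one' := by ext; simp
        map_mul' := fun a b => LinearMap.ext fun v => funext fun x => by simp [mul_assoc] }
    refine ⟨D ≀ᵣ Multiplicative (ZMod 2), inferInstance, inferInstance, Multiplicative (ZMod 2) → V,
      inferInstance, inferInstance, inferInstance, ∑ x, B.compl₁₂ (.proj x) (.proj x), g,
      ⟨fun _ => rfl, fun x y => ?_, fun x h => funext fun i => a1.sep _ fun y => ?_, fun x => ?_⟩, fun w x y => ?_,
      (injective_iff_map_eq_one g).mpr fun w hw => ?_, isPGroup_wreath h2 (IsPGroup.of_card (n := 1) (by simp)),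
      by simp [finrank_pi_fintype, h3, pow_succ, mul_comm], derived_wreath h4⟩
    · simp only [LinearMap.sum_apply, LinearMap.compl₁₂_apply, RingHom.id_apply, ← Finset.sum_neg_distrib]
      exact Finset.sum_congr rfl fun i _ => a1.skew _ _
    · have := h (Pi.single i y)
      simp only [LinearMap.sum_apply, LinearMap.compl₁₂_apply, LinearMap.proj_apply] at this
      rwa [Finset.sum_eq_single i (fun j _ hj => by simp [Pi.single_eq_of_ne hj]) (by simp), Pi.single_eq_same] at this
    · choose d hd using fun i => a1.trace (x i)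
      exact ⟨∑ i, d i, by simp [LinearMap.sum_apply, ← hd]⟩
    · simp only [LinearMap.sum_apply, LinearMap.compl₁₂_apply, LinearMap.proj_apply]
      rw [← Equiv.sum_comp (Equiv.mulLeft w.right⁻¹) fun i => B (x i) (y i)]
      exact Finset.sum_congr rfl fun i _ => a2 _ _ _
    have h5 : ∀ (v : Multiplicative (ZMod 2) → V) x, f (w.left x) (v (w.right⁻¹ * x)) = v x := fun v x =>
      congrFun (LinearMap.congr_fun hw v) x
    have h6 : w.right = 1 := by
      by_contra hne
      obtain ⟨v, hv⟩ := exists_ne (0 : V)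
      have := h5 (Pi.single 1 v) 1
      rw [Pi.single_eq_of_ne (by simpa using hne), map_zero, Pi.single_eq_same] at this
      exact hv this.symm
    refine RegularWreathProduct.ext (funext fun x => h1 ?_) h6
    ext v
    simpa using h5 (fun _ => v) x

end Cfsg.Agent.H13
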