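import Cfsg.Agent.H13.Wall3
import Cfsg.Agent.H13.MaxSing
import Cfsg.Agent.H13.Levi
import Cfsg.Agent.H28.Elu3

/-!
The type of a non-degenerate quadratic space over a finite field, and its subspaces.
-/

set_option autoImplicit false

namespace Cfsg.Agent.H13

open Module H28 QuadraticMap

universe u

variable {F : Type u} {V W X : Type*} [Field F] [AddCommGroup V] [Module F V] [AddCommGroup W]
  [Module F W] [AddCommGroup X] [Module F X] {Q : QuadraticForm F V} {R : QuadraticForm F W}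
  {S : QuadraticForm F X}

/-- isometric forms -/
def Iso (Q : QuadraticForm F V) (R : QuadraticForm F W) : Prop :=
  ∃ e : V ≃ₗ[F] W, ∀ v, R (e v) = Q v

theorem Iso.symm (h : Iso Q R) : Iso R Q := by
  obtain ⟨e, he⟩ := h
  exact ⟨e.symm, fun v => by simp [← he]⟩

theorem Iso.trans (h : Iso Q R) (h' : Iso R S) : Iso Q S := by
  obtain ⟨e, he⟩ := h
  obtain ⟨e', he'⟩ := h'
  exact ⟨e.trans e', fun v => by simp [he, he']⟩

theorem Iso.isPlus (h : Iso Q R) (h1 : IsPlus Q) : IsPlus R := by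
  obtain ⟨e, he⟩ := h
  exact h1.of_semiSim (.ofIsometry e he)

theorem Iso.nd (h : Iso Q R) (h1 : ND Q) : ND R := by
  obtain ⟨e, he⟩ := h
  exact (SemiSim.ofIsometry e he).nd h1

theorem Iso.finrank_eq (h : Iso Q R) : finrank F V = finrank F W := h.choose.finrank_eq

theorem iso_comm : Iso (Q.prod R) (R.prod Q) := ⟨.prodComm _ _ _, fun v => by simp [add_comm]⟩

theorem Iso.prod_right (h : Iso R S) : Iso (Q.prod R) (Q.prod S) := by
  obtain ⟨e, he⟩ := h
  exact ⟨(LinearEquiv.refl F V).prodCongr e, fun v => by simp [he]⟩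

theorem ND.neg (h : ND Q) : ND (-Q) := fun x hx => h x fun y => by simpa [polar_neg] using hx y

theorem isPlus_neg : IsPlus (-Q) ↔ IsPlus Q := by simp [IsPlus]

theorem ND.inj (hR : ND R) {j : W →ₗ[F] V} (h : ∀ w, Q (j w) = R w) : Function.Injective j :=
  (injective_iff_map_eq_zero _).2 fun w hw => hR w fun y => by
    simp [polar, ← h, hw]

theorem ND.iso_range (hR : ND R) {j : W →ₗ[F] V} (h : ∀ w, Q (j w) = R w) :
    Iso R (Q.restrict (LinearMap.range j)) := ⟨.ofInjective j (hR.inj h), h⟩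

theorem nd_of_sup {U U' : Submodule F V} (h : ND (Q.restrict (U ⊔ U'))) (h' : U' ≤ perp Q U) :
    ND (Q.restrict U) := fun x hx => by
  simpa using h ⟨x, Submodule.mem_sup_left x.2⟩ fun ⟨y, hy⟩ => by
    obtain ⟨a, ha, b, hb, rfl⟩ := Submodule.mem_sup.1 hy
    have := hx ⟨a, ha⟩
    rw [polar_restrict] at this ⊢
    simp [this, mem_perp.1 (h' hb) _ x.2]

theorem le_perp_comm {U U' : Submodule F V} (h : U' ≤ perp Q U) : U ≤ perp Q U' := fun x hx =>
  mem_perp.2 fun y hy => (polar_comm _ _ _).trans (mem_perp.1 (h hy) x hx)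

variable [FiniteDimensional F V] [FiniteDimensional F W] [FiniteDimensional F X]

theorem isPlus_of_map {j : X →ₗ[F] V} (hj : Function.Injective j) (h : ∀ x, Q (j x) = 0)
    (h1 : 2 * finrank F X = finrank F V) : IsPlus Q :=
  ⟨LinearMap.range j, by rwa [LinearMap.finrank_range_of_inj hj], by rintro _ ⟨x, rfl⟩; exact h x⟩

theorem IsPlus.prod (h : IsPlus Q) (h' : IsPlus R) : IsPlus (Q.prod R) := by
  obtain ⟨U, h1, h2⟩ := h
  obtain ⟨U', h3, h4⟩ := h'
  exact isPlus_of_map (j := U.subtype.prodMap U'.subtype)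
    (U.injective_subtype.prodMap U'.injective_subtype) (fun x => by simp [h2 _ x.1.2, h4 _ x.2.2])
    (by simp [← h1, ← h3, mul_add])

omit [FiniteDimensional F V] in
theorem isPlus_restrict_iff {U : Submodule F V} : IsPlus (Q.restrict U) ↔
    ∃ T ≤ U, (∀ w ∈ T, Q w = 0) ∧ 2 * finrank F T = finrank F U :=
  ⟨fun ⟨T, h1, h2⟩ => ⟨T.map U.subtype, U.map_subtype_le _, by
    rintro _ ⟨w, hw, rfl⟩; exact h2 w hw, by rwa [Submodule.finrank_map_subtype_eq]⟩,
  fun ⟨T, h1, h2, h3⟩ => ⟨T.comap U.subtype, by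
    rwa [(Submodule.comapSubtypeEquivOfLe h1).finrank_eq], fun w hw => h2 _ hw⟩⟩

variable [Fintype F]

theorem isPlus_of_prod (hQ : ND Q) (hR : ND R) (h : IsPlus Q) (hW : Even (finrank F W))
    (h' : IsPlus (Q.prod R)) : IsPlus R := by
  obtain ⟨m, hm⟩ := hW
  obtain ⟨U, hU, -⟩ := id h
  obtain ⟨e, he⟩ := (hQ.prod (nd_QPlus (m := m))).equiv_of_isPlus_iff (hQ.prod hR)
    (m := finrank F U + m) (by simp; omega) (by simp; omega) (iff_of_true (h.prod (isPlus_QPlus m)) h')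
  exact isPlus_cancel hQ hR e he (isPlus_QPlus m)

theorem isPlus_prod_of_not (hQ : ND Q) (hR : ND R) {a k : ℕ} (hV : finrank F V = 2 * a)
    (hW : finrank F W = 2 * (a + k)) (h : ¬ IsPlus Q) (h' : ¬ IsPlus R) : IsPlus (Q.prod R) := by
  have h2 : Iso ((-Q).prod (QPlus k F)) R := (hQ.neg.prod nd_QPlus).equiv_of_isPlus_iff hR (by
    simp [hV]; ring) hW (iff_of_false (fun h3 => h (isPlus_neg.1 (isPlus_of_prod nd_QPlus hQ.neg
      (isPlus_QPlus k) ⟨a, by omega⟩ (iso_comm.isPlus h3)))) h')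
  obtain ⟨U, h3, h4⟩ := isPlus_QPlus (F := F) k
  exact h2.prod_right.isPlus (isPlus_of_map (j := (LinearMap.fst F V U).prod
    (LinearMap.id.prodMap U.subtype)) (fun x y h => (Function.injective_id.prodMap U.injective_subtype)
      (congrArg Prod.snd h)) (fun x => by simp [h4 _ x.2.2]) (by simp [← h3]; ring))

theorem isPlus_prod_iff (hQ : ND Q) (hR : ND R) (hV : Even (finrank F V)) (hW : Even (finrank F W)) :
    IsPlus (Q.prod R) ↔ (IsPlus Q ↔ IsPlus R) := by
  refine ⟨fun h => ⟨fun h1 => isPlus_of_prod hQ hR h1 hW h, fun h1 =>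
    isPlus_of_prod hR hQ h1 hV (iso_comm.isPlus h)⟩, fun h => ?_⟩
  by_cases h1 : IsPlus Q
  · exact h1.prod (h.1 h1)
  obtain ⟨a, ha⟩ := hV
  obtain ⟨b, hb⟩ := hW
  rcases le_total a b with h2 | h2
  · exact isPlus_prod_of_not hQ hR (a := a) (k := b - a) (by omega) (by omega) h1 (mt h.2 h1)
  · exact iso_comm.isPlus
      (isPlus_prod_of_not hR hQ (a := b) (k := a - b) (by omega) (by omega) (mt h.2 h1) h1)

open Classical in
/-- the type of a form -/
noncomputable def ty (Q : QuadraticForm F V) : ℤˣ :=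
  if Even (finrank F V) then (if IsPlus Q then 1 else -1)
  else disc Q * sgn (-1 : F) ^ (finrank F V / 2)

theorem isPlus_iff_ty (h : Even (finrank F V)) : IsPlus Q ↔ ty Q = 1 := by
  simp [ty, h]

theorem ND.ty_eq (hQ : ND Q) (h2 : (2 : F) ≠ 0) : ty Q = disc Q * sgn (-1 : F) ^ (finrank F V / 2) := by
  unfold ty
  split_ifs with h h1
  · obtain ⟨m, hm⟩ := h
    rw [(hQ.isPlus_iff_disc h2 (m := m) (by omega)).1 h1, show finrank F V / 2 = m by omega,
      Int.units_mul_self]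
  · obtain ⟨m, hm⟩ := h
    rw [hQ.isPlus_iff_disc h2 (m := m) (by omega)] at h1
    rw [show finrank F V / 2 = m by omega, Int.units_ne_iff_eq_neg.1 h1, neg_mul, Int.units_mul_self]
  · rfl

theorem Iso.ty_eq (h : Iso Q R) (hQ : ND Q) : ty R = ty Q := by
  unfold ty
  rw [← h.finrank_eq, hQ.disc_of_isometry _ h.choose_spec,
    show IsPlus R ↔ IsPlus Q from ⟨h.symm.isPlus, h.isPlus⟩]

theorem ND.iso_of_ty (hQ : ND Q) (hR : ND R) (h : finrank F V = finrank F W) (h1 : ty Q = ty R) :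
    Iso Q R := by
  rcases (finrank F V).even_or_odd with h2 | h2
  · obtain ⟨m, hm⟩ := id h2
    exact hQ.equiv_of_isPlus_iff hR (m := m) (by omega) (by omega)
      (by rw [isPlus_iff_ty h2, isPlus_iff_ty (h ▸ h2), h1])
  · have h3 := hQ.two_ne_zero_of_odd h2
    rw [hQ.ty_eq h3, hR.ty_eq h3, h, mul_left_inj] at h1
    exact hQ.exists_isometry_of_disc_eq h3 hR h h1

theorem ND.disc_prod (hQ : ND Q) (hR : ND R) : disc (Q.prod R) = disc Q * disc R := by
  rw [(hQ.prod hR).disc_eq ((finBasis F V).prod (finBasis F W)), disc, disc,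
    ← sgn_mul (gdet_ne_zero hQ.nondeg _) (gdet_ne_zero hR.nondeg _), gdet, gdet, gdet,
    ← Matrix.det_fromBlocks_zero₂₁ _ 0]
  congr 2
  ext (i | i) (j | j) <;> simp

variable (F) in
/-- correction factor for the sum of two odd-dimensional spaces -/
noncomputable def kap (m n : ℕ) : ℤˣ := sgn (-1 : F) ^ ((m % 2 + n % 2) / 2)

omit [Fintype F] in
theorem kap_of_even {m n : ℕ} (h : Even m ∨ Even n) : kap F m n = 1 := by
  rw [kap, show (m % 2 + n % 2) / 2 = 0 by rw [Nat.even_iff, Nat.even_iff] at h; omega, pow_zero]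

theorem ND.ty_prod (hQ : ND Q) (hR : ND R) :
    ty (Q.prod R) = kap F (finrank F V) (finrank F W) * ty Q * ty R := by
  by_cases h2 : (2 : F) = 0
  · have h1 := Nat.not_odd_iff_even.1 (mt hQ.two_ne_zero_of_odd (not_not.2 h2))
    have h3 := Nat.not_odd_iff_even.1 (mt hR.two_ne_zero_of_odd (not_not.2 h2))
    have h4 := isPlus_prod_iff hQ hR h1 h3
    rw [isPlus_iff_ty h1, isPlus_iff_ty h3, isPlus_iff_ty (by simpa using h1.add h3)] at h4
    rw [kap_of_even (.inl h1)]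
    revert h4
    generalize ty (Q.prod R) = a, ty Q = b, ty R = c
    revert a b c
    decide
  · rw [hQ.ty_eq h2, hR.ty_eq h2, (hQ.prod hR).ty_eq h2, hQ.disc_prod hR, kap, finrank_prod,
      show (finrank F V + finrank F W) / 2 = (finrank F V % 2 + finrank F W % 2) / 2 + finrank F V / 2 +
        finrank F W / 2 by omega, pow_add, pow_add]
    ac_rfl

theorem exists_ty (h : Even (finrank F V) ∨ (2 : F) ≠ 0) {δ : ℤˣ} (h0 : finrank F V = 0 → δ = 1) :
    ∃ Q : QuadraticForm F V, ND Q ∧ ty Q = δ := by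
  have key {X : Type u} [AddCommGroup X] [Module F X] [FiniteDimensional F X] {S : QuadraticForm F X}
      (hS : ND S) (h1 : finrank F X = finrank F V) (h2 : ty S = δ) :
      ∃ Q : QuadraticForm F V, ND Q ∧ ty Q = δ :=
    have : Iso S (S.comp (LinearEquiv.ofFinrankEq _ _ h1).symm.toLinearMap) :=
      ⟨.ofFinrankEq _ _ h1, fun v => by simp⟩
    ⟨_, this.nd hS, (this.ty_eq hS).trans h2⟩
  obtain ⟨m, hm | hm⟩ := (finrank F V).even_or_odd'
  · rcases Int.units_eq_one_or δ with rfl | rfl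
    · exact key (nd_QPlus (m := m)) (by simp; omega) ((isPlus_iff_ty (by simp)).1 (isPlus_QPlus m))
    · obtain ⟨a, b, hab⟩ := exists_anisotropic_binary F
      have : m ≠ 0 := by rintro rfl; simpa using h0 hm
      exact key (nd_QMinus (m := m - 1) hab) (by simp; omega) (Int.units_ne_iff_eq_neg.1
        (mt (isPlus_iff_ty (by simp [parity_simps])).2 (not_isPlus_QMinus hab)))
  · have h2 := h.resolve_left (by simp [hm])
    have h3 := nd_QOdd (m := m) h2
    by_cases h1 : ty (QOdd m F) = δ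
    · exact key h3 (by simp; omega) h1
    obtain ⟨c, hc, hc'⟩ := exists_sgn_eq_neg_one h2
    have h4 := (SemiSim.ofLinear (R := c • QOdd m F) (.refl _ _) c hc fun _ => rfl).nd h3
    refine key h4 (by simp; omega) ?_
    rw [h4.ty_eq h2, h3.disc_of_similar (R := c • QOdd m F) (.refl _ _) hc fun _ => rfl, hc',
      Odd.neg_one_pow (by simp [parity_simps]), mul_assoc, ← h3.ty_eq h2,
      Int.units_ne_iff_eq_neg.1 h1]
    simp

/-- a non-degenerate subspace of given dimension and type -/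
structure NS (Q : QuadraticForm F V) (U : Submodule F V) (m : ℕ) (δ : ℤˣ) : Prop where
  nd : ND (Q.restrict U)
  rk : finrank F U = m
  tp : ty (Q.restrict U) = δ

variable {U U' : Submodule F V} {m m' : ℕ} {δ δ' : ℤˣ}

theorem ND.ns (h : ND (Q.restrict U)) : NS Q U (finrank F U) (ty (Q.restrict U)) := ⟨h, rfl, rfl⟩

theorem ND.ns_range (hR : ND R) {j : W →ₗ[F] V} (h : ∀ w, Q (j w) = R w) :
    NS Q (LinearMap.range j) (finrank F W) (ty R) :=
  ⟨(hR.iso_range h).nd hR, (hR.iso_range h).finrank_eq.symm, (hR.iso_range h).ty_eq hR⟩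

theorem ND.ns_top (hQ : ND Q) : NS Q ⊤ (finrank F V) (ty Q) := by
  simpa using hQ.ns_range (j := .id) fun _ => rfl

theorem NS.map {U : Submodule F W} (hU : NS R U m δ) {j : W →ₗ[F] V} (h : ∀ w, Q (j w) = R w) :
    NS Q (U.map j) m δ := by
  simpa [LinearMap.range_comp, hU.rk, hU.tp] using hU.nd.ns_range (j := j ∘ₗ U.subtype) fun w => h w

theorem NS.sup' (h : NS Q U m δ) (h' : NS Q U' m' δ') (h1 : U' ≤ perp Q U) :
    NS Q (U ⊔ U') (m + m') (kap F m m' * δ * δ') := by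
  simpa [LinearMap.range_coprod, h.rk, h'.rk, h.tp, h'.tp, h.nd.ty_prod h'.nd] using
    (h.nd.prod h'.nd).ns_range (Q := Q) (j := U.subtype.coprod U'.subtype) fun w => by
      simp [Q_add, mem_perp.1 (h1 w.2.2) _ w.1.2, restrict_apply']

theorem NS.sup (h : NS Q U m δ) (h' : NS Q U' m' δ') (h1 : U' ≤ perp Q U) (h2 : Even m ∨ Even m') :
    NS Q (U ⊔ U') (m + m') (δ * δ') := by simpa [kap_of_even h2] using h.sup' h' h1

theorem NS.iso {U' : Submodule F W} (h : NS Q U m δ) (h' : NS R U' m δ) :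
    Iso (Q.restrict U) (R.restrict U') := h.nd.iso_of_ty h'.nd (h.rk.trans h'.rk.symm) (h.tp.trans h'.tp.symm)

theorem NS.of_iso {U' : Submodule F W} (h : NS Q U m δ) (h' : Iso (Q.restrict U) (R.restrict U')) :
    NS R U' m δ := ⟨h'.nd h.nd, h'.finrank_eq.symm.trans h.rk, (h'.ty_eq h.nd).trans h.tp⟩

theorem NS.isPlus_iff (h : NS Q U m δ) (h1 : Even m) : IsPlus (Q.restrict U) ↔ δ = 1 := by
  rw [isPlus_iff_ty (h.rk ▸ h1), h.tp]

theorem NS.even_or (h : NS Q U m δ) : Even m ∨ (2 : F) ≠ 0 :=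
  m.even_or_odd.imp_right fun h1 => h.nd.two_ne_zero_of_odd (h.rk ▸ h1)

theorem NS.eq_one (h : NS Q U 0 δ) : δ = 1 :=
  (h.isPlus_iff (by simp)).1 ⟨⊥, by simp [h.rk], by simp⟩

theorem ns_bot : NS Q ⊥ 0 1 :=
  have : ND (Q.restrict ⊥) := fun _ _ => Subsingleton.elim _ _
  ⟨this, by simp, NS.eq_one (by simpa using this.ns)⟩

theorem NS.trans_map (hQ : ND Q) (h : NS Q U m δ) (h' : NS Q U' m δ) :
    ∃ g : OG Q, U.map (g.1 : V →ₗ[F] V) = U' :=
  hQ.exists_map_eq _ (h.iso h').choose_spec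

/-- a space of dimension `e` and type `ε` has a subspace of dimension `m` and type `δ` -/
def Emb (m : ℕ) (δ : ℤˣ) (e : ℕ) (ε : ℤˣ) : Prop := m ≤ e ∧ (m = 0 → δ = 1) ∧ (m = e → δ = ε)

theorem NS.emb (h : NS Q U m δ) (h' : NS Q U' m' δ') (h1 : U ≤ U') : Emb m δ m' δ' :=
  ⟨h.rk ▸ h'.rk ▸ Submodule.finrank_mono h1, fun h2 => (h2 ▸ h).eq_one, fun h2 => by
    obtain rfl := Submodule.eq_of_le_of_finrank_eq h1 (by rw [h.rk, h'.rk, h2])
    exact h.tp.symm.trans h'.tp⟩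

theorem ND.exists_emb (hQ : ND Q) (hR : ND R) (h : Emb (finrank F W) (ty R) (finrank F V) (ty Q)) :
    ∃ j : W →ₗ[F] V, ∀ w, Q (j w) = R w := by
  rcases h.1.eq_or_lt with h1 | h1
  · obtain ⟨e, he⟩ := hR.iso_of_ty hQ h1 (h.2.2 h1)
    exact ⟨e, he⟩
  obtain ⟨S, h2, h3⟩ := exists_ty (F := F) (V := Fin (finrank F V - finrank F W) → F)
    (δ := kap F (finrank F W) (finrank F V - finrank F W) * ty R * ty Q) (by
      rcases hQ.ns_top.even_or with h2 | h2
      · exact hR.ns_top.even_or.imp_left fun h3 => by simpa [Nat.even_sub h1.le, h2]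
      · exact .inr h2) (by simp; omega)
  obtain ⟨e, he⟩ := (hR.prod h2).iso_of_ty hQ (by simp; omega) (by
    rw [hR.ty_prod h2, h3, finrank_fin_fun, ← mul_assoc, Int.units_mul_self, one_mul])
  exact ⟨e.toLinearMap ∘ₗ .inl F _ _, fun w => by simp [he]⟩

theorem NS.exists_le (h : NS Q U' m' δ') (h1 : Even m ∨ (2 : F) ≠ 0) (h2 : Emb m δ m' δ') :
    ∃ U ≤ U', NS Q U m δ := by
  obtain ⟨R, h3, h4⟩ := exists_ty (F := F) (V := Fin m → F) (δ := δ) (by simpa) (by simpa using h2.2.1)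
  obtain ⟨j, hj⟩ := h.nd.exists_emb h3 (by simpa [h4, h.rk, h.tp])
  exact ⟨LinearMap.range (U'.subtype ∘ₗ j), by rintro _ ⟨w, rfl⟩; exact (j w).2, by
    simpa [h4] using h3.ns_range (Q := Q) (j := U'.subtype ∘ₗ j) hj⟩

theorem NS.exists_ts_iff (h : NS Q U m δ) (k : ℕ) :
    (∃ T ≤ U, finrank F T = k ∧ ∀ w ∈ T, Q w = 0) ↔ 2 * k ≤ m ∧ (2 * k = m → δ = 1) := by
  refine ⟨fun ⟨T, h1, h2, h3⟩ => ⟨?_, fun h4 => (h.isPlus_iff ⟨k, by omega⟩).1
    (isPlus_restrict_iff.2 ⟨T, h1, h3, by rw [h2, h4, h.rk]⟩)⟩, fun ⟨h1, h2⟩ => ?_⟩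
  · rw [← h.rk, ← h2, ← (Submodule.comapSubtypeEquivOfLe h1).finrank_eq]
    exact h.nd.two_mul_finrank_le fun w hw => h3 _ hw
  · obtain ⟨U', h3, h4⟩ := h.exists_le (δ := 1) (.inl (even_two_mul k)) ⟨h1, fun _ => rfl, fun h => (h2 h).symm⟩
    obtain ⟨T, h5, h6, h7⟩ := isPlus_restrict_iff.1 ((h4.isPlus_iff (even_two_mul k)).2 rfl)
    exact ⟨T, h5.trans h3, by have := h4.rk; omega, h6⟩

theorem NS.orth (hQ : ND Q) (h : NS Q U m δ) :
    NS Q (perp Q U) (finrank F V - m) (kap F m (finrank F V - m) * δ * ty Q) := by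
  have h1 := (hQ.nd_perp h.nd).ns
  have h2 := h.sup' h1 le_rfl
  rw [(hQ.isCompl h.nd).sup_eq_top] at h2
  have h3 : finrank F (perp Q U) = finrank F V - m := by have := h2.rk; simp at this; omega
  rw [← hQ.ns_top.tp, h2.tp, h3, ← mul_assoc, Int.units_mul_self, one_mul]
  exact h3 ▸ h1

end Cfsg.Agent.H13
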