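import Cfsg.Agent.H13.EO1

/-!
Multisets of roots of unity stable under the Frobenius map; isometries of prime order without
fixed points.
-/

set_option autoImplicit false

namespace Cfsg.Agent.H13

open Module H28 QuadraticMap Polynomial

section Comb

variable {k : Type*} [Field k] {r q : ℕ} {M N : Multiset k} {x : k}

/-- a multiset of primitive `r`-th roots of unity stable under `q`-th powers -/
structure Gdm (r q : ℕ) (M : Multiset k) : Prop where
  mem : ∀ x ∈ M, x ^ r = 1 ∧ x ≠ 1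
  pow : M.map (· ^ q) = M

theorem gd_zero : Gdm r q (0 : Multiset k) := ⟨by simp, rfl⟩

theorem Gdm.add (h : Gdm r q M) (h' : Gdm r q N) : Gdm r q (M + N) :=
  ⟨fun x hx => (Multiset.mem_add.1 hx).elim (h.mem x) (h'.mem x), by simp [h.pow, h'.pow]⟩

theorem Gdm.of_add (h : Gdm r q (M + N)) (h' : Gdm r q M) : Gdm r q N :=
  ⟨fun x hx => h.mem x (by simp [hx]), by simpa [h'.pow] using h.pow⟩

theorem Gdm.nsmul (h : Gdm r q M) (n : ℕ) : Gdm r q (n • M) :=
  ⟨fun x hx => h.mem x (Multiset.mem_of_mem_nsmul hx), by simp [Multiset.map_nsmul, h.pow]⟩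

theorem Gdm.inv (h : Gdm r q M) : Gdm r q (M.map (·⁻¹)) :=
  ⟨by simpa using h.mem, by conv_rhs => rw [← h.pow]
                            simp⟩

theorem Gdm.pow_mem (h : Gdm r q M) (hx : x ∈ M) (j : ℕ) : x ^ q ^ j ∈ M := by
  induction j with
  | zero => simpa
  | succ j ih => rw [pow_succ, pow_mul, ← h.pow]; exact Multiset.mem_map_of_mem _ ih

variable [hr : Fact r.Prime] {i : ℕ} (hi : i = orderOf (q : ZMod r)) (hq : (q : ZMod r) ≠ 0)
include hi hq

theorem pow_pow_eq_iff (h : x ^ r = 1 ∧ x ≠ 1) (a b : ℕ) : x ^ q ^ a = x ^ q ^ b ↔ a ≡ b [MOD i] := by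
  rw [(isOfFinOrder_iff_pow_eq_one.2 ⟨r, hr.out.pos, h.1⟩).pow_eq_pow_iff_modEq,
    orderOf_eq_prime h.1 h.2, ← ZMod.natCast_eq_natCast_iff, Nat.cast_pow, Nat.cast_pow,
    (orderOf_pos_iff.1 (orderOf_pos_zmod hq)).pow_eq_pow_iff_modEq, hi]

theorem exists_orb (h : x ^ r = 1 ∧ x ≠ 1) : ∃ O : Multiset k, O.Nodup ∧ O.card = i ∧ Gdm r q O ∧
    ∀ y, y ∈ O ↔ ∃ j, x ^ q ^ j = y := by
  have h0 : 0 < i := hi ▸ orderOf_pos_zmod hq
  have h1 (y) : y ∈ (Multiset.range i).map (x ^ q ^ ·) ↔ ∃ j, x ^ q ^ j = y := by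
    simp only [Multiset.mem_map, Multiset.mem_range]
    exact ⟨fun ⟨j, _, h⟩ => ⟨j, h⟩, fun ⟨j, hj⟩ => ⟨j % i, Nat.mod_lt _ h0,
      ((pow_pow_eq_iff hi hq h _ _).2 (Nat.mod_modEq _ _)).trans hj⟩⟩
  have h2 (c : ℕ) : ((Multiset.range i).map fun j => x ^ q ^ (j + c)).Nodup :=
    (Multiset.nodup_range i).map_on fun a ha b hb h3 => Nat.ModEq.eq_of_lt_of_lt
      (((pow_pow_eq_iff hi hq h _ _).1 h3).add_right_cancel' c) (by simpa using ha) (by simpa using hb)
  refine ⟨_, h2 0, by simp, ⟨fun y hy => ?_, ?_⟩, h1⟩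
  · obtain ⟨j, rfl⟩ := (h1 y).1 hy
    refine ⟨by rw [← pow_mul, mul_comm, pow_mul, h.1, one_pow], fun h3 => hq ?_⟩
    rw [← orderOf_dvd_iff_pow_eq_one, orderOf_eq_prime h.1 h.2] at h3
    exact (ZMod.natCast_eq_zero_iff _ _).2 (hr.out.dvd_of_dvd_pow h3)
  · refine Multiset.eq_of_le_of_card_le ((Multiset.le_iff_subset ?_).2 fun y hy => ?_) (by simp)
    · simpa [pow_succ, pow_mul] using h2 1
    · simp only [Multiset.map_map, Multiset.mem_map] at hy
      obtain ⟨j, -, rfl⟩ := hy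
      exact (h1 _).2 ⟨j + 1, by simp [pow_succ, pow_mul]⟩

theorem Gdm.exists_le (h : Gdm r q M) : ∃ β, M.card = i * β ∧
    ∀ b ≤ β, ∃ N ≤ M, Gdm r q N ∧ N.card = i * b := by
  induction M using Multiset.strongInductionOn with | _ M ih
  rcases M.empty_or_exists_mem with rfl | ⟨x, hx⟩
  · exact ⟨0, rfl, fun b hb => ⟨0, le_rfl, gd_zero, by simp [Nat.le_zero.1 hb]⟩⟩
  obtain ⟨O, h1, h2, h3, h4⟩ := exists_orb hi hq (h.mem x hx)
  obtain ⟨M', rfl⟩ := Multiset.le_iff_exists_add.1 ((Multiset.le_iff_subset h1).2 fun y hy => by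
    obtain ⟨j, rfl⟩ := (h4 y).1 hy
    exact h.pow_mem hx j)
  obtain ⟨β, h5, h6⟩ := ih M' (lt_add_of_pos_left _ (Multiset.card_pos.1 (h2 ▸ hi ▸ orderOf_pos_zmod hq)).bot_lt)
    (h.of_add h3)
  refine ⟨β + 1, by simp [h2, h5]; ring, fun b hb => ?_⟩
  obtain _ | b := b
  · exact ⟨0, zero_le, gd_zero, rfl⟩
  obtain ⟨N, h7, h8, h9⟩ := h6 b (by omega)
  exact ⟨O + N, by gcongr, h3.add h8, by simp [h2, h9]; ring⟩

theorem Gdm.inv_eq (h : Gdm r q M) (h1 : Even i) : M.map (·⁻¹) = M := by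
  obtain ⟨j, hj⟩ := h1
  have := orderOf_pos_zmod hq
  simpa using map_zpow_of_eq hr.out.ne_zero (fun x hx => (h.mem x hx).1) (z := q) (w := -1) (j := j)
    (by simpa using h.pow) (by simp [pow_half_eq (x := (q : ZMod r)) (j := j) (by omega) (by omega)])

theorem Gdm.exists_split (hφ : Function.Injective fun x : k => x ^ q) (hr2 : r ≠ 2) (h : Gdm r q M)
    (h' : M.map (·⁻¹) = M) : ∃ N S, Gdm r q N ∧ Gdm r q S ∧ S.Nodup ∧ (Odd i → S = 0) ∧
      M = N + N.map (·⁻¹) + S := by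
  classical
  induction M using Multiset.strongInductionOn with | _ M ih
  by_cases h1 : ∃ O, Gdm r q O ∧ O ≠ 0 ∧ O + O.map (·⁻¹) ≤ M
  · obtain ⟨O, h1, h2, h3⟩ := h1
    obtain ⟨M', rfl⟩ := Multiset.le_iff_exists_add.1 h3
    obtain ⟨N, S, h4, h5, h6, h7, rfl⟩ := ih M' (lt_add_of_pos_left _ (add_pos_of_pos_of_nonneg h2.bot_lt
      zero_le)) (h.of_add (h1.add h1.inv)) (by simpa [add_comm O] using h')
    exact ⟨O + N, S, h1.add h4, h5, h6, h7, by simp only [Multiset.map_add]; abel⟩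
  have h2 {x} (hx : x ∈ M) : ∃ O : Multiset k, O.Nodup ∧ (∀ y, y ∈ O ↔ ∃ j, x ^ q ^ j = y) ∧
      (∀ y ∈ O + O.map (·⁻¹), M.count y = M.count x) ∧ ¬ O + O.map (·⁻¹) ≤ M := by
    obtain ⟨O, h2, -, h3, h4⟩ := exists_orb hi hq (h.mem x hx)
    have h5 (y) (hy : y ∈ O) : M.count y = M.count x := by
      obtain ⟨j, rfl⟩ := (h4 y).1 hy
      exact (congrFun (pow_iterate q j) x).symm ▸ count_iterate hφ h.pow x j
    refine ⟨O, h2, h4, fun y hy => (Multiset.mem_add.1 hy).elim (h5 y) fun hy => ?_,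
      fun h6 => h1 ⟨O, h3, fun h7 => by simpa [h7] using (h4 x).2 ⟨0, by simp⟩, h6⟩⟩
    obtain ⟨z, hz, rfl⟩ := Multiset.mem_map.1 hy
    rw [← h5 z hz, ← Multiset.count_map_eq_count' _ M inv_injective z, h']
  refine ⟨0, M, gd_zero, h, Multiset.nodup_iff_count_le_one.2 fun x => ?_, fun h3 => ?_, by simp⟩
  · by_contra! h3
    obtain ⟨O, h4, -, h5, h6⟩ := h2 (Multiset.count_pos.1 (by omega : 0 < M.count x))
    refine h6 (Multiset.le_iff_count.2 fun y => ?_)
    by_cases hy : y ∈ O + O.map (·⁻¹)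
    · have := Multiset.nodup_iff_count_le_one.1 h4 y
      have := Multiset.nodup_iff_count_le_one.1 (h4.map (f := (·⁻¹)) inv_injective) y
      rw [h5 y hy, Multiset.count_add]
      omega
    · simp [Multiset.count_eq_zero.2 hy]
  · refine Multiset.eq_zero_of_forall_notMem fun x hx => ?_
    obtain ⟨O, h4, h7, h5, h6⟩ := h2 hx
    refine h6 ((Multiset.le_iff_subset (Multiset.nodup_add.2 ⟨h4, h4.map inv_injective,
      Multiset.disjoint_left.2 fun {y} hy hy' => ?_⟩)).2 fun y hy => by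
        rw [← Multiset.count_pos, h5 y hy, Multiset.count_pos]; exact hx)
    obtain ⟨z, hz, rfl⟩ := Multiset.mem_map.1 hy'
    obtain ⟨a, ha⟩ := (h7 _).1 hy
    obtain ⟨b, rfl⟩ := (h7 _).1 hz
    have h8 : x ^ q ^ (2 * a) = x ^ q ^ (2 * b) := by
      rw [two_mul, pow_add, pow_mul, ha, inv_pow, pow_right_comm, ha, inv_pow, inv_inv, two_mul, pow_add, pow_mul]
    rw [pow_pow_eq_iff hi hq (h.mem x hx)] at h8
    rw [(pow_pow_eq_iff hi hq (h.mem x hx) a b).2 (h8.cancel_left_of_coprime (Nat.coprime_two_right.2 h3))] at ha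
    have h9 := h.mem _ (h.pow_mem hx b)
    exact sq_ne_one_of_dvd hr.out hr2 (orderOf_eq_prime h9.1 h9.2).symm.dvd (by
      rw [pow_two]; nth_rw 1 [ha]; exact inv_mul_cancel₀ fun h0 => by simpa [h0, hr.out.ne_zero] using h9.1)

omit hi hq in
theorem Gdm.card_le (h : Gdm r q M) (h1 : M.Nodup) : M.card ≤ r - 1 := by
  simpa [Nat.le_sub_iff_add_le hr.out.one_le] using (Multiset.card_le_card ((Multiset.le_iff_subset
    (Multiset.nodup_cons.2 ⟨fun h2 => (h.mem 1 h2).2 rfl, h1⟩)).2 fun x hx => (mem_nthRoots hr.out.pos).2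
      ((Multiset.mem_cons.1 hx).elim (by simp +contextual) fun hx => (h.mem x hx).1))).trans
        (card_nthRoots r (1 : k))

theorem exists_gd (hφ : Function.Injective fun x : k => x ^ q) {ζ : k} (hζ : IsPrimitiveRoot ζ r)
    {o : ℕ} (ho : o ≤ (r - 1) / i) : ∃ S : Multiset k, Gdm r q S ∧ S.Nodup ∧ S.card = i * o := by
  have h1 (x : k) : x ∈ primitiveRoots r k ↔ x ^ r = 1 ∧ x ≠ 1 := by
    rw [mem_primitiveRoots hr.out.pos, IsPrimitiveRoot.iff_orderOf, orderOf_eq_prime_iff]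
  obtain ⟨β, h2, h3⟩ := Gdm.exists_le hi hq (M := (primitiveRoots r k).val) ⟨fun x hx => (h1 x).1 hx,
    map_val_eq hφ fun x hx => (h1 _).2 ⟨by rw [pow_right_comm, ((h1 x).1 hx).1, one_pow],
      fun h => ((h1 x).1 hx).2 (hφ (by simpa))⟩⟩
  rw [Finset.card_val, hζ.card_primitiveRoots, Nat.totient_prime hr.out] at h2
  obtain ⟨S, h4, h5⟩ := h3 o (by rwa [h2, Nat.mul_div_cancel_left _ (hi ▸ orderOf_pos_zmod hq)] at ho)
  exact ⟨S, h5.1, Multiset.nodup_of_le h4 (Finset.nodup _), h5.2⟩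

end Comb

universe u

variable {F : Type u} {V W : Type*} [Field F] [AddCommGroup V] [Module F V] [AddCommGroup W]
  [Module F W] {Q : QuadraticForm F V} {R : QuadraticForm F W} {a : End F V} {b : End F W} {r : ℕ}

local notation "K" => AlgebraicClosure F
local notation "ι" => algebraMap F (AlgebraicClosure F)

/-- the hyperbolic space on `V` and its dual -/
def hyq (F V : Type*) [Field F] [AddCommGroup V] [Module F V] : QuadraticForm F (V × Dual F V) :=
  LinearMap.BilinMap.toQuadraticMap ((Dual.eval F V).compl₁₂ (.fst _ _ _) (.snd _ _ _))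

@[simp] theorem hyq_apply (x : V × Dual F V) : hyq F V x = x.2 x.1 := rfl

theorem nd_hyq : ND (hyq F V) := fun x hx => Prod.ext
  ((forall_dual_apply_eq_zero_iff F _).1 fun φ => by simpa [polar] using hx (0, φ))
  (LinearMap.ext fun v => by simpa [polar] using hx (v, 0))

theorem Iv.perp (ha : ∀ x, Q (a x) = Q x) {U : Submodule F V} (h : U.map a = U) : Iv a (perp Q U) :=
  fun v hv => mem_perp.2 fun w hw => by
    obtain ⟨u, hu, rfl⟩ := h.ge hw
    exact (polar_map ha _ _).trans (mem_perp.1 hv u hu)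

variable [FiniteDimensional F V] [FiniteDimensional F W]

theorem rts_of_pairing (B : V →ₗ[F] W →ₗ[F] F) (sep : ∀ x, (∀ y, B x y = 0) → x = 0)
    (h : finrank F W = finrank F V) (ha : ∀ x y, B (a x) (b y) = B x y) :
    rts b = (rts a).map (·⁻¹) := by
  let e := finBasis F V
  let e' := finBasisOfFinrankEq F W h
  set A := LinearMap.toMatrix e e a with hA
  set A' := LinearMap.toMatrix e' e' b with hA'
  let G : Matrix (Fin (finrank F V)) (Fin (finrank F V)) F := Matrix.of fun i j => B (e i) (e' j)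
  have h1 : A.transpose * G * A' = G := by
    ext i j
    have e1 : ∀ i, a (e i) = ∑ k, A k i • e k := fun i => by simp [hA, LinearMap.toMatrix_apply]
    have e2 : ∀ i, b (e' i) = ∑ k, A' k i • e' k := fun i => by simp [hA', LinearMap.toMatrix_apply]
    rw [show G i j = B (e i) (e' j) from rfl, ← ha, e1, e2]
    simp [Matrix.mul_apply, G, Finset.mul_sum, mul_comm, mul_left_comm, LinearMap.sum_apply]
  have h2 : G.det ≠ 0 := fun h => by
    obtain ⟨v, hv, h⟩ := Matrix.exists_vecMul_eq_zero_iff.2 h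
    have : ∑ i, v i • e i = 0 := sep _ fun y => by
      have : B (∑ i, v i • e i) = 0 := e'.ext fun j => by
        simpa [Matrix.vecMul, dotProduct, G, LinearMap.sum_apply] using congrFun h j
      rw [this, LinearMap.zero_apply]
    exact hv (funext fun i => Fintype.linearIndependent_iff.1 e.linearIndependent _ this i)
  have h3 : A'.det ≠ 0 := fun h => by
    have := congrArg Matrix.det h1
    rw [Matrix.det_mul, h, mul_zero] at this
    exact h2 this.symm
  have h4 : A'⁻¹.charpoly = A.charpoly := by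
    have : A'⁻¹ = G⁻¹ * (A.transpose * G) := by
      refine Matrix.inv_eq_left_inv ?_
      rw [Matrix.mul_assoc, h1, Matrix.nonsing_inv_mul _ h2.isUnit]
    rw [this, Matrix.charpoly_mul_comm, Matrix.mul_assoc, Matrix.mul_nonsing_inv _ h2.isUnit,
      Matrix.mul_one, Matrix.charpoly_transpose]
  have h5 : (A'.map ι)⁻¹ = A'⁻¹.map ι := Matrix.inv_eq_left_inv (by
    rw [← Matrix.map_mul, Matrix.nonsing_inv_mul _ h3.isUnit]; simp)
  have h6 := roots_charpoly_inv (A := A'.map ι) (by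
    rw [← RingHom.mapMatrix_apply, ← RingHom.map_det]; simpa using h3)
  rw [h5, Matrix.charpoly_map, h4, Matrix.charpoly_map, ← Matrix.charpoly_map A, ← rts_eq,
    ← Matrix.charpoly_map, ← rts_eq] at h6
  simp [h6]

theorem rts_le (hr : (r : F) ≠ 0) (ha : a ^ r = 1) {j : W →ₗ[F] V} (hj : Function.Injective j)
    (h : ∀ w, j (b w) = a (j w)) : rts b ≤ rts a := by
  obtain ⟨h1, h2⟩ := edOn_range j hj h
  have h3 := edOn_le_of_ss (squarefree_X_pow_sub_C hr one_ne_zero) (aeval_X_pow_sub_C (by simpa)) h1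
    (iv_top a) le_top
  rw [h2, edOn_top] at h3
  refine roots.le_of_dvd (a.charpoly_monic.map _).ne_zero (Polynomial.map_dvd _ ?_)
  rw [charpoly_eq_prod_ed, charpoly_eq_prod_ed]
  exact Multiset.prod_dvd_prod_of_le (Multiset.map_le_map h3)

theorem ND.rts_le_of_ts (hQ : ND Q) (ha : ∀ x, Q (a x) = Q x) (hr : (r : F) ≠ 0) (h : a ^ r = 1)
    {T : Submodule F V} (hT : Iv a T) (h0 : ∀ w ∈ T, Q w = 0) :
    rts (a.restrict hT) + (rts (a.restrict hT)).map (·⁻¹) ≤ rts a := by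
  obtain ⟨T', h1, h2⟩ := Iv.exists_compl (squarefree_X_pow_sub_C hr one_ne_zero)
    (aeval_X_pow_sub_C (by simpa)) (Iv.perp ha (hT.map_eq (hQ.inj ha)))
  rw [← rts_of_pairing (a := a.restrict hT) (b := a.restrict h1)
    ((polarBilin Q).compl₁₂ T.subtype T'.subtype) (fun x hx =>
    Subtype.ext (hQ _ fun y => ?_)) ?_ fun x y => polar_map ha _ _, ← rts_prodMap]
  · refine rts_le hr h (j := T.subtype.coprod T'.subtype) ?_ fun w => (a.map_add _ _).symm
    rw [← LinearMap.ker_eq_bot, LinearMap.ker_coprod_of_disjoint_range _ _ (by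
      simpa using h2.disjoint.mono_left (le_perp_of_singular h0))]
    simp
  · have := Submodule.finrank_add_eq_of_isCompl h2
    have := hQ.finrank_perp T
    omega
  · obtain ⟨y, hy, z, hz, rfl⟩ := Submodule.mem_sup.1 (h2.sup_eq_top.ge (Submodule.mem_top (x := y)))
    simpa [mem_perp.1 hy _ x.2] using hx ⟨z, hz⟩

/-- an isometry of order dividing `r` without fixed points -/
structure Fpf (r : ℕ) (Q : QuadraticForm F V) (a : End F V) : Prop where
  nd : ND Q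
  map : ∀ x, Q (a x) = Q x
  pow : a ^ r = 1
  ne : ∀ x ∈ rts a, x ≠ 1

theorem Fpf.eq_zero (h : Fpf r Q a) {v : V} (hv : a v = v) : v = 0 := by
  by_contra h0
  exact h.ne _ (mem_rts_of_apply h0 (c := 1) (by simpa)) (by simp)

theorem one_notMem_rts (h : ∀ v, a v = v → v = 0) : ∀ x ∈ rts a, x ≠ 1 := by
  rintro _ hx rfl
  rw [rts, mem_roots (a.charpoly_monic.map _).ne_zero, IsRoot, ← map_one ι, eval_map, eval₂_hom,
    map_eq_zero] at hx
  obtain ⟨v, hv⟩ := ((End.hasEigenvalue_iff_isRoot_charpoly a 1).2 hx).exists_hasEigenvector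
  exact hv.2 (h v (by simpa using hv.apply_eq_smul))

theorem Fpf.prod (h : Fpf r Q a) (h' : Fpf r R b) : Fpf r (Q.prod R) (a.prodMap b) :=
  ⟨h.nd.prod h'.nd, by simp [h.map, h'.map], by rw [prodMap_pow, h.pow, h'.pow, LinearMap.prodMap_one],
    fun x hx => (Multiset.mem_add.1 (rts_prodMap a b ▸ hx)).elim (h.ne x) (h'.ne x)⟩

theorem ND.exists_ext (hQ : ND Q) (hR : ND R) {j : W →ₗ[F] V} (hj : ∀ w, Q (j w) = R w)
    (hb : ∀ w, R (b w) = R w) : ∃ g : OG Q, (∀ w, g.1 (j w) = j (b w)) ∧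
      ∀ z ∈ perp Q (LinearMap.range j), g.1 z = z := by
  have h1 := hQ.isCompl ((hR.iso_range hj).nd hR)
  let s := SemiSim.ofIsometry (R := Q.restrict (LinearMap.range j)) (.ofInjective j (hR.inj hj)) hj
  let b' : OG R := ⟨.ofInjectiveEndo b (hR.inj hb), hb⟩
  exact ⟨extOG h1 (s.conj b'), fun w => (extOG_apply_mem h1 _ (s.e w)).trans
    (congrArg Subtype.val (s.conj_apply_e b' w)), fun z => extOG_apply_perp h1 _⟩

variable [Fintype F]

theorem gd_rts (h : a ^ r = 1) (h1 : ∀ x ∈ rts a, x ≠ 1) : Gdm r (Fintype.card F) (rts a) :=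
  let ρ := FiniteField.frobeniusAlgHom F K
  ⟨fun x hx => ⟨by simpa using pow_eq_of_mem_rts hx (c := 1) (by simpa using h), h1 x hx⟩,
    map_rts _ ρ.toRingHom ρ.commutes⟩

theorem Fpf.gd (h : Fpf r Q a) : Gdm r (Fintype.card F) (rts a) := gd_rts h.pow h.ne

omit [Fintype F] in
theorem Fpf.inv (h : Fpf r Q a) : (rts a).map (·⁻¹) = rts a :=
  (map_rts_of_sep (B := polarBilin Q) h.nd (polar_map h.map)).2

variable (hr : r.Prime) (hr2 : r ≠ 2) (hr0 : (r : F) ≠ 0)
include hr hr2 hr0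

theorem exists_fp {M : Multiset K} (h : Gdm r (Fintype.card F) M) (h' : M.map (·⁻¹) = M) :
    ∃ (S : QuadraticForm F (Fin M.card → F)) (a : End F (Fin M.card → F)), Fpf r S a ∧ rts a = M := by
  have := Fact.mk hr
  obtain ⟨B, a, h1, h2, h3, h4⟩ := exists_sd_rts (σ := RingHom.id F) (fun _ => rfl) (.id _)
    (fun _ => rfl) h.pow h' hr0 (fun x hx => (h.mem x hx).1) (.inr fun x hx => sq_ne_one_of_dvd hr hr2
      (orderOf_eq_prime (h.mem x hx).1 (h.mem x hx).2).symm.dvd)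
  have h5 x (hx : x ∈ rts a) := (h.mem x (h4 ▸ hx)).2
  obtain ⟨S, h6, h7⟩ := exists_quad h1 h2 (inj_sq_of_prime hr hr2 h3 h5)
  exact ⟨S, a, ⟨h6, h7, h3, h5⟩, h4⟩

theorem Fpf.wall (h : Fpf r Q a) (h' : Fpf r R b) (h1 : rts a = rts b) :
    ∃ e : V ≃ₗ[F] W, (∀ v, R (e v) = Q v) ∧ ∀ v, e (a v) = b (e v) := by
  have D := wittData_quad Q h.nd
  have D' := wittData_quad R h'.nd
  obtain ⟨e, h2, h3⟩ := wall_core D.nds D'.nds D.symm D'.symm (polar_map h.map) (polar_map h'.map)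
    (sim_of_charpoly hr0 h.pow hr0 h'.pow (charpoly_eq_of_rts h1))
    (.inr (inj_sq_of_prime hr hr2 h.pow h.ne))
  refine ⟨e, fun v => ?_, h3⟩
  obtain ⟨w, rfl⟩ := exists_sub_of_inj (a := a) (c := 1) (fun v hv => h.eq_zero (by simpa using hv)) v
  rw [one_smul, D.N_sub (h.map w), map_sub, h3, D'.N_sub (h'.map _), ← h3, ← map_sub, h2]

theorem Fpf.exists_emb (h : Fpf r Q a) (h' : Fpf r R b) (h1 : rts b ≤ rts a) :
    ∃ j : W →ₗ[F] V, (∀ w, Q (j w) = R w) ∧ ∀ w, j (b w) = a (j w) := by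
  obtain ⟨N, h2⟩ := Multiset.le_iff_exists_add.1 h1
  obtain ⟨S, c, h3, h4⟩ := exists_fp hr hr2 hr0 ((h2 ▸ h.gd).of_add h'.gd)
    (by simpa [h2, h'.inv] using h.inv)
  obtain ⟨e, h5, h6⟩ := (h'.prod h3).wall hr hr2 hr0 h (by rw [rts_prodMap, h4, h2])
  exact ⟨e.toLinearMap ∘ₗ .inl F _ _, fun w => by simp [h5], fun w => by simpa using h6 (w, 0)⟩

theorem Fpf.exists_nd (h : Fpf r Q a) {N : Multiset K} (h1 : N ≤ rts a) (h2 : Gdm r (Fintype.card F) N)
    (h3 : N.map (·⁻¹) = N) : ∃ U, Iv a U ∧ ND (Q.restrict U) ∧ finrank F U = N.card := by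
  obtain ⟨S, c, h4, h5⟩ := exists_fp hr hr2 hr0 h2 h3
  obtain ⟨j, h6, h7⟩ := h.exists_emb hr hr2 hr0 h4 (h5.trans_le h1)
  exact ⟨_, by rintro _ ⟨w, rfl⟩; exact ⟨_, h7 w⟩, (h4.nd.ns_range h6).nd,
    by simpa using (h4.nd.ns_range h6).rk⟩

theorem Fpf.exists_ts (h : Fpf r Q a) {N : Multiset K} (h2 : Gdm r (Fintype.card F) N)
    (h1 : N + N.map (·⁻¹) ≤ rts a) : ∃ T, Iv a T ∧ finrank F T = N.card ∧ ∀ w ∈ T, Q w = 0 := by
  obtain ⟨A, h3, h4⟩ := exists_rts h2.pow fun x hx => (h2.mem x hx).1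
  set c : End F _ := Matrix.toLin' A
  have h5 : c ^ r = 1 := by rw [← Matrix.toLin'_pow, h3, Matrix.toLin'_one]; rfl
  let d : End F _ := (c ^ (r - 1)).dualMap
  have h6 (x φ) : d φ (c x) = φ x := by
    rw [LinearMap.dualMap_apply, ← End.mul_apply, ← pow_succ, Nat.sub_add_cancel hr.one_le, h5,
      End.one_apply]
  have h7 (k x φ) : (d ^ k) φ ((c ^ k) x) = φ x := by
    induction k generalizing x φ with
    | zero => rfl
    | succ k ih => rw [pow_succ', pow_succ', End.mul_apply, End.mul_apply, h6, ih]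
  have h8 : rts (c.prodMap d : End F _) = N + N.map (·⁻¹) := by
    rw [rts_prodMap, rts_of_pairing (Dual.eval F _) (fun x => (forall_dual_apply_eq_zero_iff F x).1)
      Subspace.dual_finrank_eq h6, h4]
  obtain ⟨j, h9, h10⟩ := h.exists_emb hr hr2 hr0 (R := hyq F _) (b := c.prodMap d) ⟨nd_hyq, fun x => h6 _ _,
    by rw [prodMap_pow, h5, show d ^ r = 1 from LinearMap.ext₂ fun φ x => by simpa [h5] using h7 r x φ,
      LinearMap.prodMap_one], fun x hx => ((h2.add h2.inv).mem x (h8 ▸ hx)).2⟩ (h8.trans_le h1)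
  refine ⟨LinearMap.range (j ∘ₗ .inl F _ _), ?_, ?_, ?_⟩
  · rintro _ ⟨w, rfl⟩
    exact ⟨c w, by simpa using h10 (w, 0)⟩
  · simpa using LinearMap.finrank_range_of_inj (f := j ∘ₗ .inl F _ _)
      ((nd_hyq.inj h9).comp LinearMap.inl_injective)
  · rintro _ ⟨w, rfl⟩
    simp [h9]

end Cfsg.Agent.H13
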