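import Cfsg.Agent.H13.EO2
import Cfsg.Agent.H13.Refl
import Cfsg.Agent.H13.SylO

/-!
Subspaces fixed by isometries of odd prime order prime to the characteristic.
-/

set_option autoImplicit false

namespace Cfsg.Agent.H13

open Module H28 QuadraticMap Polynomial
open scoped Pointwise

universe u

variable {F : Type u} {V W : Type*} [Field F] [AddCommGroup V] [Module F V] [AddCommGroup W]
  [Module F W] {Q : QuadraticForm F V} {R : QuadraticForm F W} {r : ℕ}
  {P : Type*} [Group P] {ρ : P →* OG Q} {U : Submodule F V}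

local notation "K" => AlgebraicClosure F

/-- `g` fixes the subspace `U` -/
abbrev Fx (g : OG Q) (U : Submodule F V) : Prop := Iv (g.1 : End F V) U

theorem leq_apply (g : OG Q) : leq (OG Q) g = (g.1 : End F V) := rfl

theorem leq_inj : Function.Injective (leq (OG Q)) := fun _ _ h => OG_ext (LinearMap.congr_fun h)

theorem og_pow {g : OG Q} (hg : g ^ r = 1) : (g.1 : End F V) ^ r = 1 := by
  rw [← leq_apply, ← map_pow, hg, map_one]

theorem restrict_pow_eq_one {a : End F V} (h : Iv a U) (h1 : a ^ r = 1) :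
    (a.restrict h : End F U) ^ r = 1 := by
  ext v
  rw [End.pow_restrict r (show ∀ x ∈ U, a x ∈ U from h)]
  simp [h1]

/-- the common fixed space -/
def fx (ρ : P →* OG Q) : Submodule F V := fixR fun g => ((ρ g).1 : End F V)

theorem mem_fx {v : V} : v ∈ fx ρ ↔ ∀ g, (ρ g).1 v = v := mem_fixR

theorem fx_zpowers (g : OG Q) : fx (Subgroup.zpowers g).subtype = fixS g :=
  Submodule.ext fun v => mem_fx.trans ⟨fun h => mem_fixS.2 (h ⟨g, Subgroup.mem_zpowers g⟩), fun h x =>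
    (Subgroup.zpowers_le (H := MulAction.stabilizer _ v)).2 (mem_fixS.1 h) x.2⟩

theorem isPGroup_zpowers {G : Type*} [Group G] {g : G} (h : g ^ r = 1) :
    IsPGroup r (Subgroup.zpowers g) := fun ⟨_, k, rfl⟩ => ⟨1, Subtype.ext (by
  change (g ^ k) ^ r ^ 1 = 1
  rw [pow_one, ← zpow_natCast, ← zpow_mul, mul_comm, zpow_mul, zpow_natCast, h, one_zpow])⟩

theorem split_fx [Finite P] (hP : (Nat.card P : F) ≠ 0) (hU : ∀ g, Fx (ρ g) U) :
    U ⊓ perp Q (fx ρ) ⊔ U ⊓ fx ρ = U := by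
  have := Fintype.ofFinite P
  refine le_antisymm (by simp) fun w hw => ?_
  have h1 : (Nat.card P : F)⁻¹ • ∑ g, (ρ g).1 w ∈ U := U.smul_mem _ (U.sum_mem fun g _ => hU g w hw)
  refine Submodule.mem_sup.2 ⟨_, ⟨U.sub_mem hw h1, mem_perp.2 fun u hu => ?_⟩, _, ⟨h1,
    mem_fx.2 fun g => ?_⟩, sub_add_cancel _ _⟩
  · have (g : P) : polar Q u ((ρ g).1 w) = polar Q u w := by
      rw [← OG_polar (ρ g) u w, mem_fx.1 hu]
    simp [polar_sum_right, this, ← Nat.card_eq_fintype_card, hP]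
  · simp only [map_smul, map_sum, ← OG_mul_apply, ← map_mul]
    exact congrArg _ (Fintype.sum_equiv (.mulLeft g) _ _ fun _ => rfl)

theorem ND.nd_fx [Finite P] (hQ : ND Q) (hP : (Nat.card P : F) ≠ 0) : ND (Q.restrict (fx ρ)) := by
  have := split_fx (ρ := ρ) hP fun _ => iv_top _
  refine nd_of_sup (U' := perp Q (fx ρ)) ?_ le_rfl
  rw [top_inf_eq, top_inf_eq, sup_comm] at this
  rw [this, ← LinearMap.range_id]
  exact (hQ.iso_range (j := .id) fun _ => rfl).nd hQ

/-- dimension of a minimal block -/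
def cc (i : ℕ) : ℕ := if Even i then i else 2 * i

/-- type of a sum of blocks -/
def tau (i b : ℕ) : ℤˣ := if Odd i ∨ Even b then 1 else -1

variable [FiniteDimensional F V] [FiniteDimensional F W]

theorem Fx.map_eq {g : OG Q} (h : Fx g U) : U.map (g.1 : V →ₗ[F] V) = U := map_OG_eq_of_le h

theorem Fx.perp {g : OG Q} (h : Fx g U) : Fx g (perp Q U) := Iv.perp (OG_map g) h.map_eq

theorem Fx.mem_iff {g : OG Q} (h : Fx g U) (w : V) : g.1 w ∈ U ↔ w ∈ U := by
  nth_rw 1 [← h.map_eq]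
  simp

theorem Fx.zpowers {g : OG Q} (h : Fx g U) (x : Subgroup.zpowers g) : Fx x.1 U :=
  iv_iff.1 ((Subgroup.zpowers_le (H := MulAction.stabilizer (OG Q) U)).2 h.map_eq x.2).le

/-- restriction of an action to an invariant subspace -/
def resH (hU : ∀ g, Fx (ρ g) U) : P →* OG (Q.restrict U) :=
  .mk' (fun g => resOG U (ρ g) (hU g).mem_iff) fun g h => OG_ext fun x => Subtype.ext (by
    simp [resOG_apply, OG_mul_apply])

variable [Fintype F] [hr : Fact r.Prime] (hr2 : r ≠ 2) (hq : (Fintype.card F : ZMod r) ≠ 0)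
  {i : ℕ} (hi : i = orderOf (Fintype.card F : ZMod r))
include hr2 hq hi

theorem ND.ty_of_fpf (hQ : ND Q) (hP : IsPGroup r P) (h : ∀ v, (∀ g, (ρ g).1 v = v) → v = 0) :
    ∃ b, finrank F V = cc i * b ∧ ty Q = tau i b := by
  classical
  have : Finite V := Module.finite_of_finite F
  have h1 := card_modEq_fixed hP (MulAction.toEndHom.comp ρ) (fun p : Projectivization F V => p ∉ SP Q)
    fun g p hp h => hp (((SP Q).smul_mem_iff' (ρ g)).1 h)
  have h2 : IsEmpty {p // p ∉ SP Q ∧ ∀ g, (MulAction.toEndHom.comp ρ) g p = p} := ⟨fun ⟨p, h2, h3⟩ => by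
    induction p using Projectivization.ind with | h v hv => ?_
    refine hv (h v fun g => ?_)
    obtain ⟨t, ht⟩ := (Projectivization.mk_eq_mk_iff' F _ _ _ _).1 (h3 g)
    change t • v = (ρ g).1 v at ht
    obtain ⟨k, hk⟩ := hP g
    have h4 (n : ℕ) : (ρ (g ^ n)).1 v = t ^ n • v := by
      induction n with
      | zero => simp
      | succ n ih => rw [pow_succ', map_mul, OG_mul_apply, ih, map_smul, ← ht, smul_smul, pow_succ]
    have h5 := h4 (r ^ k)
    have h6 := OG_map (ρ g) v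
    rw [← ht, Q_smul, mul_eq_right₀ (mt (mk_mem_SP hv).2 h2), sq_eq_one_iff] at h6
    rcases h6 with rfl | rfl
    · simp [← ht]
    · rw [hk, (hr.out.odd_of_ne_two hr2).pow.neg_one_pow, map_one, ht] at h5
      exact h5.symm⟩
  have h3 := Projectivization.card' F V
  have h4 := card_SP (Q := Q)
  rw [@Nat.card_of_isEmpty _ h2] at h1
  rw [← Nat.card_congr (Equiv.sumCompl (· ∈ SP Q)), Nat.card_sum, card_eq_pow (F := F)] at h3
  generalize Nat.card {p // p ∉ SP Q} = N at h1 h3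
  have h5 := nz_pos (Q := Q)
  have h6 : 1 < Nat.card F := Finite.one_lt_card
  have h7 : (N : ℤ) * (Nat.card F - 1) = Nat.card F ^ finrank F V - nz Q := by
    zify [h5, h6.le] at h3 h4
    linear_combination -h3 - h4
  have h8 : (N : ZMod r) = 0 := (ZMod.natCast_eq_natCast_iff _ _ _).2 h1 |>.trans Nat.cast_zero
  have h9 : (Nat.card F : ℤ) - 1 ≠ 0 := by omega
  obtain ⟨m, hm | hm⟩ := (finrank F V).even_or_odd'
  swap
  · rw [hQ.nz_odd hm, hm] at h7
    have := congrArg (Int.cast : ℤ → ZMod r) (mul_right_cancel₀ h9 (h7.trans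
      (show _ = (Nat.card F : ℤ) ^ (2 * m) * _ by push_cast; ring)))
    exact absurd this.symm (by simpa [h8] using fun h => (hq h).elim)
  obtain _ | m := m
  · exact ⟨0, by simpa using hm, ((isPlus_iff_ty (by simp [hm])).1 ⟨⊥, by simp [hm], by simp⟩).trans
      (by simp [tau])⟩
  have h10 : (Fintype.card F : ZMod r) ^ (m + 1) = (ty Q : ℤ) := by
    rw [(count_even (ty Q) m hQ hm (by
      rw [isPlus_iff_ty (by simp [hm])]; rcases Int.units_eq_one_or (ty Q) with h | h <;> simp [h])).1,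
      hm] at h7
    have := congrArg (Int.cast : ℤ → ZMod r) (mul_right_cancel₀ h9 (h7.trans
      (show _ = ((Nat.card F : ℤ) ^ m * (Nat.card F ^ (m + 1) - ty Q)) * _ by ring)))
    simpa [h8, hq, sub_eq_zero] using this.symm
  set x := (Fintype.card F : ZMod r)
  have : Fact (2 < r) := ⟨by have := hr.out.two_le; omega⟩
  have h11 {a b : ℤˣ} (h : ((a : ℤ) : ZMod r) = (b : ℤ)) : a = b := by
    rcases Int.units_eq_one_or a with rfl | rfl <;> rcases Int.units_eq_one_or b with rfl | rfl <;>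
      simp_all [ZMod.neg_one_ne_one, ZMod.neg_one_ne_one.symm]
  obtain ⟨b, hb⟩ : i ∣ 2 * (m + 1) := hi ▸ orderOf_dvd_of_pow_eq_one (by
    rw [mul_comm, pow_mul, h10, ← Int.cast_pow, ← Units.val_pow_eq_pow_val, Int.units_sq]; simp)
  rcases i.even_or_odd with h12 | h12
  · refine ⟨b, by simp [cc, h12, hm, hb], h11 ?_⟩
    obtain ⟨j, hj⟩ := id h12
    have := orderOf_pos_zmod hq
    rw [← h10, show m + 1 = j * b by nlinarith, pow_mul, pow_half_eq (j := j) (by omega) (by omega), tau]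
    rcases b.even_or_odd with h | h
    · simp [h]
    · simp [h.neg_one_pow, Nat.not_odd_iff_even.2 h12, Nat.not_even_iff_odd.2 h]
  · obtain ⟨b, hb⟩ := (Nat.coprime_two_right.2 h12).dvd_of_dvd_mul_left ⟨b, hb⟩
    refine ⟨b, by simp [cc, h12, hm, hb, mul_assoc], h11 ?_⟩
    rw [← h10, hb, pow_mul, tau, if_pos (.inl h12), hi, pow_orderOf_eq_one]
    simp

theorem ND.ns_of_fpf (hP : IsPGroup r P) (hU : ND (Q.restrict U)) (h : ∀ g, Fx (ρ g) U)
    (h1 : Disjoint U (fx ρ)) : ∃ b, NS Q U (cc i * b) (tau i b) := by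
  obtain ⟨b, h2, h3⟩ := hU.ty_of_fpf hr2 hq hi (ρ := resH h) hP fun v hv => Subtype.ext
    (Submodule.disjoint_def.1 h1 _ v.2 (mem_fx.2 fun g => congrArg Subtype.val (hv g)))
  exact ⟨b, hU, h2, h3⟩

omit hr2 hi in
theorem cast_ne_zero_of_card : (r : F) ≠ 0 := fun h => hq (by
  obtain ⟨p, _⟩ := CharP.exists F
  obtain ⟨n, hp, h1⟩ := FiniteField.card F p
  rw [h1, (Nat.prime_dvd_prime_iff_eq hp hr.out).1 ((CharP.cast_eq_zero_iff F p r).1 h)]
  simp)

omit hr2 hi in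
theorem card_ne_zero_of_pgroup [Finite P] (hP : IsPGroup r P) : (Nat.card P : F) ≠ 0 := by
  obtain ⟨k, hk⟩ := hP.exists_card_eq
  rw [hk, Nat.cast_pow]
  exact pow_ne_zero _ (cast_ne_zero_of_card hq)

omit hr2 in
theorem cc_pos : 0 < cc i := by
  have := hi ▸ orderOf_pos_zmod hq
  unfold cc; split_ifs <;> omega

theorem ND.exists_ns_fx [Finite P] (hQ : ND Q) (hP : IsPGroup r P) : ∃ α,
    NS Q (perp Q (fx ρ)) (cc i * α) (tau i α) ∧
      NS Q (fx ρ) (finrank F V - cc i * α) (tau i α * ty Q) := by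
  have h1 := hQ.nd_fx (ρ := ρ) (card_ne_zero_of_pgroup hq hP)
  obtain ⟨α, h2⟩ := (hQ.nd_perp h1).ns_of_fpf hr2 hq hi hP
    (fun g => Fx.perp (iv_of_le_fixR le_rfl g)) (hQ.isCompl h1).disjoint.symm
  refine ⟨α, h2, ?_⟩
  simpa [hQ.perp_perp, kap_of_even (.inl (show Even (cc i * α) by
    unfold cc; split_ifs with h <;> simp [h, parity_simps]))] using h2.orth hQ

theorem ND.exists_ns_inf [Finite P] (hQ : ND Q) (hP : IsPGroup r P) {m : ℕ} {δ : ℤˣ} (h : NS Q U m δ)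
    (hU : ∀ g, Fx (ρ g) U) : ∃ b, cc i * b ≤ m ∧ NS Q (U ⊓ perp Q (fx ρ)) (cc i * b) (tau i b) ∧
      NS Q (U ⊓ fx ρ) (m - cc i * b) (tau i b * δ) := by
  have h0 := card_ne_zero_of_pgroup hq hP
  have h1 := split_fx h0 hU
  have h2 : U ⊓ perp Q (fx ρ) ≤ perp Q (U ⊓ fx ρ) := inf_le_right.trans (perp_antitone inf_le_right)
  have h3 := (nd_of_sup (by rw [sup_comm, h1]; exact h.nd) h2).ns
  obtain ⟨b, h4⟩ := (nd_of_sup (h1.symm ▸ h.nd) (le_perp_comm h2)).ns_of_fpf hr2 hq hi hP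
    (fun g => (hU g).inf (Fx.perp (iv_of_le_fixR le_rfl g)))
    ((hQ.isCompl (hQ.nd_fx h0)).disjoint.symm.mono_left inf_le_right)
  have h5 := h4.sup h3 (le_perp_comm h2) (.inl (by unfold cc; split_ifs with h <;> simp [h, parity_simps]))
  rw [h1] at h5
  have h6 := h5.rk.symm.trans h.rk
  refine ⟨b, by omega, h4, h3.nd, by omega, ?_⟩
  rw [← h.tp, h5.tp, ← mul_assoc, Int.units_mul_self, one_mul]

theorem ND.prof (hQ : ND Q) {g : OG Q} (hg : g ^ r = 1) : ∃ β o, o ≤ (if Odd i then 0 else (r - 1) / i) ∧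
    finrank F (perp Q (fixS g)) = i * (2 * β + o) ∧
    (∀ b ≤ β, ∃ T ≤ perp Q (fixS g), Fx g T ∧ finrank F T = i * b ∧ ∀ w ∈ T, Q w = 0) ∧
    ∀ b, cc i * b ≤ i * (2 * β + o) → ∃ U ≤ perp Q (fixS g), Fx g U ∧ NS Q U (cc i * b) (tau i b) := by
  have : Finite V := Module.finite_of_finite F
  have hr0 := cast_ne_zero_of_card hq
  have hP := isPGroup_zpowers hg
  have h0 := orderOf_pos_zmod hq
  have h1 := hQ.nd_fx (ρ := (Subgroup.zpowers g).subtype) (card_ne_zero_of_pgroup hq hP)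
  rw [fx_zpowers] at h1
  have h2 : Fx g (perp Q (fixS g)) := Fx.perp fun v hv => by rwa [LinearEquiv.coe_coe, mem_fixS.1 hv]
  have h3 := (hQ.isCompl h1).disjoint
  have h4 : Fpf r (Q.restrict (perp Q (fixS g))) ((g.1 : End F V).restrict h2) :=
    ⟨hQ.nd_perp h1, fun x => OG_map g x, restrict_pow_eq_one h2 (og_pow hg),
      one_notMem_rts fun v hv => Subtype.ext (Submodule.disjoint_def.1 h3 _
        (mem_fixS.2 (congrArg Subtype.val hv)) v.2)⟩
  obtain ⟨N, S, h5, h6, h7, h8, h9⟩ := h4.gd.exists_split hi hq (FiniteField.frobeniusAlgHom F K).injective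
    hr2 h4.inv
  obtain ⟨β, h10, h11⟩ := h5.exists_le hi hq
  obtain ⟨o, h12, -⟩ := h6.exists_le hi hq
  have h13 : finrank F (perp Q (fixS g)) = i * (2 * β + o) := by
    rw [← card_rts, h9]; simp [h10, h12]; ring
  have h14 {T} (h : Iv ((g.1 : End F V).restrict h2) T) : Fx g (T.map (perp Q (fixS g)).subtype) := by
    rintro _ ⟨w, hw, rfl⟩
    exact ⟨_, h w hw, rfl⟩
  refine ⟨β, o, ?_, h13, fun b hb => ?_, fun b hb => ?_⟩
  · split_ifs with h
    · simpa [h8 h, hi, h0.ne'] using h12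
    · exact (Nat.le_div_iff_mul_le (hi ▸ h0)).2 (by rw [mul_comm, ← h12]; exact h6.card_le h7)
  · obtain ⟨N', h15, h16, h17⟩ := h11 b hb
    obtain ⟨T, h18, h19, h20⟩ := h4.exists_ts hr.out hr2 hr0 h16 (h9 ▸ le_add_right (by gcongr))
    exact ⟨_, Submodule.map_subtype_le _ _, h14 h18, by rw [Submodule.finrank_map_subtype_eq, h19, h17],
      by rintro _ ⟨w, hw, rfl⟩; exact h20 w hw⟩
  · obtain ⟨N', h15, h16, h17, h18⟩ : ∃ N' ≤ rts ((g.1 : End F V).restrict h2),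
        Gdm r (Fintype.card F) N' ∧ N'.map (·⁻¹) = N' ∧ N'.card = cc i * b := by
      unfold cc at hb ⊢
      split_ifs at hb ⊢ with h
      · obtain ⟨γ, h15, h16⟩ := h4.gd.exists_le hi hq
        rw [card_rts, h13] at h15
        obtain ⟨N', h17, h18, h19⟩ := h16 b (Nat.le_of_mul_le_mul_left (h15 ▸ hb) (hi ▸ h0))
        exact ⟨N', h17, h18, h18.inv_eq hi hq h, h19⟩
      · obtain rfl : o = 0 := by simpa [h8 (Nat.not_even_iff_odd.1 h), hi, h0.ne'] using h12
        obtain ⟨N', h15, h16, h17⟩ := h11 b (by nlinarith)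
        exact ⟨N' + N'.map (·⁻¹), h9 ▸ le_add_right (by gcongr), h16.add h16.inv, by simp [add_comm],
          by simp [h17]; ring⟩
    obtain ⟨U, h19, h20, h21⟩ := h4.exists_nd hr.out hr2 hr0 h15 h16 h17
    have h22 := h20.ns.map (Q := Q) (j := (perp Q (fixS g)).subtype) fun _ => rfl
    obtain ⟨b', h23⟩ := h22.nd.ns_of_fpf (ρ := (Subgroup.zpowers g).subtype) hr2 hq hi hP (h14 h19).zpowers
      (by rw [fx_zpowers]; exact h3.symm.mono_left (Submodule.map_subtype_le _ _))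
    obtain rfl : b = b' := Nat.eq_of_mul_eq_mul_left (cc_pos hq hi) (by rw [← h23.rk, h22.rk, h21, h18])
    exact ⟨_, Submodule.map_subtype_le _ _, h14 h19, h23⟩

omit hr2 hq in
theorem cc_tau {β o : ℕ} (h : o ≤ if Odd i then 0 else (r - 1) / i) :
    ∃ α, cc i * α = i * (2 * β + o) ∧ tau i α = (-1) ^ o := by
  unfold cc tau
  split_ifs at h with h1
  · exact ⟨β, by simp [h1, Nat.le_zero.1 h, mul_assoc, mul_left_comm]⟩
  · refine ⟨2 * β + o, by simpa using fun h => absurd h h1, ?_⟩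
    rcases o.even_or_odd with h | h <;> simp [h, h1, parity_simps, h.neg_one_pow]

theorem ND.exists_prof (hQ : ND Q) {β o : ℕ} (h : o ≤ if Odd i then 0 else (r - 1) / i)
    (h0 : 0 < β + o) (h1 : Emb (i * (2 * β + o)) ((-1) ^ o) (finrank F V) (ty Q)) : ∃ g : OG Q, g ^ r = 1 ∧
      g ≠ 1 ∧ finrank F (perp Q (fixS g)) = i * (2 * β + o) ∧
      ∀ T ≤ perp Q (fixS g), Fx g T → (∀ w ∈ T, Q w = 0) → finrank F T ≤ i * β := by
  classical
  have hr0 := cast_ne_zero_of_card hq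
  have hi0 := hi ▸ orderOf_pos_zmod hq
  have : NeZero (r : K) := ⟨by rw [← map_natCast (algebraMap F K)]; exact (_root_.map_ne_zero _).2 hr0⟩
  obtain ⟨ζ, hζ⟩ := HasEnoughRootsOfUnity.exists_primitiveRoot K r
  obtain ⟨O, -, h2, h3, -⟩ := exists_orb hi hq ⟨hζ.pow_eq_one, hζ.ne_one hr.out.one_lt⟩
  obtain ⟨S, h4, h5, h6⟩ := exists_gd hi hq (FiniteField.frobeniusAlgHom F K).injective hζ (o := o)
    (h.trans (by split_ifs <;> simp))
  have h7 (h7 : Odd i) : S = 0 := by simpa [h7, Nat.le_zero.1 (by simpa [h7] using h)] using h6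
  have h8 := h3.nsmul β
  obtain ⟨R, b, h9, h10⟩ := exists_fp hr.out hr2 hr0 ((h8.add h8.inv).add h4) (by
    rcases i.even_or_odd with h | h
    · simp [h4.inv_eq hi hq h, add_comm]
    · simp [h7 h, add_comm])
  have h11 : (β • O + (β • O).map (·⁻¹) + S).card = i * (2 * β + o) := by simp [h2, h6]; ring
  obtain ⟨α, h12, h13⟩ := cc_tau hi h
  let b' : OG R := ⟨.ofInjectiveEndo b (h9.nd.inj h9.map), h9.map⟩
  obtain ⟨α', h14, h15⟩ := h9.nd.ty_of_fpf hr2 hq hi (ρ := (Subgroup.zpowers b').subtype)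
    (isPGroup_zpowers (leq_inj (by rw [map_pow, map_one]; exact h9.pow)))
    fun v hv => h9.eq_zero (hv ⟨b', Subgroup.mem_zpowers _⟩)
  rw [finrank_fin_fun, h11, ← h12] at h14
  obtain rfl := Nat.eq_of_mul_eq_mul_left (cc_pos hq hi) h14
  obtain ⟨j, hj⟩ := hQ.exists_emb h9.nd (by rwa [h15, h13, finrank_fin_fun, h11])
  obtain ⟨g, h16, h17⟩ := hQ.exists_ext h9.nd hj h9.map
  have h18 := hQ.isCompl (h9.nd.ns_range hj).nd
  have h19 (k w) : (g ^ k).1 (j w) = j ((b ^ k) w) := by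
    induction k with
    | zero => rfl
    | succ k ih => rw [pow_succ', OG_mul_apply, ih, h16, pow_succ', End.mul_apply]
  have h20 : perp Q (fixS g) = LinearMap.range j := by
    rw [← hQ.perp_perp (LinearMap.range j)]
    refine congrArg _ (le_antisymm (fun v hv => ?_) fun z hz => mem_fixS.2 (h17 z hz))
    obtain ⟨⟨_, w, rfl⟩, z, rfl⟩ := exists_add_of_isCompl h18 v
    rw [mem_fixS, map_add, h17 _ z.2, add_left_inj] at hv
    simp [h9.eq_zero (h9.nd.inj hj ((h16 w).symm.trans hv))]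
  have h21 := (h9.nd.ns_range hj).rk
  rw [← h20, finrank_fin_fun, h11] at h21
  refine ⟨g, OG_ext_of_isCompl (by rintro _ ⟨w, rfl⟩; rw [h19, h9.pow]; rfl) (fun z hz =>
    (MulAction.stabilizer (OG Q) z).pow_mem (x := g) (h17 z hz) r) h18, ?_, h21, fun T h22 h23 h24 => ?_⟩
  · rintro rfl
    have := hQ.finrank_perp (fixS (1 : OG Q))
    rw [h21, show fixS (1 : OG Q) = ⊤ from eq_top_iff.2 fun v _ => mem_fixS.2 rfl, finrank_top] at this
    nlinarith
  have h25 : Iv b (T.comap j) := fun w hw => by simpa [← h16] using h23 _ hw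
  have h26 := h9.nd.rts_le_of_ts h9.map hr0 h9.pow h25 fun w hw => (hj w).symm.trans (h24 _ hw)
  rw [← Submodule.map_comap_eq_self (h22.trans h20.le), finrank_map_of_inj (h9.nd.inj hj), ← card_rts (b.restrict h25)]
  have h27 := gd_rts (restrict_pow_eq_one h25 h9.pow) (one_notMem_rts fun v hv =>
    Subtype.ext (h9.eq_zero (congrArg Subtype.val hv)))
  rw [h10] at h26
  generalize rts (b.restrict h25) = N at *
  rcases i.even_or_odd with h | h
  · rw [h27.inv_eq hi hq h, h8.inv_eq hi hq h, Multiset.le_iff_count] at h26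
    refine (Multiset.card_le_card (Multiset.le_iff_count.2 fun x => ?_)).trans_eq
      (show (β • O).card = _ by simp [h2, mul_comm])
    have := h26 x
    have := Multiset.nodup_iff_count_le_one.1 h5 x
    simp only [Multiset.count_add] at *
    omega
  · have := Multiset.card_le_card h26
    simp only [h7 h, Multiset.card_add, Multiset.card_map, Multiset.card_nsmul, h2, add_zero] at this
    linarith

theorem ND.exists_ns_fixS (hQ : ND Q) {g : OG Q} (hg : g ^ r = 1) : ∃ α,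
    NS Q (perp Q (fixS g)) (cc i * α) (tau i α) ∧
      NS Q (fixS g) (finrank F V - cc i * α) (tau i α * ty Q) ∧ (g ≠ 1 → 0 < α) := by
  have : Finite V := Module.finite_of_finite F
  obtain ⟨α, h1, h2⟩ := hQ.exists_ns_fx (ρ := (Subgroup.zpowers g).subtype) hr2 hq hi (isPGroup_zpowers hg)
  rw [fx_zpowers] at h1 h2
  refine ⟨α, h1, h2, fun h => Nat.pos_of_ne_zero fun h0 => h (OG_ext fun v => mem_fixS.1 ?_)⟩
  rw [Submodule.eq_top_of_finrank_eq (S := fixS g) (by simpa [h0] using h2.rk)]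
  trivial

/-- non-degenerate subspaces -/
theorem ND.ss_nd (hQ : ND Q) {m : ℕ} {δ : ℤˣ} (hm : Even m ∨ (2 : F) ≠ 0) :
    (∀ g : OG Q, g ^ r = 1 → g ≠ 1 → ∃ U, NS Q U m δ ∧ Fx g U) ↔
      ∀ α, 0 < α → Emb (cc i * α) (tau i α) (finrank F V) (ty Q) → ∃ b ≤ α, cc i * b ≤ m ∧
        Emb (m - cc i * b) (tau i b * δ) (finrank F V - cc i * α) (tau i α * ty Q) := by
  have : Finite V := Module.finite_of_finite F
  have h0 := cc_pos hq hi
  have hc (b) : Even (cc i * b) := by unfold cc; split_ifs with h <;> simp [h, parity_simps]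
  refine ⟨fun h α h1 h2 => ?_, fun h g h1 h2 => ?_⟩
  · obtain ⟨β, o, h3, h4, h5⟩ : ∃ β o, o ≤ (if Odd i then 0 else (r - 1) / i) ∧
        cc i * α = i * (2 * β + o) ∧ tau i α = (-1) ^ o := by
      unfold cc tau at *
      split_ifs at h0 with h3
      · have h4 := Nat.not_odd_iff_even.2 h3
        refine ⟨α / 2, α % 2, ?_, by simp [h3, Nat.div_add_mod], ?_⟩
        · have := Nat.div_pos (Nat.le_of_dvd (by have := hr.out.two_le; omega)
            (hi ▸ orderOf_dvd_of_pow_eq_one (ZMod.pow_card_sub_one_eq_one hq))) h0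
          rw [if_neg h4]; omega
        · rcases Nat.mod_two_eq_zero_or_one α with h | h <;> simp [h, h4, Nat.even_iff]
      · exact ⟨α, 0, zero_le, by simp [h3, mul_assoc, mul_left_comm], by simp [Nat.not_even_iff_odd.1 h3]⟩
    obtain ⟨g, h6, h7, h8, -⟩ := hQ.exists_prof hr2 hq hi h3 (by
      by_contra! h6
      simp [show β = 0 by omega, show o = 0 by omega, h0.ne', h1.ne'] at h4) (h4 ▸ h5 ▸ h2)
    obtain ⟨α', h9, h10, -⟩ := hQ.exists_ns_fixS hr2 hq hi h6
    obtain rfl : α = α' := Nat.eq_of_mul_eq_mul_left h0 (by rw [← h9.rk, h8, h4])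
    obtain ⟨U, h11, h12⟩ := h g h6 h7
    obtain ⟨b, h13, h14, h15⟩ := hQ.exists_ns_inf (ρ := (Subgroup.zpowers g).subtype) hr2 hq hi
      (isPGroup_zpowers h6) h11 h12.zpowers
    rw [fx_zpowers] at h14 h15
    exact ⟨b, Nat.le_of_mul_le_mul_left (h14.emb h9 inf_le_right).1 h0, h13, h15.emb h10 inf_le_right⟩
  · obtain ⟨α, h3, h4, h5⟩ := hQ.exists_ns_fixS hr2 hq hi h1
    obtain ⟨b, h6, h7, h8⟩ := h α (h5 h2) (h3.emb hQ.ns_top le_top)
    obtain ⟨β, o, -, h9, -, h10⟩ := hQ.prof hr2 hq hi h1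
    obtain ⟨U, h11, h12, h13⟩ := h10 b (by rw [← h9, h3.rk]; gcongr)
    obtain ⟨U', h14, h15⟩ := h4.exists_le (hm.imp_left fun h => by simp [Nat.even_sub h7, h, hc]) h8
    refine ⟨U ⊔ U', ?_, h12.sup fun v hv => by rwa [LinearEquiv.coe_coe, mem_fixS.1 (h14 hv)]⟩
    simpa [Nat.add_sub_cancel' h7, ← mul_assoc] using
      h13.sup h15 (le_perp_comm (h11.trans (perp_antitone h14))) (.inl (hc b))

theorem ND.dvd_nd (hQ : ND Q) {m : ℕ} {δ : ℤˣ} (hm : Even m ∨ (2 : F) ≠ 0)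
    (h : r ∣ Nat.card {U // NS Q U m δ}) : ∃ α, Emb (cc i * α) (tau i α) (finrank F V) (ty Q) ∧
      ¬ Emb m δ (finrank F V - cc i * α) (tau i α * ty Q) := by
  have : Finite V := Module.finite_of_finite F
  by_contra! h1
  refine not_dvd_card_of_fixed (G := OG Q) (fun g U hU => hU.map (OG_map g)) (fun U U' => NS.trans_map hQ)
    (fun R hR => ?_) h
  obtain ⟨α, h2, h3⟩ := hQ.exists_ns_fx (ρ := R.subtype) hr2 hq hi hR
  obtain ⟨U, h4, h5⟩ := h3.exists_le hm (h1 α (h2.emb hQ.ns_top le_top))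
  exact ⟨U, h5, fun g hg => Fx.map_eq (iv_of_le_fixR h4 ⟨g, hg⟩)⟩

/-- totally singular subspaces -/
theorem ND.ss_ts (hQ : ND Q) {m : ℕ} :
    (∀ g : OG Q, g ^ r = 1 → g ≠ 1 → ∃ T : Submodule F V, (finrank F T = m ∧ ∀ w ∈ T, Q w = 0) ∧ Fx g T) ↔
      ∀ β o, o ≤ (if Odd i then 0 else (r - 1) / i) → 0 < β + o →
        Emb (i * (2 * β + o)) ((-1) ^ o) (finrank F V) (ty Q) → ∃ b ≤ β, i * b ≤ m ∧
          2 * (m - i * b) ≤ finrank F V - i * (2 * β + o) ∧
            (2 * (m - i * b) = finrank F V - i * (2 * β + o) → (-1) ^ o * ty Q = 1) := by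
  have : Finite V := Module.finite_of_finite F
  have h0 := cc_pos hq hi
  have hi0 := hi ▸ orderOf_pos_zmod hq
  refine ⟨fun h β o h1 h2 h3 => ?_, fun h g h1 h2 => ?_⟩
  · obtain ⟨g, h6, h7, h8, h4⟩ := hQ.exists_prof hr2 hq hi h1 h2 h3
    obtain ⟨α, h5, h9⟩ := cc_tau hi h1
    obtain ⟨α', h10, h11, -⟩ := hQ.exists_ns_fixS hr2 hq hi h6
    obtain rfl : α = α' := Nat.eq_of_mul_eq_mul_left h0 (by rw [← h10.rk, h8, h5])
    obtain ⟨T, ⟨h12, h13⟩, h14⟩ := h g h6 h7
    have hP := isPGroup_zpowers h6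
    have h15 := split_fx (ρ := (Subgroup.zpowers g).subtype) (card_ne_zero_of_pgroup hq hP) h14.zpowers
    have h16 : Fx g (T ⊓ perp Q (fixS g)) :=
      h14.inf (Fx.perp fun v hv => by rwa [LinearEquiv.coe_coe, mem_fixS.1 hv])
    have h17 := (hQ.isCompl h11.nd).disjoint
    obtain ⟨b, hb⟩ := orderOf_dvd_sub (mt (ZMod.natCast_eq_zero_iff _ _).2 hq) hP
      ((leq _).comp (Subgroup.zpowers g).subtype) h16.zpowers
    rw [show fixR ((leq _).comp (Subgroup.zpowers g).subtype) = fixS g from fx_zpowers g, inf_assoc, h17.symm.eq_bot, inf_bot_eq, finrank_bot,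
      zero_add, ← hi] at hb
    have h18 := Submodule.finrank_sup_add_finrank_inf_eq (T ⊓ perp Q (fixS g)) (T ⊓ fixS g)
    rw [fx_zpowers] at h15
    rw [h15, (h17.symm.mono inf_le_right inf_le_right).eq_bot, finrank_bot, hb, h12] at h18
    have h19 := h4 _ inf_le_right h16 fun w hw => h13 w hw.1
    exact ⟨b, Nat.le_of_mul_le_mul_left (hb ▸ h19) hi0, by omega, h5 ▸ h9 ▸ (h11.exists_ts_iff _).1
      ⟨_, inf_le_right, by omega, fun w hw => h13 w hw.1⟩⟩
  · obtain ⟨α, h3, h4, h5⟩ := hQ.exists_ns_fixS hr2 hq hi h1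
    obtain ⟨β, o, h6, h7, h8, -⟩ := hQ.prof hr2 hq hi h1
    obtain ⟨α', h9, h10⟩ := cc_tau hi h6
    obtain rfl : α = α' := Nat.eq_of_mul_eq_mul_left h0 (by rw [← h3.rk, h7, h9])
    obtain ⟨b, h11, h12, h13⟩ := h β o h6 (by
      by_contra! h6
      simp [show β = 0 by omega, show o = 0 by omega, h0.ne', (h5 h2).ne'] at h9)
      (h9 ▸ h10 ▸ h3.emb hQ.ns_top le_top)
    obtain ⟨T, h14, h15, h16, h17⟩ := h8 b h11
    obtain ⟨T', h18, h19, h20⟩ := (h4.exists_ts_iff _).2 (h9 ▸ h10 ▸ h13)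
    refine ⟨T ⊔ T', ⟨?_, fun w hw => ?_⟩, h15.sup fun v hv => by
      rwa [LinearEquiv.coe_coe, mem_fixS.1 (h18 hv)]⟩
    · have := Submodule.finrank_sup_add_finrank_inf_eq T T'
      rw [((hQ.isCompl h4.nd).disjoint.symm.mono h14 h18).eq_bot, finrank_bot] at this
      omega
    · obtain ⟨x, hx, y, hy, rfl⟩ := Submodule.mem_sup.1 hw
      rw [Q_add, h17 x hx, h20 y hy, polar_comm, mem_perp.1 (h14 hx) _ (h18 hy)]
      simp

theorem ND.dvd_ts (hQ : ND Q) {m : ℕ}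
    (h : r ∣ Nat.card {T : Submodule F V // finrank F T = m ∧ ∀ w ∈ T, Q w = 0}) :
    ∃ α, Emb (cc i * α) (tau i α) (finrank F V) (ty Q) ∧
      ¬ (2 * m ≤ finrank F V - cc i * α ∧ (2 * m = finrank F V - cc i * α → tau i α * ty Q = 1)) := by
  have : Finite V := Module.finite_of_finite F
  by_contra! h1
  refine not_dvd_card_of_fixed (G := OG Q) (fun g U hU => ⟨(LinearEquiv.finrank_map_eq _ _).trans hU.1,
    singular_map hU.2 g⟩) (fun U U' h h' => hQ.exists_map_eq_of_singular (h.1.trans h'.1.symm) h.2 h'.2)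
    (fun R hR => ?_) h
  obtain ⟨α, h2, h3⟩ := hQ.exists_ns_fx (ρ := R.subtype) hr2 hq hi hR
  obtain ⟨U, h4, h5⟩ := (h3.exists_ts_iff m).2 (h1 α (h2.emb hQ.ns_top le_top))
  exact ⟨U, h5, fun g hg => Fx.map_eq (iv_of_le_fixR h4 ⟨g, hg⟩)⟩

end Cfsg.Agent.H13
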