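import Cfsg.Agent.H13.EO3
import Cfsg.Agent.H13.Low
import Cfsg.Agent.H13.Center
import Cfsg.Prelude.Def_GeometricClasses

/-!
Subspaces fixed by elements of prime order of `PΩ`: bridge to matrices, involutions for odd `q`.
-/

set_option autoImplicit false

namespace Cfsg.Agent.H13

open Module H28 QuadraticMap

universe u

variable {F : Type u} {V W : Type*} [Field F] [AddCommGroup V] [Module F V] [AddCommGroup W]
  [Module F W] {Q : QuadraticForm F V} {R : QuadraticForm F W} {r : ℕ} {U : Submodule F V}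

/-- every element of order `r` of `PΩ(Q)` fixes a subspace with property `P` -/
def AllO (Q : QuadraticForm F V) (r : ℕ) (P : Submodule F V → Prop) : Prop :=
  ∀ g ∈ Om Q, (g ^ r = 1 ∨ g ^ r = negOne Q) → g ≠ 1 → g ≠ negOne Q → ∃ U, P U ∧ Fx g U

theorem AllO.congr {P P' : Submodule F V → Prop} (h : ∀ U, P U ↔ P' U) : AllO Q r P ↔ AllO Q r P' := by
  rw [funext fun U => propext (h U)]

theorem ND.smul_iff [Nontrivial V] (hQ : ND Q) (g : OG Q) :
    (∃ z : F, (g.1 : End F V) = z • 1) ↔ g = 1 ∨ g = negOne Q := by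
  refine ⟨fun ⟨z, hz⟩ => ?_, ?_⟩
  · have h1 : ∀ x, g.1 x = z • x := LinearMap.congr_fun hz
    obtain ⟨v, hv⟩ := hQ.exists_ne_zero
    have := OG_map g v
    rw [h1, Q_smul] at this
    exact eq_one_or_negOne_of_smul (mul_right_cancel₀ hv (this.trans (one_mul _).symm)) h1
  · rintro (rfl | rfl)
    · exact ⟨1, by ext; simp⟩
    · exact ⟨-1, by ext; simp [negOne_apply]⟩

section Mat
variable {ι : Type} [Fintype ι] [DecidableEq ι] {Q : QuadraticForm F (ι → F)}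
  {P : Submodule F (ι → F) → Prop}

theorem forall_omegaGL {p : GL ι F → Prop} :
    (∀ x ∈ Geo.omegaGL ⇑Q, p x) ↔ ∀ g ∈ Om Q, p ((toOG Q).symm g).1 := by
  refine ⟨fun h g hg => h _ ⟨(toOG Q).symm g, (mem_Omega_iff _).2 (by simpa using hg), rfl⟩, ?_⟩
  rintro h _ ⟨x, hx, rfl⟩
  simpa using h _ ((mem_Omega_iff _).1 hx)

theorem toLin'_symm (g : OG Q) :
    Matrix.toLin' (((toOG Q).symm g).1 : Matrix ι ι F) = (g.1 : End F (ι → F)) := by
  simpa using (toOG_toLinearMap ((toOG Q).symm g)).symm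

theorem ND.omega_iff [Nonempty ι] (hQ : ND Q) {f : (ι → F) → F} (hf : ⇑Q = f) :
    (∀ x : GL ι F, x ∈ Geo.omegaGL f →
      (∃ z : F, ((x ^ r : GL ι F) : Matrix ι ι F) = z • (1 : Matrix ι ι F)) →
      (∀ z : F, (x : Matrix ι ι F) ≠ z • (1 : Matrix ι ι F)) →
      ∃ U, P U ∧ U.map (Matrix.toLin' (x : Matrix ι ι F)) ≤ U) ↔ AllO Q r P := by
  subst hf
  rw [forall_omegaGL]
  refine forall₂_congr fun g _ => ?_
  rw [← and_imp, Units.val_pow_eq_pow_val, ← po_toLin', toLin'_symm, ← hQ.smul_iff,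
    ← and_imp (a := g ≠ 1), ← not_or, ← hQ.smul_iff, not_exists, ← and_imp (a := ∃ _, _)]
  simp only [iv_iff]
  rw [← leq_apply (g ^ r), map_pow]
  rfl

theorem ND.omega_iff' [Fact r.Prime] [Finite F] (hQ : ND Q) (h2 : (2 : F) ≠ 0) (hι : Odd (Fintype.card ι))
    {f : (ι → F) → F} (hf : ⇑Q = f) :
    (∀ x : GL ι F, x ∈ Geo.omegaGL f → orderOf x = r →
      ∃ U, P U ∧ U.map (Matrix.toLin' (x : Matrix ι ι F)) ≤ U) ↔ AllO Q r P := by
  subst hf
  rw [forall_omegaGL]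
  have h1 : negOne Q ∉ Om Q := fun h => by
    have := ((hQ.negOne_mem_iff h2).1 h).1
    rw [finrank_fintype_fun_eq_card] at this
    exact Nat.not_even_iff_odd.2 hι this
  refine forall₂_congr fun g hg => ?_
  rw [toLin'_symm, Subgroup.orderOf_coe, MulEquiv.orderOf_eq, orderOf_eq_prime_iff]
  simp only [iv_iff]
  exact ⟨fun h h3 h4 _ => h ⟨h3.resolve_right fun h5 => h1 (h5 ▸ pow_mem hg r), h4⟩,
    fun h h3 => h (.inl h3.1) h3.2 fun h5 => h1 (h5 ▸ hg)⟩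

theorem nondeg_iff {f : (ι → F) → F} (hf : ⇑Q = f) {U : Submodule F (ι → F)} :
    Geo.IsNondegenerateOn (polar f) U ↔ ND (Q.restrict U) := by
  subst hf
  refine ⟨fun h x hx => by_contra fun h0 => ?_, fun h w hw h0 => ?_⟩
  · obtain ⟨y, hy, h1⟩ := (h x x.2 (fun h => h0 (Subtype.ext h))).2
    exact h1 (hx ⟨y, hy⟩)
  · obtain ⟨y, hy⟩ := h.exists_ne (x := ⟨w, hw⟩) fun h => h0 (congrArg Subtype.val h)
    exact ⟨⟨y, y.2, by rwa [polar_comm]⟩, y, y.2, hy⟩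

variable [Fintype F] {f : (ι → F) → F} (hf : ⇑Q = f) {m : ℕ} {U : Submodule F (ι → F)}
include hf

theorem ns_plus_iff (hm : Even m) :
    (finrank F U = m ∧ Geo.IsNondegenerateOn (polar f) U ∧ Geo.IsPlusTypeOn f U) ↔ NS Q U m 1 := by
  rw [nondeg_iff hf]
  subst hf
  exact ⟨fun ⟨h1, h2, h3⟩ => ⟨h2, h1, (isPlus_iff_ty (h1 ▸ hm)).1 (isPlus_restrict_iff.2
    (h3.imp fun _ h => h))⟩, fun h => ⟨h.rk, h.nd, isPlus_restrict_iff.1 ((h.isPlus_iff hm).2 rfl)⟩⟩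

theorem ns_minus_iff (hm : Even m) :
    (finrank F U = m ∧ Geo.IsNondegenerateOn (polar f) U ∧ ¬ Geo.IsPlusTypeOn f U) ↔ NS Q U m (-1) := by
  rw [nondeg_iff hf]
  subst hf
  refine ⟨fun ⟨h1, h2, h3⟩ => ⟨h2, h1, (Int.units_eq_one_or _).resolve_left fun h => h3
    (isPlus_restrict_iff.1 ((isPlus_iff_ty (h1 ▸ hm)).2 h))⟩, fun h => ⟨h.rk, h.nd, fun h1 => ?_⟩⟩
  exact absurd ((h.isPlus_iff hm).1 (isPlus_restrict_iff.2 (h1.imp fun _ h => h))) (by decide)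

theorem ns_iso_iff {U₀ : Submodule F (ι → F)} {δ : ℤˣ} (h : NS Q U₀ m δ) :
    (finrank F U = m ∧ Geo.IsNondegenerateOn (polar f) U ∧ Geo.AreIsometricFor f U U₀) ↔ NS Q U m δ := by
  rw [nondeg_iff hf]
  subst hf
  exact ⟨fun ⟨_, _, h3⟩ => h.of_iso (Iso.symm h3), fun h1 => ⟨h1.rk, h1.nd, h1.iso h⟩⟩

end Mat

variable [FiniteDimensional F V] [FiniteDimensional F W] [Fintype F] {P : Submodule F V → Prop}

theorem ty_QPlus (d : ℕ) : ty (QPlus d F) = 1 :=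
  (isPlus_iff_ty (by simp)).1 (isPlus_QPlus d)

theorem ty_QMinus (d : ℕ) {a b : F} (hab : ∀ x y : F, x ^ 2 + a * x * y + b * y ^ 2 = 0 → x = 0 ∧ y = 0) :
    ty (QMinus d F a b) = -1 :=
  (Int.units_eq_one_or _).resolve_left fun h => not_isPlus_QMinus hab
    ((isPlus_iff_ty (by simp [Nat.even_add])).2 h)

omit [FiniteDimensional F V] [Fintype F] in
theorem fx_mul_negOne {g : OG Q} : Fx (g * negOne Q) U ↔ Fx g U :=
  forall₂_congr fun x _ => by
    change g.1 (-x) ∈ U ↔ _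
    rw [map_neg, neg_mem_iff]; rfl

theorem ND.allO_odd (hQ : ND Q) (hG : Good Q) (hr : Odd r) :
    AllO Q r P ↔ ∀ g : OG Q, g ^ r = 1 → g ≠ 1 → ∃ U, P U ∧ Fx g U := by
  have h0 : negOne Q ^ r = negOne Q := by
    obtain ⟨k, rfl⟩ := hr
    rw [pow_succ, pow_mul, pow_two, negOne_mul_self, one_pow, one_mul]
  refine ⟨fun h g h1 h2 => h g (hQ.mem_Om_of_odd hG hr h1) (.inl h1) h2 ?_, fun h g _ h1 h2 h3 => ?_⟩
  · rintro rfl
    exact h2 (h0 ▸ h1)
  · rcases h1 with h1 | h1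
    · exact h g h1 h2
    · simpa only [fx_mul_negOne] using h (g * negOne Q)
        (by rw [Commute.mul_pow (negOne_comm g), h1, h0, negOne_mul_self])
        fun h4 => h3 (by rw [eq_inv_of_mul_eq_one_left h4, inv_eq_of_mul_eq_one_left negOne_mul_self])

/-! ### involutions, `q` odd -/

local notation "s₁" => sgn (-1 : F)

omit [Fintype F] in
theorem ND.neg_of_perp (hQ : ND Q) {g : OG Q} (hg : g ^ 2 = 1) {v : V} (hv : v ∈ perp Q (fixS g)) :
    g.1 v = -v := by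
  rw [hQ.perp_fixS] at hv
  obtain ⟨x, rfl⟩ := hv
  rw [subOne_apply, map_sub, ← OG_mul_apply, ← pow_two, hg, neg_sub]; rfl

omit [FiniteDimensional F V] [Fintype F] in
theorem fx_of_le {g : OG Q} {c : F} (h : ∀ v ∈ U, g.1 v = c • v) : Fx g U := fun v hv => by
  change g.1 v ∈ U
  rw [h v hv]; exact U.smul_mem c hv

variable (h2 : (2 : F) ≠ 0)
include h2

omit [Fintype F] in
theorem ND.nd_fixS (hQ : ND Q) {g : OG Q} (hg : g ^ 2 = 1) : ND (Q.restrict (fixS g)) :=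
  nd_restrict_iff.2 <| Submodule.disjoint_def.2 fun v h h' => by
    have h1 := (mem_fixS.1 h).symm.trans (hQ.neg_of_perp hg h')
    rw [eq_neg_iff_add_eq_zero, ← two_smul F] at h1
    exact (smul_eq_zero.1 h1).resolve_left h2

theorem NS.negOne_mem_iff {m : ℕ} {δ : ℤˣ} (h : NS Q U m δ) :
    negOne (Q.restrict U) ∈ Om (Q.restrict U) ↔ Even m ∧ δ = s₁ ^ (m / 2) := by
  rw [h.nd.negOne_mem_iff h2, ← h.tp, h.nd.ty_eq h2, h.rk, mul_eq_right]

theorem ND.inv_ns (hQ : ND Q) {g : OG Q} (hg : g ^ 2 = 1) (h : g ∈ Om Q) :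
    ∃ j, NS Q (perp Q (fixS g)) (2 * j) (s₁ ^ j) ∧
      NS Q (fixS g) (finrank F V - 2 * j) (s₁ ^ j * ty Q) ∧ (g ≠ 1 → 0 < j) ∧
        (g ≠ negOne Q → 2 * j < finrank F V) := by
  have h1 := hQ.nd_perp (hQ.nd_fixS h2 hg)
  have h3 := hQ.isCompl h1
  have h4 : extOG h3 (negOne _) = g := OG_ext_of_isCompl
    (fun w hw => (extOG_apply_mem h3 _ ⟨w, hw⟩).trans (hQ.neg_of_perp hg hw).symm)
    (fun z hz => (extOG_apply_perp h3 _ hz).trans (mem_fixS.1 (by rwa [hQ.perp_perp] at hz)).symm) h3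
  rw [← h4, extOG_mem_Om_iff hQ (good_of_two_ne_zero h2) h3 h1 (good_of_two_ne_zero h2),
    h1.ns.negOne_mem_iff h2] at h
  obtain ⟨⟨j, hj⟩, h5⟩ := h
  have h6 := h1.ns
  rw [h5, hj, ← two_mul, Nat.mul_div_cancel_left _ two_pos] at h6
  have h7 := h6.orth hQ
  rw [hQ.perp_perp, kap_of_even (.inl (even_two_mul j)), one_mul] at h7
  refine ⟨j, h6, h7, fun h8 => Nat.pos_of_ne_zero ?_, fun h8 => ?_⟩
  · rintro rfl
    have : fixS g = ⊤ := Submodule.eq_top_of_finrank_eq h7.rk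
    exact h8 (OG_ext fun x => mem_fixS.1 (this ▸ Submodule.mem_top))
  · refine (h6.rk ▸ Submodule.finrank_le _ : 2 * j ≤ _).lt_of_ne fun h9 => ?_
    have : perp Q (fixS g) = ⊤ := Submodule.eq_top_of_finrank_eq (h6.rk.trans h9)
    exact h8 (OG_ext fun x => hQ.neg_of_perp hg (this ▸ Submodule.mem_top))

theorem ND.exists_inv (hQ : ND Q) {j : ℕ} (h0 : 0 < j) (h1 : 2 * j < finrank F V) :
    ∃ g ∈ Om Q, g ^ 2 = 1 ∧ g ≠ 1 ∧ g ≠ negOne Q ∧ finrank F (perp Q (fixS g)) = 2 * j := by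
  obtain ⟨U, -, hU⟩ := hQ.ns_top.exists_le (m := 2 * j) (δ := s₁ ^ j) (.inr h2)
    ⟨h1.le, by omega, by omega⟩
  have h3 := hQ.isCompl hU.nd
  have h4 : fixS (extOG h3 (negOne _)) = perp Q U := by
    refine le_antisymm (fun x hx => ?_) fun x hx => mem_fixS.2 (extOG_apply_perp h3 _ hx)
    obtain ⟨w, z, rfl⟩ := exists_add_of_isCompl h3 x
    rw [mem_fixS, extOG_add, add_left_inj, negOne_apply, Submodule.coe_neg, neg_eq_iff_add_eq_zero,
      ← two_smul F] at hx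
    rw [(smul_eq_zero.1 hx).resolve_left h2, zero_add]; exact z.2
  have h5 := hQ.finrank_perp U
  refine ⟨extOG h3 (negOne _), ?_, by rw [← map_pow, pow_two, negOne_mul_self, map_one], fun h => ?_,
    fun h => ?_, by rw [h4, hQ.perp_perp, hU.rk]⟩
  · rw [extOG_mem_Om_iff hQ (good_of_two_ne_zero h2) h3 hU.nd (good_of_two_ne_zero h2),
      hU.negOne_mem_iff h2, Nat.mul_div_cancel_left _ two_pos]
    exact ⟨even_two_mul j, rfl⟩
  · rw [← h4, h, (eq_top_iff.2 fun x _ => mem_fixS.2 rfl : fixS (1 : OG Q) = ⊤), finrank_top, hU.rk] at h5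
    omega
  · have : fixS (negOne Q) = ⊥ := eq_bot_iff.2 fun x hx => by
      rw [mem_fixS, negOne_apply, neg_eq_iff_add_eq_zero, ← two_smul F] at hx
      exact (smul_eq_zero.1 hx).resolve_left h2
    rw [← h4, h, this, finrank_bot, hU.rk] at h5
    omega

theorem ND.inv_nd (hQ : ND Q) {g : OG Q} (hg : g ^ 2 = 1) (h : g ∈ Om Q) (h1 : g ≠ 1) (h1' : g ≠ negOne Q)
    {m : ℕ} (δ : ℤˣ) (h0 : 0 < m) (hm : m < finrank F V) : ∃ U, NS Q U m δ ∧ Fx g U := by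
  obtain ⟨j, h3, h4, h5, h6⟩ := hQ.inv_ns h2 hg h
  have h5 := h5 h1
  have h6 := h6 h1'
  obtain ⟨f, h7, h8, h9, h10⟩ : ∃ f, 0 < f ∧ f < 2 * j ∧ f ≤ m ∧ m - f ≤ finrank F V - 2 * j :=
    ⟨max 1 (m - (finrank F V - 2 * j)), by omega⟩
  obtain ⟨ε, hε⟩ : ∃ ε, Emb (m - f) ε (finrank F V - 2 * j) (s₁ ^ j * ty Q) := by
    by_cases h : m - f = 0
    · exact ⟨1, h10, fun _ => rfl, by omega⟩
    · exact ⟨_, h10, fun h' => absurd h' h, fun _ => rfl⟩
  obtain ⟨A, hA, hA'⟩ := h4.exists_le (.inr h2) hε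
  obtain ⟨B, hB, hB'⟩ := h3.exists_le (m := f) (δ := kap F (m - f) f * ε * δ) (.inr h2)
    ⟨h8.le, by omega, by omega⟩
  have := hA'.sup' hB' (hB.trans (perp_antitone hA))
  rw [Nat.sub_add_cancel h9, ← mul_assoc, Int.units_mul_self, one_mul] at this
  exact ⟨_, this, Iv.sup (fx_of_le (c := 1) fun v hv => by rw [one_smul, mem_fixS.1 (hA hv)])
    (fx_of_le (c := -1) fun v hv => by rw [neg_one_smul, hQ.neg_of_perp hg (hB hv)])⟩

theorem ND.inv_ts_iff (hQ : ND Q) {g : OG Q} (hg : g ^ 2 = 1) {j m : ℕ} {δ ε : ℤˣ}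
    (h3 : NS Q (perp Q (fixS g)) (2 * j) δ) (h4 : NS Q (fixS g) (finrank F V - 2 * j) ε) :
    (∃ T : Submodule F V, (finrank F T = m ∧ ∀ w ∈ T, Q w = 0) ∧ Fx g T) ↔ ∃ a ≤ m,
      (a ≤ j ∧ (a = j → δ = 1)) ∧ 2 * (m - a) ≤ finrank F V - 2 * j ∧
        (2 * (m - a) = finrank F V - 2 * j → ε = 1) := by
  have h5 := (hQ.isCompl h4.nd).disjoint
  refine ⟨fun ⟨T, ⟨h6, h7⟩, h8⟩ => ?_, fun ⟨a, h6, h7, h8⟩ => ?_⟩
  · have h9 : T ⊓ perp Q (fixS g) ⊔ T ⊓ fixS g = T := by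
      have : Finite V := Module.finite_of_finite F
      have := split_fx (ρ := (Subgroup.zpowers g).subtype) (U := T) ?_ h8.zpowers
      · rwa [fx_zpowers] at this
      · rw [Nat.card_zpowers]
        rcases (Nat.dvd_prime Nat.prime_two).1 (orderOf_dvd_of_pow_eq_one hg) with h | h <;>
          simp [h, h2]
    have h10 := Submodule.finrank_sup_add_finrank_inf_eq (T ⊓ perp Q (fixS g)) (T ⊓ fixS g)
    rw [h9, (h5.symm.mono inf_le_right inf_le_right).eq_bot, finrank_bot] at h10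
    have h11 := (h3.exists_ts_iff _).1 ⟨_, inf_le_right, rfl, fun w hw => h7 w hw.1⟩
    have h12 := (h4.exists_ts_iff _).1 ⟨_, inf_le_right, rfl, fun w hw => h7 w hw.1⟩
    refine ⟨finrank F ↥(T ⊓ perp Q (fixS g)), by omega, ⟨by omega, fun h => h11.2 (by omega)⟩,
      by omega, fun h => h12.2 (by omega)⟩
  · obtain ⟨A, hA, hA1, hA2⟩ := (h3.exists_ts_iff a).2 ⟨by omega, fun h => h7.2 (by omega)⟩
    obtain ⟨B, hB, hB1, hB2⟩ := (h4.exists_ts_iff _).2 h8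
    have h10 := Submodule.finrank_sup_add_finrank_inf_eq A B
    rw [(h5.symm.mono hA hB).eq_bot, finrank_bot] at h10
    refine ⟨A ⊔ B, ⟨by omega, fun w hw => ?_⟩,
      Iv.sup (fx_of_le (c := -1) fun v hv => by rw [neg_one_smul, hQ.neg_of_perp hg (hA hv)])
        (fx_of_le (c := 1) fun v hv => by rw [one_smul, mem_fixS.1 (hB hv)])⟩
    obtain ⟨x, hx, y, hy, rfl⟩ := Submodule.mem_sup.1 hw
    rw [Q_add, hA2 x hx, hB2 y hy, polar_comm, mem_perp.1 (hA hx) y (hB hy)]; simp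

/-! ### elements with square `-1` -/

omit [FiniteDimensional F V] [Fintype F] in
theorem polar_of_sq {g : OG Q} (hg : g ^ 2 = negOne Q) (v : V) :
    g.1 (g.1 v) = -v ∧ polar Q v (g.1 v) = 0 := by
  have h1 : g.1 (g.1 v) = -v := by rw [← OG_mul_apply, ← pow_two, hg]; rfl
  have h3 := OG_polar g v (g.1 v)
  rw [h1, polar_neg_right, polar_comm, neg_eq_iff_add_eq_zero, ← two_mul] at h3
  exact ⟨h1, (mul_eq_zero.1 h3).resolve_left h2⟩

theorem ns_line {v : V} (hv : Q v ≠ 0) : NS Q (F ∙ v) 1 (sgn (2 * Q v)) := by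
  have h0 : v ≠ 0 := by rintro rfl; simp at hv
  let e := LinearEquiv.toSpanNonzeroSingleton F V v h0
  have h1 : ∀ a b : F, polar (Q.restrict (F ∙ v)) (e a) (e b) = a * b * (2 * Q v) := fun a b => by
    simp [e, polar_restrict, polar_self']; ring
  have h3 : ND (Q.restrict (F ∙ v)) := fun x hx => by
    obtain ⟨a, rfl⟩ := e.surjective x
    have := (h1 a 1).symm.trans (hx _)
    simp [h2, hv] at this
    simp [this]
  refine ⟨h3, finrank_span_singleton h0, ?_⟩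
  rw [h3.ty_eq h2, finrank_span_singleton h0, h3.disc_eq ((Basis.singleton Unit F).map e)]
  simp [gdet, h1]

theorem ND.sq_ind (hQ : ND Q) {g : OG Q} (hg : g ^ 2 = negOne Q) (j : ℕ) (hj : 2 * j ≤ finrank F V + 1) :
    ∃ U, NS Q U (2 * j) (s₁ ^ j) ∧ Fx g U ∧ ∃ h : OG Q, (∀ u ∈ U, h.1 u = g.1 u) ∧
      (∀ z ∈ perp Q U, h.1 z = z) ∧ dickson hQ (good_of_two_ne_zero h2) h = 1 ∧
        spinor hQ (good_of_two_ne_zero h2) h = sgn (2 : F) ^ j := by
  induction j with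
  | zero => exact ⟨⊥, by simpa using ns_bot, fun _ h => by simp_all, 1, fun _ h => by simp_all, fun _ _ => rfl,
      map_one _, by simp⟩
  | succ j ih =>
    obtain ⟨U, h1, h3, h, h4, h5, h6, h7⟩ := ih (by omega)
    have h8 := h1.orth hQ
    have : Nontrivial (perp Q U) := Module.nontrivial_of_finrank_pos (R := F) (by rw [h8.rk]; omega)
    obtain ⟨⟨v, hv⟩, h9⟩ := h8.nd.exists_ne_zero
    replace h9 : Q v ≠ 0 := h9
    obtain ⟨h10, h11⟩ := polar_of_sq h2 hg v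
    have h12 : g.1 v ∈ perp Q U := h3.perp v hv
    have h13 : F ∙ g.1 v ≤ perp Q (F ∙ v) := by
      rw [Submodule.span_singleton_le_iff_mem, mem_perp_singleton, h11]
    have h14 := (ns_line h2 h9).sup' (ns_line h2 ((OG_map g v).trans_ne h9)) h13
    have h15 := h1.sup h14 (by simp [hv, h12]) (.inl (even_two_mul j))
    rw [OG_map, mul_assoc, Int.units_mul_self, mul_one, kap, ← pow_add] at h15
    have h16 : Q (v - g.1 v) = 2 * Q v := by rw [Q_sub, OG_map, h11]; ring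
    have h17 : Q (v - g.1 v) ≠ 0 := h16 ▸ mul_ne_zero h2 h9
    have h18 := refl_sub_apply (OG_map g v).symm h17
    have h19 : (refl Q (v - g.1 v)).1 (g.1 v) = v := by
      nth_rw 2 [← h18]
      rw [← OG_mul_apply, refl_mul_self]; rfl
    refine ⟨_, h15, h3.sup fun x hx => ?_, h * refl Q v * refl Q (v - g.1 v), fun x hx => ?_,
      fun z hz => ?_, ?_, ?_⟩
    · obtain ⟨_, ⟨a, rfl⟩, _, ⟨b, rfl⟩, rfl⟩ := by
        simpa only [Submodule.mem_sup, Submodule.mem_span_singleton] using hx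
      change g.1 _ ∈ _
      rw [map_add, map_smul, map_smul, h10, add_comm]
      exact Submodule.add_mem_sup (Submodule.smul_mem _ _ (neg_mem (Submodule.mem_span_singleton_self _)))
        (Submodule.smul_mem _ _ (Submodule.mem_span_singleton_self _))
    · obtain ⟨u, hu, _, ⟨_, ⟨a, rfl⟩, _, ⟨b, rfl⟩, rfl⟩, rfl⟩ := by
        simpa only [Submodule.mem_sup, Submodule.mem_span_singleton] using hx
      simp only [OG_mul_apply, map_add, map_smul, h18, h19, h10, refl_apply_self h9,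
        refl_apply_of_perp h11, map_neg, h5 _ hv, h5 _ h12]
      rw [refl_apply_of_perp (x := u), refl_apply_of_perp, h4 u hu]
      · rw [polar_comm]; exact mem_perp.1 hv u hu
      · rw [polar_comm]; exact mem_perp.1 (sub_mem hv h12) u hu
    · simp only [perp_sup, Submodule.mem_inf, mem_perp_singleton] at hz
      rw [OG_mul_apply, OG_mul_apply, refl_apply_of_perp (x := z), refl_apply_of_perp hz.2.1, h5 z hz.1]
      rw [polar_sub_left, hz.2.1, hz.2.2, sub_zero]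
    · simp [h6, dickson_refl _ _ h9, dickson_refl _ _ h17]
    · rw [map_mul, map_mul, h7, spinor_refl _ _ h9, spinor_refl _ _ h17, h16, sgn_mul h2 h9, pow_succ,
        mul_comm (sgn 2), mul_assoc, ← mul_assoc (sgn (Q v)), Int.units_mul_self, one_mul]

theorem ND.of_sq (hQ : ND Q) {g : OG Q} (hg : g ^ 2 = negOne Q) :
    Even (finrank F V) ∧ ty Q = s₁ ^ (finrank F V / 2) ∧
      (g ∈ Om Q ↔ sgn (2 : F) ^ (finrank F V / 2) = 1) := by
  obtain ⟨U, h1, -, h, h4, -, h6, h7⟩ := hQ.sq_ind h2 hg ((finrank F V + 1) / 2) (by omega)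
  have h8 : _ ≤ finrank F V := h1.rk ▸ Submodule.finrank_le U
  have h9 : (finrank F V + 1) / 2 = finrank F V / 2 := by omega
  obtain rfl : U = ⊤ := Submodule.eq_top_of_finrank_eq (by rw [h1.rk]; omega)
  obtain rfl : h = g := OG_ext fun x => h4 x trivial
  refine ⟨Nat.even_iff.2 (by omega), by rw [← h9, ← h1.tp, hQ.ns_top.tp], ?_⟩
  rw [hQ.mem_commutator_iff (good_of_two_ne_zero h2), h6, h7, h9, and_iff_right rfl]

theorem NS.of_sq {g : OG Q} (hg : g ^ 2 = negOne Q) {m : ℕ} {δ : ℤˣ} (h : NS Q U m δ) (h1 : Fx g U) :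
    Even m ∧ δ = s₁ ^ (m / 2) := by
  have := h.nd.of_sq h2 (g := resOG U g h1.mem_iff)
    (OG_ext fun x => Subtype.ext (polar_of_sq h2 hg x).1)
  rw [h.rk, h.tp] at this
  exact ⟨this.1, this.2.1⟩

theorem ND.exists_sq (hQ : ND Q) (h : Even (finrank F V)) (h1 : ty Q = s₁ ^ (finrank F V / 2)) :
    ∃ g : OG Q, g ^ 2 = negOne Q := by
  obtain ⟨d, hd⟩ := h
  have h3 := nd_weightedSumSquares (F := F) h2 (w := fun _ : Fin d => 1) fun _ => one_ne_zero
  set R := weightedSumSquares F fun _ : Fin d => (1 : F)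
  let b : OG (R.prod R) := ⟨LinearEquiv.prodComm F _ _ ≪≫ₗ (LinearEquiv.neg F).prodCongr (.refl F _),
    fun v => by simp [add_comm]⟩
  have h4 : b ^ 2 = negOne _ := OG_ext fun x => by ext <;> simp [b, pow_two, negOne_apply]
  have h5 := (h3.prod h3).of_sq h2 h4
  have h6 : finrank F ((Fin d → F) × (Fin d → F)) = finrank F V := by simp [hd]
  obtain ⟨e, he⟩ := (h3.prod h3).iso_of_ty hQ h6 (by rw [h5.2.1, h6, h1])
  exact ⟨(SemiSim.ofIsometry e he).conj b, by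
    rw [← map_pow, h4]; exact OG_ext fun x => by simp [SemiSim.conj_apply, negOne_apply]⟩

theorem even_of_sq (hs : s₁ = -1) {g : OG Q} (hg : g ^ 2 = negOne Q) (h : Fx g U) :
    Even (finrank F U) := by
  by_contra h1
  have h3 : ((g.1 : End F V).restrict h : End F U) * (g.1 : End F V).restrict h = (-1 : F) • 1 := by
    ext x
    exact (polar_of_sq h2 hg x).1.trans (by simp)
  have h4 := congrArg LinearMap.det h3
  rw [map_mul, LinearMap.det_smul, map_one, mul_one, (Nat.not_even_iff_odd.1 h1).neg_one_pow] at h4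
  exact sgn_eq_neg_one_iff.1 hs ⟨_, h4.symm⟩

theorem ND.sq_ts (hQ : ND Q) {g : OG Q} (hg : g ^ 2 = negOne Q) {m : ℕ} (hm : 2 * m < finrank F V)
    (h : s₁ = 1 ∨ Even m) : ∃ T : Submodule F V, (finrank F T = m ∧ ∀ w ∈ T, Q w = 0) ∧ Fx g T := by
  rcases Int.units_eq_one_or s₁ with hs | hs
  · obtain ⟨c, hc⟩ := sgn_eq_one_iff.1 hs
    have h1 : ∀ c : F, -1 = c * c → ∀ v, g.1 v = c • v → Q v = 0 := fun c hc v hv => by
      have := OG_map g v
      rw [hv, Q_smul, pow_two, ← hc, neg_one_mul, neg_eq_iff_add_eq_zero, ← two_mul] at this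
      exact (mul_eq_zero.1 this).resolve_left h2
    have h3 := LinearMap.finrank_range_add_finrank_ker ((g.1 : End F V) - c • 1)
    have h4 := hQ.two_mul_finrank_le (W := LinearMap.range ((g.1 : End F V) - c • 1)) (by
      rintro _ ⟨x, rfl⟩
      refine h1 (-c) (by rw [neg_mul_neg, hc]) _ ?_
      simp [(polar_of_sq h2 hg x).1, smul_sub, smul_smul, ← hc]
      abel)
    obtain ⟨T, h5, h6⟩ := exists_le_finrank (U := LinearMap.ker ((g.1 : End F V) - c • 1))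
      (m := m) (by omega)
    have h7 : ∀ v ∈ T, g.1 v = c • v := fun v hv => by simpa [sub_eq_zero] using h5 hv
    exact ⟨T, ⟨h6, fun w hw => h1 c hc w (h7 w hw)⟩, fx_of_le h7⟩
  obtain ⟨j, rfl⟩ := h.resolve_left (by rw [hs]; decide)
  clear h
  induction j with
  | zero => exact ⟨⊥, ⟨finrank_bot F V, by simp⟩, fun _ h => by simp_all⟩
  | succ j ih =>
    obtain ⟨T, ⟨h1, h3⟩, h4⟩ := ih (by omega)
    obtain ⟨T', -, h5, h6⟩ := (hQ.ns_top.exists_ts_iff (j + j + 1)).2 ⟨by omega, by omega⟩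
    obtain ⟨T'', h7, h8⟩ := exists_le_finrank (U := T') (m := j + j) (by omega)
    obtain ⟨x, rfl⟩ := hQ.exists_map_eq_of_singular (h8.trans h1.symm) (fun u hu => h6 u (h7 hu)) h3
    obtain ⟨_, ⟨u, hu, rfl⟩, h9⟩ := exists_notMem_of_finrank_lt (H := T''.map (x.1 : V →ₗ[F] V))
      (W := T'.map (x.1 : V →ₗ[F] V)) (by rw [h1, LinearEquiv.finrank_map_eq]; omega)
    set T := T''.map (x.1 : V →ₗ[F] V)
    set v := (x.1 : V →ₗ[F] V) u
    have h10 : v ∈ perp Q T := perp_antitone (Submodule.map_mono h7)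
      (le_perp_of_singular (singular_map h6 x) ⟨u, hu, rfl⟩)
    have h11 : Q v = 0 := (OG_map x u).trans (h6 u hu)
    obtain ⟨h12, h13⟩ := polar_of_sq h2 hg v
    have h14 : Fx g ((T ⊔ F ∙ v) ⊔ F ∙ g.1 v) := fun y hy => by
      obtain ⟨_, ⟨t, ht, _, ⟨a, rfl⟩, rfl⟩, _, ⟨b, rfl⟩, rfl⟩ := by
        simpa only [Submodule.mem_sup, Submodule.mem_span_singleton] using hy
      change g.1 _ ∈ _
      rw [map_add, map_add, map_smul, map_smul, h12, add_right_comm]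
      exact Submodule.add_mem_sup (Submodule.add_mem_sup (h4 t ht)
        (Submodule.smul_mem _ _ (neg_mem (Submodule.mem_span_singleton_self _))))
        (Submodule.smul_mem _ _ (Submodule.mem_span_singleton_self _))
    have h15 := Nat.even_iff.1 (even_of_sq h2 hs hg h14)
    have h16 := finrank_sup_span_singleton_of_notMem h9
    have h17 := Submodule.finrank_add_le_finrank_add_finrank (T ⊔ F ∙ v) (F ∙ g.1 v)
    have h18 := finrank_span_le_card (R := F) {g.1 v}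
    have h19 := Submodule.finrank_mono (le_sup_left : T ⊔ F ∙ v ≤ (T ⊔ F ∙ v) ⊔ F ∙ g.1 v)
    simp only [Set.toFinset_singleton, Finset.card_singleton, Set.finrank] at h18
    refine ⟨_, ⟨by omega, fun y hy => ?_⟩, h14⟩
    obtain ⟨_, ⟨t, ht, _, ⟨a, rfl⟩, rfl⟩, _, ⟨b, rfl⟩, rfl⟩ := by
      simpa only [Submodule.mem_sup, Submodule.mem_span_singleton] using hy
    have h20 : polar Q t (g.1 v) = 0 := mem_perp.1 (h4.perp v h10) t ht
    simp [Q_add, Q_smul, h3 t ht, h11, OG_map, h13, mem_perp.1 h10 t ht, h20]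

omit h2 [FiniteDimensional F V] in
/-- `Ω(Q)` has an element with square `-1` -/
def II (Q : QuadraticForm F V) : Prop :=
  Even (finrank F V) ∧ ty Q = s₁ ^ (finrank F V / 2) ∧ sgn (2 : F) ^ (finrank F V / 2) = 1

theorem ND.allO_two_iff [Nontrivial V] (hQ : ND Q) : AllO Q 2 P ↔
    (∀ g ∈ Om Q, g ^ 2 = 1 → g ≠ 1 → g ≠ negOne Q → ∃ U, P U ∧ Fx g U) ∧
      ∀ g ∈ Om Q, g ^ 2 = negOne Q → ∃ U, P U ∧ Fx g U := by
  refine ⟨fun h => ⟨fun g h1 h3 => h g h1 (.inl h3), fun g h1 h3 => h g h1 (.inr h3) ?_ ?_⟩,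
    fun h g h1 h3 h4 h5 => h3.elim (h.1 g h1 · h4 h5) (h.2 g h1)⟩ <;> rintro rfl <;>
    refine negOne_ne_one (Q := Q) h2 (h3.symm.trans ?_)
  exacts [one_pow 2, (pow_two _).trans negOne_mul_self]

theorem ND.ii_iff (hQ : ND Q) : II Q ↔ ∃ g ∈ Om Q, g ^ 2 = negOne Q :=
  ⟨fun h => (hQ.exists_sq h2 h.1 h.2.1).imp fun _ hg => ⟨(hQ.of_sq h2 hg).2.2.2 h.2.2, hg⟩,
    fun ⟨_, h, hg⟩ => (hQ.of_sq h2 hg).imp_right (·.imp_right (·.1 h))⟩

theorem ND.allO_two_nd (hQ : ND Q) {m : ℕ} {δ : ℤˣ} (h0 : 0 < m) (hm : m < finrank F V) :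
    AllO Q 2 (NS Q · m δ) ↔ (II Q → Even m ∧ δ = s₁ ^ (m / 2)) := by
  have : Nontrivial V := Module.nontrivial_of_finrank_pos (R := F) (by omega)
  rw [hQ.allO_two_iff h2, and_iff_right fun g h1 h3 h4 h5 => hQ.inv_nd h2 h3 h1 h4 h5 δ h0 hm,
    hQ.ii_iff h2]
  refine ⟨fun h ⟨g, h1, h3⟩ => (h g h1 h3).elim fun U hU => hU.1.of_sq h2 h3 hU.2, fun h g h1 h3 => ?_⟩
  obtain ⟨⟨j, rfl⟩, rfl⟩ := h ⟨g, h1, h3⟩
  obtain ⟨U, h4, h5, -⟩ := hQ.sq_ind h2 h3 j (by omega)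
  exact ⟨U, by rwa [← two_mul, Nat.mul_div_cancel_left _ two_pos], h5⟩

theorem ND.allO_two_ts (hQ : ND Q) {m : ℕ} (hm : 2 * m < finrank F V) :
    AllO Q 2 (fun T => finrank F T = m ∧ ∀ w ∈ T, Q w = 0) ↔
      (∀ j, 0 < j → 2 * j < finrank F V → ∃ a ≤ m, (a ≤ j ∧ (a = j → s₁ ^ j = 1)) ∧
        2 * (m - a) ≤ finrank F V - 2 * j ∧ (2 * (m - a) = finrank F V - 2 * j → s₁ ^ j * ty Q = 1)) ∧
      (II Q → s₁ = 1 ∨ Even m) := by
  have : Nontrivial V := Module.nontrivial_of_finrank_pos (R := F) (by omega)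
  rw [hQ.allO_two_iff h2, hQ.ii_iff h2]
  refine and_congr ⟨fun h j h0 h1 => ?_, fun h g h1 h3 h4 h5 => ?_⟩
    ⟨fun h ⟨g, h1, h3⟩ => ?_, fun h g h1 h3 => hQ.sq_ts h2 h3 hm (h ⟨g, h1, h3⟩)⟩
  · obtain ⟨g, h3, h4, h5, h6, h7⟩ := hQ.exists_inv h2 h0 h1
    obtain ⟨j', h8, h9, -⟩ := hQ.inv_ns h2 h4 h3
    obtain rfl : j' = j := by have := h8.rk; omega
    exact (hQ.inv_ts_iff h2 h4 h8 h9).1 (h g h3 h4 h5 h6)
  · obtain ⟨j, h8, h9, h10, h11⟩ := hQ.inv_ns h2 h3 h1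
    exact (hQ.inv_ts_iff h2 h3 h8 h9).2 (h j (h10 h4) (h11 h5))
  · obtain ⟨T, ⟨rfl, -⟩, h4⟩ := h g h1 h3
    exact (Int.units_eq_one_or _).imp_right fun hs => even_of_sq h2 hs h3 h4

end Cfsg.Agent.H13
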