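import Cfsg.Agent.H13.EO4

/-!
Linear forms of the conditions for semisimple elements.
-/

set_option autoImplicit false

namespace Cfsg.Agent.H13

open Module H28 QuadraticMap

universe u

theorem neg_one_pow_eq_iff {a b : ℕ} : (-1 : ℤˣ) ^ a = (-1) ^ b ↔ a % 2 = b % 2 := by
  rcases Nat.even_or_odd a with h | h <;> rcases Nat.even_or_odd b with h' | h' <;>
    simp [h.neg_one_pow, h'.neg_one_pow, Nat.even_iff.1, Nat.odd_iff.1, h, h']

theorem neg_one_pow_eq_one {a : ℕ} : (-1 : ℤˣ) ^ a = 1 ↔ a % 2 = 0 :=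
  neg_one_pow_eq_iff (b := 0)

theorem exists_neg_one_pow (δ : ℤˣ) : ∃ x, δ = (-1) ^ x :=
  (Int.units_eq_one_or δ).elim (⟨0, ·⟩) (⟨1, ·⟩)

theorem tau_eq (i b : ℕ) : tau i b = (-1) ^ ((i + 1) % 2 * b) := by
  unfold tau
  rcases Nat.even_or_odd i with h | h <;> rcases Nat.even_or_odd b with h' | h' <;>
    simp [Nat.add_mod, h'.neg_one_pow, Nat.even_iff.1, Nat.odd_iff.1, h, h', Nat.not_odd_iff_even.2,
      Nat.not_even_iff_odd.2]

theorem lin_cmp {c u v l k : ℕ} (hl : l < c) (hk : k < c) :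
    (c * u + l ≤ c * v + k ↔ u < v ∨ u = v ∧ l ≤ k) ∧ (c * u + l = c * v + k ↔ u = v ∧ l = k) := by
  rcases lt_trichotomy u v with h | rfl | h
  · have := Nat.mul_le_mul_left c (Nat.succ_le_of_lt h)
    rw [Nat.mul_succ] at this; omega
  · omega
  · have := Nat.mul_le_mul_left c (Nat.succ_le_of_lt h)
    rw [Nat.mul_succ] at this; omega

theorem lin_sub {c b m : ℕ} (h : b ≤ m / c) : m - c * b = c * (m / c - b) + m % c := by
  have := Nat.div_add_mod m c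
  have := Nat.mul_le_mul_left c h
  rw [Nat.mul_sub]; omega

theorem lin_le {c b m : ℕ} (hc : 0 < c) : c * b ≤ m ↔ b ≤ m / c := by
  rw [Nat.le_div_iff_mul_le hc, mul_comm]

/-- linear form of the embedding condition -/
def Pb (t n k m l x y α b : ℕ) : Prop :=
  (m + α < n + b ∨ m + α = n + b ∧ l ≤ k) ∧ (b = m → l = 0 → (t * b + x) % 2 = 0) ∧
    (m + α = n + b → l = k → (t * b + x) % 2 = (t * α + y) % 2)

theorem emb_lin {c i n m x y α b : ℕ} (hc : 0 < c) (hα : α ≤ n / c) (hb : b ≤ m / c) :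
    Emb (m - c * b) (tau i b * (-1) ^ x) (n - c * α) (tau i α * (-1) ^ y) ↔
      Pb ((i + 1) % 2) (n / c) (n % c) (m / c) (m % c) x y α b := by
  have h1 := lin_cmp (u := m / c - b) (v := n / c - α) (Nat.mod_lt m hc) (Nat.mod_lt n hc)
  have h2 := (lin_cmp (u := m / c - b) (v := 0) (Nat.mod_lt m hc) hc).2
  rw [mul_zero, add_zero] at h2
  rw [Emb, Pb, lin_sub hα, lin_sub hb, tau_eq, tau_eq, ← pow_add, ← pow_add, neg_one_pow_eq_iff,
    neg_one_pow_eq_one, h1.1, h1.2, h2, and_imp, and_imp, show m / c - b = 0 ↔ b = m / c by omega,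
    show m / c - b < n / c - α ↔ m / c + α < n / c + b by omega,
    show m / c - b = n / c - α ↔ m / c + α = n / c + b by omega]

theorem emb_lin' {c i n y α : ℕ} (hc : 0 < c) : Emb (c * α) (tau i α) n ((-1) ^ y) ↔
    α ≤ n / c ∧ (α = n / c → n % c = 0 → ((i + 1) % 2 * α) % 2 = y % 2) := by
  have h1 := (lin_cmp (u := α) (v := n / c) hc (Nat.mod_lt n hc)).2
  rw [add_zero, Nat.div_add_mod] at h1
  rw [Emb, lin_le hc, h1, tau_eq, neg_one_pow_eq_iff, and_imp, eq_comm (a := 0),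
    and_iff_right (a := _ → _) fun h => by rw [(mul_eq_zero.1 h).resolve_left hc.ne']; simp]


/-- linear form of the comparison for totally singular subspaces -/
def Pt (i n k m l y β o b : ℕ) : Prop :=
  (2 * (m + β) + o + 2 ≤ n + 2 * b ∨ 2 * (m + β) + o + 1 = n + 2 * b ∧ 2 * l ≤ i + k ∨
    2 * (m + β) + o = n + 2 * b ∧ 2 * l ≤ k) ∧
  (2 * (m + β) + o + 1 = n + 2 * b ∧ 2 * l = i + k ∨ 2 * (m + β) + o = n + 2 * b ∧ 2 * l = k →
    (o + y) % 2 = 0)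

theorem ts_lin {i n m y β o b : ℕ} (hi : 0 < i) (hα : 2 * β + o ≤ n / i) (hb : b ≤ m / i) :
    (2 * (m - i * b) ≤ n - i * (2 * β + o) ∧
      (2 * (m - i * b) = n - i * (2 * β + o) → (-1 : ℤˣ) ^ o * (-1) ^ y = 1)) ↔
        Pt i (n / i) (n % i) (m / i) (m % i) y β o b := by
  rw [Pt, lin_sub hα, lin_sub hb, ← pow_add, neg_one_pow_eq_one]
  have h1 := Nat.mod_lt m hi
  have h2 := Nat.mod_lt n hi
  generalize m / i = m', n / i = n', m % i = l, n % i = k at *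
  obtain ⟨u, rfl⟩ := Nat.exists_eq_add_of_le hb
  obtain ⟨v, rfl⟩ := Nat.exists_eq_add_of_le hα
  rw [Nat.add_sub_cancel_left, Nat.add_sub_cancel_left]
  by_cases h : 2 * l < i
  · have := lin_cmp (u := 2 * u) (v := v) h h2
    rw [show 2 * (i * u + l) = i * (2 * u) + 2 * l by ring, this.1, this.2]; omega
  · have := lin_cmp (u := 2 * u + 1) (v := v) (l := 2 * l - i) (by omega) h2
    rw [show 2 * (i * u + l) = i * (2 * u + 1) + (2 * l - i) by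
      rw [mul_add, mul_add, mul_left_comm]; omega, this.1, this.2]; omega


theorem lin_facts {c : ℕ} (hc : 0 < c) (n m : ℕ) : m % c < c ∧ n % c < c ∧ (c ≤ m ↔ 0 < m / c) ∧
    (m < n ↔ m / c < n / c ∨ m / c = n / c ∧ m % c < n % c) ∧ (0 < m ↔ 0 < m / c ∨ 0 < m % c) ∧
    (2 * m < n ↔ 2 * (m / c) + 2 ≤ n / c ∨ 2 * (m / c) + 1 = n / c ∧ 2 * (m % c) < c + n % c ∨
      2 * (m / c) = n / c ∧ 2 * (m % c) < n % c) ∧
    (c % 2 = 0 → n % c % 2 = n % 2 ∧ m % c % 2 = m % 2) ∧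
    (m % c = n % c → (n + m - 2 * (n % c)) / c = n / c + m / c) := by
  have h1 := Nat.mod_lt m hc
  have h2 := Nat.mod_lt n hc
  have h3 := Nat.div_add_mod m c
  have h4 := Nat.div_add_mod n c
  have h5 := lin_cmp (u := n / c) (v := m / c) h2 h1
  have h6 := lin_cmp (u := m / c) (v := 0) h1 hc
  have h7 := ts_lin (n := n) (m := m) (y := 1) (β := 0) (o := 0) (b := 0) hc (Nat.zero_le _) (Nat.zero_le _)
  simp only [Pt, mul_zero, Nat.sub_zero, add_zero, pow_zero, pow_one, one_mul,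
    show (-1 : ℤˣ) ≠ 1 by decide, imp_false] at h7
  refine ⟨h1, h2, by rw [Nat.div_pos_iff]; omega, by omega, by omega, ?_, fun h => ?_, fun h => ?_⟩
  · generalize m / c = u, n / c = v, m % c = l, n % c = k at *
    omega
  · exact ⟨Nat.mod_mod_of_dvd _ (by omega), Nat.mod_mod_of_dvd _ (by omega)⟩
  · rw [show n + m - 2 * (n % c) = c * (n / c + m / c) by rw [mul_add]; omega, Nat.mul_div_cancel_left _ hc]

theorem lin_two {i : ℕ} (hi : 0 < i) (n : ℕ) :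
    n / i % 2 = 0 ∧ n % (2 * i) = n % i ∨ n / i % 2 = 1 ∧ n % (2 * i) = n % i + i := by
  rw [mul_comm, Nat.mod_mul]
  rcases Nat.mod_two_eq_zero_or_one (n / i) with h | h <;> simp [h]

theorem pb_qe {t n k m l x y : ℕ} (h0 : 0 < m ∨ 0 < l) (h1 : m < n ∨ m = n ∧ l < k)
    (h : ∃ α ≤ n, (α = n → k = 0 → (t * α) % 2 = y % 2) ∧ ¬ Pb t n k m l x y α 0) :
    (∀ α, 0 < α → α ≤ n → (α = n → k = 0 → (t * α) % 2 = y % 2) →
      ∃ b ≤ α, b ≤ m ∧ Pb t n k m l x y α b) ↔ k = 0 ∧ (t * n) % 2 ≠ y % 2 ∨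
        0 < m ∧ l ≤ k ∧ (l = 0 → (t * m + x) % 2 = 0) ∧ (l = k → (t * m + x) % 2 = (t * n + y) % 2) := by
  obtain ⟨a, h2, h3, h4⟩ := h
  unfold Pb at *
  refine ⟨fun H => ?_, fun H α h5 h6 h7 => ?_⟩
  · by_cases h5 : k = 0 ∧ (t * n) % 2 ≠ y % 2
    · exact .inl h5
    have h6 : 0 < m := Nat.pos_of_ne_zero fun h => by
      obtain rfl : a = n := by omega
      obtain ⟨b, -, h7, h8⟩ := H a (by omega) le_rfl h3
      obtain rfl : b = 0 := by omega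
      exact h4 h8
    obtain ⟨b, -, h7, h8⟩ := H n (by omega) le_rfl (by omega)
    obtain rfl : b = m := by omega
    exact .inr (by omega)
  by_cases h8 : α < m
  · exact ⟨α, by omega⟩
  by_cases h9 : α = n
  · subst h9
    exact ⟨m, by omega⟩
  by_cases h10 : l = 0 ∧ (t * m + x) % 2 ≠ 0
  · obtain ⟨m, rfl⟩ : ∃ m', m = m' + 1 := ⟨m - 1, by omega⟩
    by_cases h11 : n = α + 1
    · subst h11
      rw [mul_add, mul_add] at *
      exact ⟨m, by omega⟩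
    · exact ⟨m, by omega⟩
  · exact ⟨m, by omega⟩

theorem pt_qe_even {t i n k m l y : ℕ} (ht : 0 < t) (hl : l < i)
    (h1 : 2 * m + 2 ≤ n ∨ 2 * m + 1 = n ∧ 2 * l < i + k ∨ 2 * m = n ∧ 2 * l < k)
    (h : ∃ β o, 2 * β + o ≤ n ∧ (2 * β + o = n → k = 0 → o % 2 = y % 2) ∧ ¬ Pt i n k m l y β o 0) :
    (∀ β o, o ≤ t → 0 < β + o → 2 * β + o ≤ n → (2 * β + o = n → k = 0 → o % 2 = y % 2) →
      ∃ b ≤ β, b ≤ m ∧ Pt i n k m l y β o b) ↔ 0 < m ∧ t + 2 * m ≤ n ∧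
        (2 * l ≤ k ∧ (2 * l = k → n % 2 = y % 2) ∨
          k = 0 ∧ n % 2 ≠ y % 2 ∧ t + 2 * m < n ∧ 2 * l ≤ i) := by
  obtain ⟨β, o, h2, h3, h4⟩ := h
  unfold Pt at *
  refine ⟨fun H => ?_, fun ⟨H1, H2, H⟩ β o h5 h6 h7 h8 => ?_⟩
  · have h6 : 0 < m := Nat.pos_of_ne_zero fun h => by
      obtain ⟨b, -, h7, h8⟩ := H (β + o / 2) (o % 2) (by omega) (by omega) (by omega) (by omega)
      omega
    clear h2 h3 h4
    have h7 : t + 2 * m ≤ n := le_of_not_gt fun h => by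
      obtain ⟨b, h8, -, h9, -⟩ := H 0 (n - 2 * m + 1) (by omega) (by omega) (by omega) (by omega)
      omega
    refine ⟨h6, h7, ?_⟩
    by_cases h8 : k = 0 ∧ n % 2 ≠ y % 2
    · by_cases h9 : t + 2 * m < n
      · obtain ⟨b, -, h10, h11, -⟩ := H ((n - 1) / 2) ((n - 1) % 2) (by omega) (by omega) (by omega)
          (by omega)
        omega
      · obtain ⟨b, h10, -, h11⟩ := H 0 t le_rfl (by omega) (by omega) (by omega)
        omega
    · obtain ⟨b, -, h10, h11⟩ := H (n / 2) (n % 2) (by omega) (by omega) (by omega) (by omega)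
      omega
  clear h1 h2 h3 h4
  rcases le_total β m with h9 | h9
  · exact ⟨β, le_rfl, h9, by omega⟩
  · exact ⟨m, h9, le_rfl, by omega⟩

theorem pt_qe_odd {i n k K m l y : ℕ} (hl : l < i) (hK : n % 2 = 0 ∧ K = k ∨ n % 2 = 1 ∧ K = k + i)
    (h1 : 2 * m + 2 ≤ n ∨ 2 * m + 1 = n ∧ 2 * l < i + k ∨ 2 * m = n ∧ 2 * l < k)
    (h : ∃ β, 2 * β ≤ n ∧ (2 * β = n → k = 0 → 0 = y % 2) ∧ ¬ Pt i n k m l y β 0 0) :
    (∀ β o, o ≤ 0 → 0 < β + o → 2 * β + o ≤ n → (2 * β + o = n → k = 0 → o % 2 = y % 2) →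
      ∃ b ≤ β, b ≤ m ∧ Pt i n k m l y β o b) ↔ 0 < m ∧
        (2 * l ≤ K ∧ (2 * l = K → y % 2 = 0) ∨ K = 0 ∧ y % 2 ≠ 0) := by
  obtain ⟨β, h2, h3, h4⟩ := h
  unfold Pt at *
  refine ⟨fun H => ?_, fun ⟨H1, H⟩ β o h5 h6 h7 h8 => ?_⟩
  · have h6 : 0 < m := Nat.pos_of_ne_zero fun h => by
      obtain ⟨b, -, h7, h8⟩ := H β 0 (by omega) (by omega) (by omega) (by omega)
      omega
    clear h2 h3 h4
    refine ⟨h6, ?_⟩
    by_cases h8 : K = 0 ∧ y % 2 ≠ 0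
    · exact .inr h8
    · obtain ⟨b, -, h10, h11⟩ := H (n / 2) 0 (by omega) (by omega) (by omega) (by omega)
      omega
  clear h2 h3 h4
  rcases le_total β m with h9 | h9
  · exact ⟨β, le_rfl, h9, by omega⟩
  · exact ⟨m, h9, le_rfl, by omega⟩

variable {F : Type u} {V : Type*} [Field F] [AddCommGroup V] [Module F V] {Q : QuadraticForm F V}
  [FiniteDimensional F V] [Fintype F] {r : ℕ} [hr : Fact r.Prime] (hr2 : r ≠ 2)
  (hq : (Fintype.card F : ZMod r) ≠ 0) {i c : ℕ} (hi : i = orderOf (Fintype.card F : ZMod r))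
  (hc : c = if Even i then i else 2 * i) {n m x y : ℕ}
include hr2 hq hi hc

theorem ND.lin_nd (hQ : ND Q) (hG : Good Q) (hn : finrank F V = n) (hy : ty Q = (-1) ^ y) {δ : ℤˣ}
    (hx : δ = (-1) ^ x) (hm : Even m ∨ (2 : F) ≠ 0) (h : r ∣ Nat.card {U // NS Q U m δ}) :
    (AllO Q r (NS Q · m δ) ↔ ∀ α, 0 < α → α ≤ n / c →
      (α = n / c → n % c = 0 → ((i + 1) % 2 * α) % 2 = y % 2) →
        ∃ b ≤ α, b ≤ m / c ∧ Pb ((i + 1) % 2) (n / c) (n % c) (m / c) (m % c) x y α b) ∧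
    ∃ α ≤ n / c, (α = n / c → n % c = 0 → ((i + 1) % 2 * α) % 2 = y % 2) ∧
      ¬ Pb ((i + 1) % 2) (n / c) (n % c) (m / c) (m % c) x y α 0 := by
  have h0 := cc_pos hq hi
  obtain rfl : c = cc i := hc
  subst hx hn
  refine ⟨?_, ?_⟩
  · rw [hQ.allO_odd hG (hr.out.odd_of_ne_two hr2), hQ.ss_nd hr2 hq hi hm, hy]
    refine forall₂_congr fun α _ => ?_
    rw [emb_lin' h0, and_imp]
    refine forall_congr' fun h1 => imp_congr_right fun _ => exists_congr fun b => ?_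
    rw [lin_le h0]
    exact and_congr_right fun _ => and_congr_right fun h2 => emb_lin h0 h1 h2
  · obtain ⟨α, h1, h2⟩ := hQ.dvd_nd hr2 hq hi hm h
    rw [hy, emb_lin' h0] at h1
    refine ⟨α, h1.1, h1.2, ?_⟩
    rwa [← emb_lin h0 h1.1 (Nat.zero_le _), ← hy, mul_zero, Nat.sub_zero, tau_eq i 0, mul_zero, pow_zero,
      one_mul]

omit hc in
theorem ND.lin_ts (hQ : ND Q) (hG : Good Q) (hn : finrank F V = n) (hy : ty Q = (-1) ^ y)
    (h : r ∣ Nat.card {T : Submodule F V // finrank F T = m ∧ ∀ w ∈ T, Q w = 0}) :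
    (AllO Q r (fun T => finrank F T = m ∧ ∀ w ∈ T, Q w = 0) ↔
      ∀ β o, o ≤ (if Odd i then 0 else (r - 1) / i) → 0 < β + o → 2 * β + o ≤ n / i →
        (2 * β + o = n / i → n % i = 0 → o % 2 = y % 2) →
          ∃ b ≤ β, b ≤ m / i ∧ Pt i (n / i) (n % i) (m / i) (m % i) y β o b) ∧
    (∃ β o, (Odd i → o = 0) ∧ 2 * β + o ≤ n / i ∧ (2 * β + o = n / i → n % i = 0 → o % 2 = y % 2) ∧
      ¬ Pt i (n / i) (n % i) (m / i) (m % i) y β o 0) ∧ 0 < i ∧ 0 < (r - 1) / i := by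
  have h0 : 0 < i := hi ▸ orderOf_pos_zmod hq
  have h3 : ∀ β o, Emb (i * (2 * β + o)) ((-1) ^ o) n ((-1) ^ y) ↔ 2 * β + o ≤ n / i ∧
      (2 * β + o = n / i → n % i = 0 → o % 2 = y % 2) := fun β o => by
    have := emb_lin' (i := 0) (n := n) (y := y) (α := 2 * β + o) h0
    rwa [tau_eq, zero_add, Nat.one_mod, one_mul, Nat.mul_add_mod, pow_add, pow_mul, neg_one_sq, one_pow,
      one_mul] at this
  subst hn
  refine ⟨?_, ?_, h0, Nat.div_pos (Nat.le_of_dvd (Nat.sub_pos_of_lt hr.out.one_lt)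
    (hi ▸ ZMod.orderOf_dvd_card_sub_one hq)) h0⟩
  · rw [hQ.allO_odd hG (hr.out.odd_of_ne_two hr2), hQ.ss_ts hr2 hq hi, hy]
    refine forall₄_congr fun β o _ _ => ?_
    rw [h3, and_imp]
    refine forall_congr' fun h1 => imp_congr_right fun _ => exists_congr fun b => ?_
    rw [lin_le h0]
    exact and_congr_right fun _ => and_congr_right fun h2 => ts_lin h0 h1 h2
  · obtain ⟨α, h1, h2⟩ := hQ.dvd_ts hr2 hq hi h
    obtain ⟨β, o, h4, h5, h6⟩ : ∃ β o, (Odd i → o = 0) ∧ cc i * α = i * (2 * β + o) ∧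
        tau i α = (-1) ^ o := by
      rcases Nat.even_or_odd i with h | h
      · exact ⟨0, α, fun h' => absurd h (Nat.not_even_iff_odd.2 h'), by simp [cc, h],
          by simp [tau_eq, Nat.add_mod, Nat.even_iff.1 h]⟩
      · exact ⟨α, 0, fun _ => rfl, by simp [cc, Nat.not_even_iff_odd.2 h]; ring, by simp [tau, h]⟩
    rw [h5, h6, hy] at h1 h2
    rw [h3] at h1
    exact ⟨β, o, h4, h1.1, h1.2, by rwa [← ts_lin h0 h1.1 (Nat.zero_le _), mul_zero, Nat.sub_zero]⟩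

theorem ND.qe_nd (hQ : ND Q) (hG : Good Q) (hn : finrank F V = n) (hy : ty Q = (-1) ^ y) {δ : ℤˣ}
    (hx : δ = (-1) ^ x) (hm : Even m ∨ (2 : F) ≠ 0) (h0 : 0 < m) (h1 : m < n)
    (h : r ∣ Nat.card {U // NS Q U m δ}) :
    AllO Q r (NS Q · m δ) ↔ n % c = 0 ∧ ((i + 1) % 2 * (n / c)) % 2 ≠ y % 2 ∨
      c ≤ m ∧ m % c ≤ n % c ∧ (m % c = 0 → ((i + 1) % 2 * (m / c) + x) % 2 = 0) ∧
        (m % c = n % c → ((i + 1) % 2 * (m / c) + x) % 2 = ((i + 1) % 2 * (n / c) + y) % 2) := by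
  obtain ⟨h2, h3⟩ := hQ.lin_nd hr2 hq hi hc hG hn hy hx hm h
  obtain ⟨-, -, h4, h5, h6, -⟩ := lin_facts (hc ▸ cc_pos hq hi : 0 < c) n m
  rw [h2, pb_qe (h6.1 h0) (h5.1 h1) h3, h4]

theorem ND.qe_ts (hQ : ND Q) (hG : Good Q) (hn : finrank F V = n) (hy : ty Q = (-1) ^ y) (h1 : 2 * m < n)
    (h : r ∣ Nat.card {T : Submodule F V // finrank F T = m ∧ ∀ w ∈ T, Q w = 0}) :
    AllO Q r (fun T => finrank F T = m ∧ ∀ w ∈ T, Q w = 0) ↔ i ≤ m ∧
      (Odd i ∧ (2 * (m % i) ≤ n % c ∧ (2 * (m % i) = n % c → y % 2 = 0) ∨ n % c = 0 ∧ y % 2 ≠ 0) ∨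
        Even i ∧ (r - 1) / i + 2 * (m / i) ≤ n / i ∧
          (2 * (m % i) ≤ n % c ∧ (2 * (m % i) = n % c → n / i % 2 = y % 2) ∨
            n % c = 0 ∧ n / i % 2 ≠ y % 2 ∧ (r - 1) / i + 2 * (m / i) < n / i ∧ 2 * (m % i) ≤ i)) := by
  obtain ⟨h2, ⟨β, o, h3, h4⟩, h5, h6⟩ := hQ.lin_ts hr2 hq hi hG hn hy h
  obtain ⟨h7, -, h8, -, -, h9, -⟩ := lin_facts h5 n m
  rw [h2, h8]
  rcases Nat.even_or_odd i with h10 | h10
  · obtain rfl : c = i := by simp [hc, h10]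
    rw [if_neg (Nat.not_odd_iff_even.2 h10), pt_qe_even h6 h7 (h9.1 h1) ⟨β, o, h4⟩]
    simp [h10]
  · obtain rfl : c = 2 * i := by simp [hc, Nat.not_even_iff_odd.2 h10]
    obtain rfl := h3 h10
    rw [if_pos h10, pt_qe_odd h7 (lin_two h5 n) (h9.1 h1) ⟨β, h4⟩]
    simp [h10]

end Cfsg.Agent.H13
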