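import Cfsg.Agent.H13.EO5

/-!
The characteristic does not divide the number of totally singular subspaces.
-/

set_option autoImplicit false

namespace Cfsg.Agent.H13

open Module H28 QuadraticMap
open scoped Pointwise

universe u v

variable {F : Type u} [Field F] [Fintype F]

theorem ND.exists_fixed_ts {G : Type*} [Group G] (hG : IsPGroup (ringChar F) G) (m : ℕ) :
    ∀ {V : Type v} [AddCommGroup V] [Module F V] [FiniteDimensional F V] {Q : QuadraticForm F V}, ND Q →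
      2 * m < finrank F V → ∀ ρ : G →* OG Q, ∃ T : Submodule F V,
        (finrank F T = m ∧ ∀ w ∈ T, Q w = 0) ∧ ∀ g, Fx (ρ g) T := by
  induction m with
  | zero => exact fun _ _ _ => ⟨⊥, ⟨finrank_bot _ _, by simp⟩, fun _ => iv_bot _⟩
  | succ m ih =>
    intro V _ _ _ Q hQ hm ρ
    obtain ⟨u, h1, h2, h3⟩ := hQ.exists_fixed_singular (by omega) hG ρ
    obtain ⟨v, h⟩ := hQ.exists_hp h1 h2
    have h4 := h.finrank_pp
    obtain ⟨T, ⟨h5, h6⟩, h7⟩ := ih (h.nd_pp hQ) (by omega)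
      (h.levi.comp (ρ.codRestrict (MulAction.stabilizer (OG Q) u) h3))
    have h8 : u ∉ T.map (pp Q u v).subtype := by
      rintro ⟨w, -, hw⟩
      exact zero_ne_one ((pp_right w).symm.trans ((congrArg (polar Q v) hw).trans h.vu))
    refine ⟨T.map (pp Q u v).subtype ⊔ F ∙ u, ⟨by rw [finrank_sup_span_singleton_of_notMem h8,
      Submodule.finrank_map_subtype_eq, h5], fun x hx => ?_⟩, fun g x hx => ?_⟩ <;>
    obtain ⟨_, ⟨w, hw, rfl⟩, _, ⟨c, rfl⟩, rfl⟩ := by
      simpa only [Submodule.mem_sup, Submodule.mem_span_singleton, Submodule.mem_map] using hx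
    · simpa [Q_add, Q_smul, h1, pp_left'] using h6 w hw
    · change (ρ g).1 _ ∈ _
      have := Submodule.add_mem_sup (Submodule.mem_map_of_mem (f := (pp Q u v).subtype) (h7 g w hw))
        (Submodule.smul_mem _ (polar Q v ((ρ g).1 w) + c) (Submodule.mem_span_singleton_self u))
      convert this using 1
      rw [map_add, map_smul, h3, add_smul, ← add_assoc]
      exact congrArg (· + _) (eq_add_of_sub_eq (h.coe_levi_apply ⟨ρ g, h3 g⟩ w).symm)

variable {V : Type*} [AddCommGroup V] [Module F V] [FiniteDimensional F V] {Q : QuadraticForm F V}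

theorem ND.not_dvd_ts (hQ : ND Q) {p m : ℕ} [Fact p.Prime] [CharP F p] (hm : 2 * m < finrank F V) :
    ¬ p ∣ Nat.card {T : Submodule F V // finrank F T = m ∧ ∀ w ∈ T, Q w = 0} := by
  have : Finite V := Module.finite_of_finite F
  refine not_dvd_card_of_fixed (G := OG Q) (fun g U hU => ⟨(LinearEquiv.finrank_map_eq _ _).trans hU.1,
    singular_map hU.2 g⟩) (fun U U' h h' => hQ.exists_map_eq_of_singular (h.1.trans h'.1.symm) h.2 h'.2)
    fun R hR => ?_
  obtain ⟨T, h1, h2⟩ := ND.exists_fixed_ts (ringChar.eq F p ▸ hR) m hQ hm R.subtype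
  exact ⟨T, h1, fun g hg => (h2 ⟨g, hg⟩).map_eq⟩

theorem ND.qe_two_ts (hQ : ND Q) (h2 : (2 : F) ≠ 0) {m n : ℕ} (hn : finrank F V = n) (hm : 2 * m < n)
    (h3 : 2 < n) : AllO Q 2 (fun T => finrank F T = m ∧ ∀ w ∈ T, Q w = 0) ↔ sgn (-1 : F) = 1 ∨
      2 * m + 2 ≤ n ∧ (2 * m + 2 = n → ty Q = -1) ∧ (II Q → Even m) := by
  subst hn
  rw [hQ.allO_two_ts h2 hm]
  rcases Int.units_eq_one_or (sgn (-1 : F)) with h | h
  · simp only [h, one_pow, true_or, implies_true, and_true, iff_true]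
    exact fun j _ _ => ⟨min j m, by omega, by omega, by omega, by omega⟩
  obtain ⟨y, hy⟩ := exists_neg_one_pow (ty Q)
  have h4 : (-1 : ℤˣ) ^ y = -1 ↔ y % 2 = 1 % 2 := neg_one_pow_eq_iff (b := 1)
  simp only [h, hy, ← pow_add, neg_one_pow_eq_one, h4, show (-1 : ℤˣ) ≠ 1 by decide, false_or,
    ← and_assoc]
  refine and_congr_left' ⟨fun H => ?_, fun H j _ _ => ⟨min (2 * (j / 2)) m, by omega⟩⟩
  obtain ⟨a, H⟩ := H 1 one_pos (by omega)
  omega

/-- the signs of `-1` and `2` -/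
theorem sgn_cases (h : Odd (Fintype.card F)) :
    Fintype.card F % 8 = 1 ∧ sgn (-1 : F) = 1 ∧ sgn (2 : F) = 1 ∨
    Fintype.card F % 8 = 3 ∧ sgn (-1 : F) = -1 ∧ sgn (2 : F) = -1 ∨
    Fintype.card F % 8 = 5 ∧ sgn (-1 : F) = 1 ∧ sgn (2 : F) = -1 ∨
    Fintype.card F % 8 = 7 ∧ sgn (-1 : F) = -1 ∧ sgn (2 : F) = 1 := by
  simp only [sgn_eq_one_iff, sgn_eq_neg_one_iff, FiniteField.isSquare_neg_one_iff,
    FiniteField.isSquare_two_iff]
  rw [Nat.odd_iff] at h
  omega

end Cfsg.Agent.H13
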