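import Cfsg.Agent.H13.EO6
import Cfsg.Agent.H13.QE
import Cfsg.Agent.H28.Elu4
import Cfsg.Agent.H28.Spec2

/-!
Unipotent isometries of quadratic forms in odd characteristic.
-/

set_option autoImplicit false

namespace Cfsg.Agent.H13

open Module H28 QuadraticMap Polynomial

universe u

variable {F : Type u} {V W : Type*} [Field F] [AddCommGroup V] [Module F V] [AddCommGroup W]
  [Module F W] {Q : QuadraticForm F V} {R : QuadraticForm F W} {U : Submodule F V}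

theorem exists_odd_block (h2 : (2 : F) ≠ 0) (j : ℕ) : ∃ Q : QuadraticForm F (Tr F (2 * j + 1)),
    ND Q ∧ ∀ x, Q (cyc ((X - 1 : F[X]) ^ (2 * j + 1)) x) = Q x := by
  set m := 2 * j with hm
  set ρ : Tr F (m + 1) := AdjoinRoot.root _ with hρ
  have h0 : (ρ - 1) ^ (m + 1) = 0 := Tr_pow_eq_zero.2 le_rfl
  obtain ⟨ρ', h1⟩ : ∃ ρ', ρ' * ρ = 1 := by
    simpa using (IsNilpotent.isUnit_add_one ⟨_, h0⟩).exists_left_inv
  have h3 : ∀ j, (ρ' - 1) ^ j = (-1) ^ j * ρ' ^ j * (ρ - 1) ^ j := fun j => by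
    rw [← mul_pow, ← mul_pow]; congr 1; linear_combination h1
  let τ : Tr F (m + 1) →ₐ[F] Tr F (m + 1) := AdjoinRoot.liftAlgHom _ (Algebra.ofId _ _) ρ' (by
    simp [eval₂_pow, h3, h0])
  have hτ : τ ρ = ρ' := AdjoinRoot.liftAlgHom_root ..
  have hτ2 : τ ρ' = ρ := by
    have := congrArg τ h1
    rw [map_mul, hτ, map_one] at this
    linear_combination ρ * this - τ ρ' * h1
  have ht : ∀ a, τ (τ a) = a := DFunLike.congr_fun (AdjoinRoot.algHom_ext (g₁ := τ.comp τ)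
    (g₂ := AlgHom.id _ _) (by simpa [← hρ, hτ] using hτ2))
  obtain ⟨μ, hμ⟩ := Module.Projective.exists_dual_eq_one F
    (fun h => by simpa using Tr_pow_eq_zero.1 h : (ρ - 1) ^ m ≠ 0)
  have h4 : τ ((ρ - 1) ^ m) = (ρ - 1) ^ m := by
    have h5 : ρ' * (ρ - 1) ^ m = (ρ - 1) ^ m := by
      linear_combination (ρ - 1) ^ m * h1 - ρ' * h0
    have h6 : ∀ j, ρ' ^ j * (ρ - 1) ^ m = (ρ - 1) ^ m := fun j => by
      induction j with
      | zero => simp
      | succ j ih => rw [pow_succ ρ', mul_assoc, h5, ih]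
    rw [map_pow, map_sub, hτ, map_one, h3, mul_assoc, h6, (even_two_mul j).neg_one_pow, one_mul]
  refine ⟨LinearMap.BilinMap.toQuadraticMap (((LinearMap.mul F _).compr₂ μ).comp τ.toLinearMap),
    fun x hx => by_contra fun ha => ?_, fun x => ?_⟩
  · obtain ⟨w, rfl⟩ := AdjoinRoot.mk_surjective x
    obtain ⟨w', h5, h6⟩ := exists_eq_pow_rootMultiplicity_mul_and_not_dvd w
      (fun h => ha (by rw [h, map_zero])) 1
    generalize rootMultiplicity 1 w = i at h5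
    have h7 : i ≤ m := by
      by_contra! h
      exact ha (AdjoinRoot.mk_eq_zero.2 (h5 ▸ (pow_dvd_pow _ h).mul_right _))
    obtain ⟨u, v, huv⟩ : IsCoprime w' ((X - 1) ^ (m + 1)) :=
      ((irreducible_X_sub_one.coprime_iff_not_dvd.2 h6).symm).pow_right
    have h8 := congrArg (AdjoinRoot.mk ((X - 1 : F[X]) ^ (m + 1))) huv
    rw [map_add, map_mul, map_mul, AdjoinRoot.mk_self, mul_zero, add_zero, map_one] at h8
    have h9 : AdjoinRoot.mk _ w * (AdjoinRoot.mk _ u * (ρ - 1) ^ (m - i)) = (ρ - 1) ^ m := by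
      rw [h5, map_mul, map_pow, map_sub, AdjoinRoot.mk_X, C_1, map_one, ← hρ]
      calc _ = (ρ - 1) ^ i * (ρ - 1) ^ (m - i) * (AdjoinRoot.mk _ u * AdjoinRoot.mk _ w') := by ring
        _ = _ := by rw [h8, mul_one, ← pow_add, Nat.add_sub_cancel' h7]
    generalize AdjoinRoot.mk _ u * (ρ - 1) ^ (m - i) = y, AdjoinRoot.mk _ w = x at *
    have := hx (τ y)
    rw [LinearMap.BilinMap.polar_toQuadraticMap] at this
    change μ (τ x * τ y) + μ (τ (τ y) * x) = 0 at this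
    rw [← map_mul τ, ht, mul_comm y, h9, h4, hμ, one_add_one_eq_two] at this
    exact h2 this
  · change μ (τ (ρ * x) * (ρ * x)) = μ (τ x * x)
    rw [map_mul τ, hτ, mul_mul_mul_comm, h1, one_mul]

theorem exists_even_pair (h2 : (2 : F) ≠ 0) (j : ℕ) :
    ∃ Q : QuadraticForm F (Tr F (2 * j + 1 + 1) × Tr F (2 * j + 1 + 1)), ND Q ∧ IsPlus Q ∧
      ∀ x, Q ((cyc ((X - 1 : F[X]) ^ (2 * j + 1 + 1))).prodMap (cyc ((X - 1 : F[X]) ^ (2 * j + 1 + 1))) x) =
        Q x := by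
  obtain ⟨B, h1, h3⟩ := exists_sd_unip (F := F) (σ := RingHom.id F) (fun _ => rfl) (m := 2 * j + 1) (θ := 1)
    fun h => h2 (by simp [pow_succ] at h; linear_combination h)
  refine ⟨LinearMap.BilinMap.toQuadraticMap (B.compl₁₂ (LinearMap.fst F _ _) (LinearMap.snd F _ _)),
    fun x hx => Prod.ext (h1.sep _ fun y => ?_) (h1.sep _ fun y => ?_),
    isPlus_of_map (j := LinearMap.inl F _ _) LinearMap.inl_injective (by simp) (by simp [two_mul]),
    fun x => h3 _ _⟩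
  · simpa [LinearMap.BilinMap.polar_toQuadraticMap] using hx (0, y)
  · simpa [h1.skew y x.2, LinearMap.BilinMap.polar_toQuadraticMap] using hx (y, 0)

variable [FiniteDimensional F V] [FiniteDimensional F W]

theorem ND.even_rank (hQ : ND Q) {T : End F V} (h : ∀ x, polar Q x (T x) = 0) :
    Even (finrank F (LinearMap.range T)) := by
  have h1 : ∀ x y, polar Q x (T y) = -polar Q y (T x) := fun x y => by
    simpa [h x, h y, eq_neg_iff_add_eq_zero, add_comm] using h (x + y)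
  have h3 : ∀ u u', gam (σ := RingHom.id F) (polarBilin Q) T u u' = polar Q (secR T u) (T (secR T u')) :=
    fun u u' => by rw [apply_secR]; rfl
  refine H12.SD.even_finrank (B := gam (σ := RingHom.id F) (polarBilin Q) T)
    ⟨fun _ => rfl, fun x y => by rw [h3, h3, h1]; rfl, fun x hx => Subtype.ext (hQ _ fun y => ?_),
      fun x => ⟨0, by simp [h3, h]⟩⟩
  rw [← apply_secR, polar_comm, h1, neg_eq_zero]
  exact hx ⟨T y, y, rfl⟩

theorem two_sum_min (μ : Multiset ℕ) (k : ℕ) : 2 * (μ.map (min (k + 1))).sum =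
    (μ.map (min k)).sum + (μ.map (min (k + 2))).sum + μ.count (k + 1) := by
  induction μ using Multiset.induction_on with
  | empty => simp
  | cons a μ ih =>
    simp only [Multiset.map_cons, Multiset.sum_cons, Multiset.count_cons]
    split_ifs <;> omega

/-- unipotent isometries -/
abbrev Unp (g : OG Q) : Prop := IsNilpotent ((g.1 : End F V) - 1)

/-- Jordan type -/
noncomputable abbrev jo (g : OG Q) : Multiset ℕ := jt (g.1 : End F V)

theorem ND.jo_split (hQ : ND Q) {g : OG Q} (hg : Unp g) (hU : ND (Q.restrict U)) (h : Fx g U) :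
    Unp (resOG U g h.mem_iff) ∧ Unp (resOG _ g h.perp.mem_iff) ∧
      jo g = jo (resOG U g h.mem_iff) + jo (resOG _ g h.perp.mem_iff) := by
  have h1 : ed (g.1 : End F V) = ed ((resOG U g h.mem_iff).1 : End F U) +
      ed ((resOG _ g h.perp.mem_iff).1 : End F (perp Q U)) := by
    rw [ed_eq_add h h.perp (hQ.isCompl hU), edOn_eq h, edOn_eq h.perp]; rfl
  simp only [isNilpotent_iff_ed, jt, h1, Multiset.mem_add, or_imp, forall_and] at hg ⊢
  exact ⟨hg.1, hg.2, Multiset.map_add ..⟩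

theorem eq_single_of_sum {μ : Multiset ℕ} (h : ∀ k ∈ μ, 0 < k) (h1 : μ.sum = 1) : μ = {1} := by
  rw [eq_replicate_one h, h1]; · rfl
  rintro ⟨k, h2, h3⟩
  have := Multiset.le_sum_of_mem h2
  omega

variable (h2 : (2 : F) ≠ 0)
include h2

theorem ND.even_count (hQ : ND Q) {g : OG Q} (hg : Unp g) {e : ℕ} (he : Even e) : Even ((jo g).count e) := by
  have h1 : ∀ j, Odd j → (((jo g).map (min j)).sum + finrank F V) % 2 = 0 := fun j hj => by
    unfold Unp jo at *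
    set a := (g.1 : End F V)
    set b := ((g⁻¹).1 : End F V)
    have h3 : b * a = 1 := LinearMap.ext (OG_inv_apply_apply g)
    have h4 : a * b = 1 := LinearMap.ext (OG_apply_inv g)
    have h5 : ∀ k x y, polar Q (((a - b) ^ k) x) y = (-1) ^ k * polar Q x (((a - b) ^ k) y) := fun k => by
      induction k with
      | zero => simp
      | succ k ih =>
        intro x y
        rw [pow_succ, End.mul_apply, ih, ← pow_succ, pow_succ' (a - b), End.mul_apply, LinearMap.sub_apply,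
          LinearMap.sub_apply, polar_sub_left, polar_sub_right, pow_succ]
        have := OG_polar_left g x (((a - b) ^ k) y)
        have := OG_polar_right g x (((a - b) ^ k) y)
        simp only [a, b, LinearEquiv.coe_coe] at *
        grind
    have h6 := hQ.even_rank (T := (a - b) ^ j) fun x => by
      have := h5 j x x
      rw [hj.neg_one_pow, polar_comm, neg_one_mul, eq_neg_iff_add_eq_zero, ← two_mul] at this
      exact (mul_eq_zero.1 this).resolve_left h2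
    have h7 : IsUnit ((a + 1) * b) := by
      refine .mul ?_ (IsUnit.of_mul_eq_one _ h3)
      have := hg.isUnit_add_left_of_commute ((IsUnit.mk0 _ h2).map (algebraMap F (End F V)))
        (Algebra.commutes _ _).symm
      rwa [map_ofNat, show 2 + (a - 1) = a + 1 by rw [← one_add_one_eq_two]; abel] at this
    have h8 : a - b = (a - 1) * ((a + 1) * b) := by noncomm_ring [h4, h3]
    rw [h8, Commute.mul_pow (by rw [commute_iff_eq]; noncomm_ring [h4, h3]), End.mul_eq_comp,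
      LinearMap.range_comp_of_range_eq_top _ (LinearMap.range_eq_top.2
        ((End.isUnit_iff _).1 (h7.pow j)).2), Nat.even_iff] at h6
    have := LinearMap.finrank_range_add_finrank_ker ((a - 1) ^ j)
    rw [finrank_ker_pow hg] at this
    omega
  obtain ⟨_ | k, rfl⟩ := he
  · simp [Multiset.count_eq_zero.2 fun h => (jt_pos h).ne rfl]
  have := h1 (2 * k + 1) (by simp)
  have := h1 (2 * k + 1 + 2) ⟨k + 1, by ring⟩
  have := two_sum_min (jo g) (2 * k + 1)
  rw [Nat.even_iff, show k + 1 + (k + 1) = 2 * k + 1 + 1 by ring]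
  omega

theorem ND.isPlus_of_jo (hQ : ND Q) {g : OG Q} (hg : Unp g) (h : ∀ k ∈ jo g, k = 2) : IsPlus Q := by
  have h1 := (pow_eq_zero_iff_jt hg 2).2 fun k hk => (h k hk).le
  have h3 := sum_jt hg
  have h4 := LinearMap.finrank_range_add_finrank_ker ((g.1 : End F V) - 1)
  rw [finrank_ker_sub_one hg] at h4
  unfold jo at h
  rw [Multiset.eq_replicate_card.2 h, Multiset.sum_replicate, smul_eq_mul] at h3
  refine ⟨LinearMap.range ((g.1 : End F V) - 1), by omega, ?_⟩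
  rintro _ ⟨v, rfl⟩
  have h5 := mem_perp.1 (hQ.perp_fixS g ▸ ⟨v, rfl⟩ : subOne g v ∈ perp Q (fixS g)) (subOne g v)
    (LinearMap.congr_fun h1 v)
  rw [polar_self'] at h5
  exact (mul_eq_zero.1 h5).resolve_left h2

theorem exists_um_even (μ : Multiset ℕ) (h0 : ∀ k ∈ μ, 0 < k) (h1 : ∀ e, Even e → Even (μ.count e)) :
    ∃ (V : Type u) (_ : AddCommGroup V) (_ : Module F V) (_ : FiniteDimensional F V) (Q : QuadraticForm F V)
      (a : End F V), ND Q ∧ (∀ x, Q (a x) = Q x) ∧ ed a = μ.map (upp F) ∧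
        ((∀ k ∈ μ, Even k) → IsPlus Q) := by
  induction μ using Multiset.strongInductionOn with | _ μ ih =>
  rcases μ.empty_or_exists_mem with rfl | ⟨k, hk⟩
  · exact ⟨_, _, _, inferInstance, 0, _, fun _ _ => Subsingleton.elim _ _, fun _ => rfl, ed_model 0,
      fun _ => ⟨⊥, by simp [finrank_zero_of_subsingleton], by simp⟩⟩
  obtain ⟨μ, rfl⟩ := Multiset.exists_cons_of_mem hk
  rcases Nat.even_or_odd k with h | ⟨j, rfl⟩
  · obtain ⟨μ, rfl⟩ := Multiset.exists_cons_of_mem (s := μ) (a := k) (by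
      have := Nat.even_iff.1 (h1 k h)
      rw [Multiset.count_cons_self] at this
      exact Multiset.count_pos.1 (by omega))
    obtain ⟨V, _, _, _, Q, a, h3, h4, h5, h6⟩ := ih μ ((Multiset.lt_cons_self _ _).trans
      (Multiset.lt_cons_self _ _)) (fun k hk => h0 k (by simp [hk])) fun e he => by
        have := Nat.even_iff.1 (h1 e he)
        simp only [Multiset.count_cons] at this
        rw [Nat.even_iff]
        split_ifs at this <;> omega
    obtain ⟨j, rfl⟩ : ∃ j, k = 2 * j + 1 + 1 := ⟨k / 2 - 1, by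
      have := h0 k hk
      rw [Nat.even_iff] at h; omega⟩
    obtain ⟨R, h7, h8, h9⟩ := exists_even_pair h2 j
    exact ⟨_, _, _, inferInstance, R.prod Q, LinearMap.prodMap _ a, h7.prod h3,
      fun x => congrArg₂ (· + ·) (h9 _) (h4 _), by
        rw [ed_prodMap, ed_prodMap, h5, Multiset.map_cons, Multiset.map_cons, ← Multiset.singleton_add,
          ← Multiset.singleton_add, ← add_assoc, ← ed_cyc]; rfl,
      fun h => h8.prod (h6 fun k hk => h k (by simp [hk]))⟩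
  · obtain ⟨V, _, _, _, Q, a, h3, h4, h5, -⟩ := ih μ (Multiset.lt_cons_self _ _)
      (fun k hk => h0 k (by simp [hk])) fun e he => by
        rw [← Multiset.count_cons_of_ne (b := 2 * j + 1) (by rintro rfl; simp at he)]; exact h1 e he
    obtain ⟨R, h7, h9⟩ := exists_odd_block h2 j
    exact ⟨_, _, _, inferInstance, R.prod Q, LinearMap.prodMap _ a, h7.prod h3,
      fun x => congrArg₂ (· + ·) (h9 _) (h4 _), by
        rw [ed_prodMap, h5, Multiset.map_cons, ← Multiset.singleton_add, ← ed_cyc]; rfl,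
      fun h => absurd (h _ hk) (by simp)⟩

variable [Fintype F]

theorem ND.ty_smul (hQ : ND Q) (h : Odd (finrank F V)) {c : F} (hc : c ≠ 0) :
    ND (c • Q) ∧ ty (c • Q) = sgn c * ty Q := by
  have h1 := (SemiSim.ofLinear (Q := Q) (R := c • Q) (.refl F V) c hc fun _ => rfl).nd hQ
  refine ⟨h1, ?_⟩
  obtain ⟨k, hk⟩ := h
  rw [h1.ty_eq h2, hQ.ty_eq h2, hQ.disc_of_similar (R := c • Q) (.refl F V) hc fun _ => rfl, mul_assoc,
    hk, pow_succ, pow_mul, pow_two, Int.units_mul_self, one_pow, one_mul]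

omit [FiniteDimensional F V] [FiniteDimensional F W] in
theorem exists_sgn_eq (δ : ℤˣ) : ∃ c : F, c ≠ 0 ∧ sgn c = δ := by
  rcases Int.units_eq_one_or δ with rfl | rfl
  exacts [⟨1, one_ne_zero, sgn_one⟩, exists_sgn_eq_neg_one h2]

theorem ND.exists_jo (hQ : ND Q) {μ : Multiset ℕ} (h0 : ∀ k ∈ μ, 0 < k)
    (h1 : ∀ e, Even e → Even (μ.count e)) (hn : μ.sum = finrank F V) (h : (∃ k ∈ μ, Odd k) ∨ ty Q = 1) :
    ∃ g : OG Q, Unp g ∧ jo g = μ := by
  obtain ⟨W, _, _, _, R, a, h3, h4, h5, h6⟩ : ∃ (W : Type u) (_ : AddCommGroup W) (_ : Module F W)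
      (_ : FiniteDimensional F W) (R : QuadraticForm F W) (a : End F W), ND R ∧ (∀ x, R (a x) = R x) ∧
        ed a = μ.map (upp F) ∧ ty R = ty Q := by
    by_cases h7 : ∃ k ∈ μ, Odd k
    · obtain ⟨_, hk, j, rfl⟩ := h7
      obtain ⟨μ, rfl⟩ := Multiset.exists_cons_of_mem hk
      obtain ⟨W, _, _, _, R, a, h3, h4, h5, -⟩ := exists_um_even h2 μ (fun k hk => h0 k (by simp [hk]))
        fun e he => by
          rw [← Multiset.count_cons_of_ne (b := 2 * j + 1) (by rintro rfl; simp at he)]; exact h1 e he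
      obtain ⟨S, h7, h9⟩ := exists_odd_block h2 j
      obtain ⟨c, hc, h10⟩ := exists_sgn_eq h2 (ty (S.prod R) * ty Q)
      obtain ⟨h11, h12⟩ := h7.ty_smul h2 (by simp [finrank_Tr]) hc
      refine ⟨_, _, _, inferInstance, (c • S).prod R, LinearMap.prodMap _ a, h11.prod h3,
        fun x => congrArg₂ (c • · + ·) (h9 _) (h4 _), by
          rw [ed_prodMap, h5, Multiset.map_cons, ← Multiset.singleton_add, ← ed_cyc]; rfl, ?_⟩
      rw [h11.ty_prod h3, h12, h10, mul_left_comm, mul_assoc, ← h7.ty_prod h3, mul_right_comm,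
        Int.units_mul_self, one_mul]
    · obtain ⟨W, _, _, _, R, a, h3, h4, h5, h6⟩ := exists_um_even h2 μ h0 h1
      have h8 := h6 fun k hk => Nat.not_odd_iff_even.1 fun h => h7 ⟨k, hk, h⟩
      exact ⟨W, _, _, inferInstance, R, a, h3, h4, h5, by
        rw [h.resolve_left h7, ← isPlus_iff_ty (h8.elim fun _ h => h.1 ▸ even_two_mul _)]; exact h8⟩
  obtain ⟨h7, h8⟩ := jt_of_ed h0 h5
  obtain ⟨e, he⟩ := h3.iso_of_ty hQ (by rw [← sum_jt h7, h8, hn]) h6
  obtain ⟨g, hg, -⟩ := hQ.exists_ext h3 (j := e) he h4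
  exact ⟨g, jt_of_ed h0 (h5 ▸ (Sim.ed_eq ⟨e, fun v => (hg v).symm⟩).symm)⟩

/-- properties of the Jordan type of an invariant subspace -/
def JP (g : OG Q) (ν : Multiset ℕ) (m : ℕ) (δ : ℤˣ) : Prop :=
  ν.sum = m ∧ (∀ e, Even e → Even (ν.count e)) ∧ ((∀ k ∈ ν, k = 2) → δ = 1) ∧
    ∀ b, ν = 1 ::ₘ .replicate b 2 → ∃ v, g.1 v = v ∧ Q v ≠ 0 ∧ δ = sgn (2 * Q v)

theorem ND.ty_of_jo (hQ : ND Q) {g : OG Q} (hg : Unp g) (h : ∀ k ∈ jo g, k = 2) : ty Q = 1 :=
  have h1 := hQ.isPlus_of_jo h2 hg h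
  (isPlus_iff_ty (h1.elim fun _ h => h.1 ▸ even_two_mul _)).1 h1

theorem ND.jo_line (hQ : ND Q) {g : OG Q} (hg : Unp g) {v : V} (h3 : g.1 v = v) (h4 : Q v ≠ 0) :
    ∃ h : Fx g (perp Q (F ∙ v)), Unp (resOG _ g h.mem_iff) ∧ jo g = 1 ::ₘ jo (resOG _ g h.mem_iff) := by
  have h5 := ns_line h2 h4
  have h : Fx g (F ∙ v) := fx_of_le (c := 1) fun x hx => by
    obtain ⟨c, rfl⟩ := Submodule.mem_span_singleton.1 hx
    rw [map_smul, h3, one_smul]
  obtain ⟨h6, h7, h8⟩ := hQ.jo_split hg h5.nd h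
  rw [show jo (resOG _ g h.mem_iff) = _ from eq_single_of_sum (fun _ => jt_pos) ((sum_jt h6).trans h5.rk)]
    at h8
  exact ⟨h.perp, h7, h8⟩

theorem ND.jp (hQ : ND Q) {g : OG Q} (hg : Unp g) : JP g (jo g) (finrank F V) (ty Q) := by
  refine ⟨sum_jt hg, fun _ => hQ.even_count h2 hg, hQ.ty_of_jo h2 hg, fun b hb => ?_⟩
  obtain ⟨v, h3, h4⟩ : ∃ v ∈ fixS g, Q v ≠ 0 := by
    by_contra! h
    have h3 := hQ.two_mul_finrank_le h
    rw [← sum_jt hg, show finrank F (fixS g) = _ from finrank_ker_sub_one hg, show jt _ = _ from hb] at h3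
    simp at h3; omega
  obtain ⟨h6, h7, h8⟩ := hQ.jo_line h2 hg (mem_fixS.1 h3) h4
  rw [hb, Multiset.cons_inj_right] at h8
  have h9 := (ns_line h2 h4).orth hQ
  have h10 := (h9.nd.ty_of_jo h2 h7 fun k hk => Multiset.eq_of_mem_replicate (h8 ▸ hk)).symm.trans h9.tp
  rw [kap_of_even (.inr (by rw [← h9.rk, ← sum_jt h7, show jt _ = _ from h8.symm]; simp)), one_mul,
    eq_comm, mul_eq_one_iff_inv_eq, Int.units_inv_eq_self] at h10
  exact ⟨v, mem_fixS.1 h3, h4, h10.symm⟩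

theorem ND.jp_split (hQ : ND Q) {g : OG Q} (hg : Unp g) {m : ℕ} {δ : ℤˣ} (h : NS Q U m δ) (hU : Fx g U) :
    ∃ ν ν', jo g = ν + ν' ∧ JP g ν m δ ∧
      JP g ν' (finrank F V - m) (kap F m (finrank F V - m) * δ * ty Q) := by
  obtain ⟨h3, h4, h5⟩ := hQ.jo_split hg h.nd hU
  have key : ∀ {U m δ} (h : NS Q U m δ) (hU : Fx g U), Unp (resOG U g hU.mem_iff) →
      JP g (jo (resOG U g hU.mem_iff)) m δ := fun h hU h3 => by
    obtain ⟨h4, h5, h6, h7⟩ := h.nd.jp h2 h3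
    rw [h.rk, h.tp] at *
    exact ⟨h4, h5, h6, fun b hb => (h7 b hb).elim fun v hv =>
      ⟨v, congrArg Subtype.val hv.1, hv.2⟩⟩
  exact ⟨_, _, h5, key h hU h3, key (h.orth hQ) hU.perp h4⟩

omit h2 [Fintype F] in
theorem pow_char_of_jo {p : ℕ} [Fact p.Prime] [CharP F p] {g : OG Q} (hg : Unp g) (h : ∀ k ∈ jo g, k ≤ p) :
    g ^ p = 1 :=
  leq_inj (by rw [map_pow, map_one, pow_char_eq_one_iff]; exact (pow_eq_zero_iff_jt hg p).2 h)

omit h2 [Fintype F] in
theorem ne_one_of_jo {g : OG Q} (hg : Unp g) {k : ℕ} (h : k ∈ jo g) (h1 : 1 < k) : g ≠ 1 := by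
  rintro rfl
  exact h1.not_ge ((pow_eq_zero_iff_jt hg 1).1 (by ext; simp) k h)

/-- Jordan types with blocks of size at most three -/
def t3 (a b c : ℕ) : Multiset ℕ := .replicate a 1 + .replicate b 2 + .replicate c 3

omit h2 [Fintype F] in
theorem count_t3 (a b c e : ℕ) : (t3 a b c).count e =
    if e = 1 then a else if e = 2 then b else if e = 3 then c else 0 := by
  simp only [t3, Multiset.count_add, Multiset.count_replicate]
  split_ifs <;> omega

omit h2 [Fintype F] in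
theorem JP.t3 {g : OG Q} {ν : Multiset ℕ} {m a b c : ℕ} {δ : ℤˣ} (h : JP g ν m δ) (h1 : ν ≤ t3 a b c) :
    ν.count 1 + 2 * ν.count 2 + 3 * ν.count 3 = m ∧ ν.count 2 % 2 = 0 ∧
      (ν.count 1 = 0 → ν.count 3 = 0 → δ = 1) ∧
      (ν.count 1 = 1 → ν.count 3 = 0 → ∃ v, g.1 v = v ∧ Q v ≠ 0 ∧ δ = sgn (2 * Q v)) := by
  have h3 : ν = H13.t3 (ν.count 1) (ν.count 2) (ν.count 3) := Multiset.ext.2 fun e => by
    have := Multiset.count_le_of_le e h1
    rw [count_t3] at *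
    split_ifs at * <;> simp_all
  refine ⟨?_, Nat.even_iff.1 (h.2.1 2 even_two), fun h4 h5 => h.2.2.1 fun k hk => ?_,
    fun h4 h5 => h.2.2.2 (ν.count 2) (h3.trans (by rw [h4, h5]; simp [H13.t3]))⟩
  · rw [← h.1]
    nth_rw 4 [h3]
    simp [H13.t3, mul_comm]
  · rw [h3, h4, h5] at hk
    exact Multiset.eq_of_mem_replicate (by simpa [H13.t3] using hk)

/-- numerical data of invariant subspaces -/
def T3 (g : OG Q) (a b c : ℕ) (η : Set ℤˣ) : Prop :=
  ∀ U m δ, NS Q U m δ → Fx g U → ∃ a₁ ≤ a, ∃ b₁ ≤ b, ∃ c₁ ≤ c, a₁ + 2 * b₁ + 3 * c₁ = m ∧ b₁ % 2 = 0 ∧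
    (a₁ = 0 → c₁ = 0 → δ = 1) ∧ (a₁ = a → c₁ = c → kap F m (finrank F V - m) * δ * ty Q = 1) ∧
    (a₁ = 1 → c₁ = 0 → δ ∈ η) ∧ (a₁ + 1 = a → c₁ = c → kap F m (finrank F V - m) * δ * ty Q ∈ η)

theorem ND.t3_of_jo (hQ : ND Q) {g : OG Q} (hg : Unp g) {a b c : ℕ} (h : jo g = t3 a b c) {η : Set ℤˣ}
    (h1 : ∀ v, g.1 v = v → Q v ≠ 0 → sgn (2 * Q v) ∈ η) : T3 g a b c η := fun U m δ h3 h4 => by
  obtain ⟨ν, ν', h5, h6, h7⟩ := hQ.jp_split h2 hg h3 h4
  rw [h] at h5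
  obtain ⟨h8, h9, h10, h11⟩ := h6.t3 (h5 ▸ Multiset.le_add_right ..)
  obtain ⟨-, -, h12, h13⟩ := h7.t3 (h5 ▸ Multiset.le_add_left ..)
  have h14 := fun e => congrArg (Multiset.count e) h5
  have h15 := h14 1
  have h16 := h14 2
  have h17 := h14 3
  simp only [count_t3, Multiset.count_add, ite_true, Nat.reduceEqDiff, ite_false] at h15 h16 h17
  refine ⟨_, by omega, _, by omega, _, by omega, h8, h9, h10, fun _ _ => h12 (by omega) (by omega),
    fun h h' => ?_, fun _ _ => ?_⟩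
  · obtain ⟨v, hv, hv', rfl⟩ := h11 h h'
    exact h1 v hv hv'
  · obtain ⟨v, hv, hv', h⟩ := h13 (by omega) (by omega)
    exact h ▸ h1 v hv hv'

omit [Fintype F] h2 in
theorem t3_good {a b c : ℕ} (hb : b % 2 = 0) : (∀ k ∈ t3 a b c, 0 < k ∧ k ≤ 3) ∧
    (∀ e, Even e → Even ((t3 a b c).count e)) ∧ (t3 a b c).sum = a + 2 * b + 3 * c ∧
      (0 < a + c → ∃ k ∈ t3 a b c, Odd k) ∧ (0 < b + c → ∃ k ∈ t3 a b c, 1 < k) := by
  simp only [← Multiset.count_pos, count_t3, Nat.even_iff, Nat.odd_iff]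
  refine ⟨fun k => by split_ifs <;> omega, fun k => by split_ifs <;> omega, by simp [t3, mul_comm],
    fun h => ?_, fun h => ?_⟩
  · rcases Nat.eq_zero_or_pos a with h | h
    exacts [⟨3, by simp; omega⟩, ⟨1, by simpa⟩]
  · rcases Nat.eq_zero_or_pos b with h | h
    exacts [⟨3, by simp; omega⟩, ⟨2, by simpa⟩]

variable {p : ℕ} [hp : Fact p.Prime] [CharP F p]

omit [Fintype F] in
theorem three_le_char : 3 ≤ p :=
  hp.out.two_le.lt_of_ne fun h => h2 (by subst h; exact CharP.cast_eq_zero F 2)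

theorem ND.exists_t3 (hQ : ND Q) {a b c : ℕ} (hb : b % 2 = 0) (hn : a + 2 * b + 3 * c = finrank F V)
    (h : 0 < a + c ∨ ty Q = 1) (h1 : 0 < b + c) : ∃ g : OG Q, g ^ p = 1 ∧ g ≠ 1 ∧ T3 g a b c .univ := by
  obtain ⟨h3, h4, h5, h6, h7⟩ := t3_good (a := a) (c := c) hb
  obtain ⟨g, h8, h9⟩ := hQ.exists_jo h2 (fun k hk => (h3 k hk).1) h4 (h5.trans hn) (h.imp_left h6)
  obtain ⟨k, h10, h11⟩ := h7 h1
  exact ⟨g, pow_char_of_jo h8 fun k hk => (h3 k (h9 ▸ hk)).2.trans (three_le_char h2),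
    ne_one_of_jo h8 (h9 ▸ h10) h11, hQ.t3_of_jo h2 h8 h9 fun _ _ _ => trivial⟩

theorem ND.exists_t3' (hQ : ND Q) {b : ℕ} (hb : b % 2 = 0) (hn : 2 * b + 4 = finrank F V) (η : ℤˣ) :
    ∃ g : OG Q, g ^ p = 1 ∧ g ≠ 1 ∧ T3 g 1 b 1 {η} := by
  obtain ⟨L, -, hL⟩ := hQ.ns_top.exists_le (m := 1) (δ := η) (.inr h2) ⟨by omega, by omega, by omega⟩
  have h1 := hL.orth hQ
  obtain ⟨h3, h4, h5, h6, -⟩ := t3_good (a := 0) (c := 1) hb
  obtain ⟨g, h8, h9⟩ := h1.nd.exists_jo h2 (fun k hk => (h3 k hk).1) h4 (by rw [h5, h1.rk]; omega)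
    (.inl (h6 one_pos))
  have h10 := hQ.isCompl h1.nd
  have h11 := pow_char_of_jo (p := p) h8 fun k hk => (h3 k (h9 ▸ hk)).2.trans (three_le_char h2)
  have h12 : extOG h10 g ^ p = 1 := by rw [← map_pow, h11, map_one]
  have h13 : Unp (extOG h10 g) := ⟨p, (pow_char_eq_one_iff _).1 (og_pow h12)⟩
  have h14 : Fx (extOG h10 g) (perp Q L) := fun x hx => (extOG_apply_mem h10 g ⟨x, hx⟩).symm ▸ (g.1 _).2
  obtain ⟨-, h15, h16⟩ := hQ.jo_split h13 h1.nd h14
  rw [show resOG _ _ h14.mem_iff = g from OG_ext fun x => Subtype.ext (extOG_apply_mem h10 g x), h9,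
    show jo (resOG _ _ h14.perp.mem_iff) = _ from
      eq_single_of_sum (fun _ => jt_pos) ((sum_jt h15).trans (by rw [hQ.perp_perp, hL.rk])),
    show t3 0 b 1 + {1} = t3 1 b 1 by rw [add_comm]; simp [t3]] at h16
  refine ⟨_, h12, ne_one_of_jo h13 (k := 3) (by simp [h16, t3]) (by omega),
    hQ.t3_of_jo h2 h13 h16 fun v hv hv' => ?_⟩
  obtain ⟨w, z, rfl⟩ := exists_add_of_isCompl h10 v
  rw [extOG_add, add_left_inj, Subtype.coe_inj] at hv
  have h17 : Q w = 0 := by_contra fun h => by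
    obtain ⟨h18, -, h19⟩ := h1.nd.jo_line h2 h8 hv h
    simpa [h9, count_t3] using congrArg (Multiset.count 1) h19
  obtain ⟨z, hz⟩ := z
  rw [hQ.perp_perp] at hz
  rw [Q_add, h17, zero_add, polar_comm, mem_perp.1 w.2 z hz, add_zero] at hv' ⊢
  have h18 := ns_line h2 hv'
  rw [Submodule.eq_of_le_of_finrank_eq ((Submodule.span_singleton_le_iff_mem _ _).2 hz)
    (h18.rk.trans hL.rk.symm)] at h18
  exact h18.tp.symm.trans hL.tp

theorem ND.exists_le_of_all (hQ : ND Q) {m : ℕ} {δ : ℤˣ}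
    (H : ∀ g : OG Q, g ^ p = 1 → g ≠ 1 → ∃ U, NS Q U m δ ∧ Fx g U) {μ : Multiset ℕ}
    (h0 : ∀ k ∈ μ, 0 < k ∧ k ≤ p) (h1 : ∀ e, Even e → Even (μ.count e)) (hn : μ.sum = finrank F V)
    (h : (∃ k ∈ μ, Odd k) ∨ ty Q = 1) (hm : m ≤ finrank F V := by omega) :
    ∃ ν ≤ μ, ν.sum = m ∧ ∀ e, Even e → Even (ν.count e) := by
  by_cases h3 : ∃ k ∈ μ, 1 < k
  · obtain ⟨k, h3, h4⟩ := h3
    obtain ⟨g, h5, rfl⟩ := hQ.exists_jo h2 (fun k hk => (h0 k hk).1) h1 hn h
    obtain ⟨U, h6, h7⟩ := H g (pow_char_of_jo h5 fun k hk => (h0 k hk).2) (ne_one_of_jo h5 h3 h4)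
    obtain ⟨ν, ν', h8, h9, -⟩ := hQ.jp_split h2 h5 h6 h7
    exact ⟨ν, h8 ▸ Multiset.le_add_right .., h9.1, h9.2.1⟩
  · refine ⟨.replicate m 1, ?_, by simp, fun e he => ?_⟩
    · rw [eq_replicate_one (fun k hk => (h0 k hk).1) h3, hn]
      exact (Multiset.replicate_le_replicate 1).2 hm
    · rw [Multiset.count_replicate, if_neg (by rintro rfl; simp at he)]; simp

end Cfsg.Agent.H13
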