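import Mathlib
import Cfsg.Agent.H13.QE

/-!
Orders of pointwise stabilisers of totally isotropic subspaces in classical groups.
-/

set_option autoImplicit false

namespace Cfsg.Agent.H13

open Module QuadraticMap

universe u v

variable {F : Type u} {V : Type v} [Field F] [AddCommGroup V] [Module F V] {Q : QuadraticForm F V}

theorem fixW_bot (G : Subgroup (V ≃ₗ[F] V)) : fixW G ⊥ = ⊤ :=
  eq_top_iff.2 fun g _ u hu => by rw [(Submodule.mem_bot F).1 hu, map_zero]

theorem fixW_eq_fixF {σ : F →+* F} (B : V →ₛₗ[σ] V →ₗ[F] F) {U : Submodule F V} {ι : Type*}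
    (b : Basis ι F U) : fixW (H12.UG B) U = H12.fixF B fun i => (b i : V) := by
  ext g
  refine ⟨fun h i => h _ (b i).2, fun h u hu => ?_⟩
  exact LinearMap.congr_fun
    (b.ext (f₁ := (g.1 : V →ₗ[F] V) ∘ₗ U.subtype) (f₂ := U.subtype) h) ⟨u, hu⟩

variable [FiniteDimensional F V] [Finite F]

theorem card_fixW_sp {B : V →ₗ[F] V →ₗ[F] F} (D : H12.SD (σ := RingHom.id F) B)
    {U : Submodule F V} (hU : ∀ u ∈ U, ∀ v ∈ U, B u v = 0) {k r : ℕ} (hk : finrank F U = k)
    (hn : finrank F V = 2 * k + 2 * r) :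
    Nat.card (fixW (H12.UG (σ := RingHom.id F) B) U) =
      Nat.card F ^ (k * (2 * r) + k * (k - 1) / 2 + k) * H12.spOrd (Nat.card F) r := by
  let b := finBasisOfFinrankEq F U hk
  rw [fixW_eq_fixF _ b, D.card_fixF_sp hn (e := fun i => (b i : V))
    (b.linearIndependent.map' U.subtype U.ker_subtype)
    fun i j => hU _ (b i).2 _ (b j).2, pow_add _ _ k]

theorem card_fixW_unitary {σ : F →+* F} {B : V →ₛₗ[σ] V →ₗ[F] F} (D : H12.SD B)
    (hσ : σ ≠ RingHom.id F) {U : Submodule F V} (hU : ∀ u ∈ U, ∀ v ∈ U, B u v = 0) {k r : ℕ}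
    (hk : finrank F U = k) (hn : finrank F V = 2 * k + r) :
    Nat.card (fixW (H12.UG B) U) = Nat.card F ^ (k * r + k * (k - 1) / 2) * H12.q0 σ ^ k *
      H12.guOrd (H12.q0 σ) r := by
  let b := finBasisOfFinrankEq F U hk
  rw [fixW_eq_fixF _ b, D.card_fixF_unitary hσ hn (e := fun i => (b i : V))
    (b.linearIndependent.map' U.subtype U.ker_subtype) fun i j => hU _ (b i).2 _ (b j).2]

omit [Finite F] in
theorem HP.finrank_comap {u v : V} (h : HP Q u v) {U : Submodule F V} (hu : u ∈ U)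
    (hU : ∀ x ∈ U, polar Q u x = 0) :
    finrank F (U.comap (pp Q u v).subtype) + 1 = finrank F U := by
  rw [← finrank_inf_ker_add_one (K := U) (polarBilin Q v) hu (by simp [h.vu]),
    ← Submodule.finrank_map_subtype_eq, Submodule.map_comap_subtype]
  suffices pp Q u v ⊓ U = U ⊓ LinearMap.ker (polarBilin Q v) by rw [this]
  ext x
  simp only [Submodule.mem_inf, mem_perp_pair, LinearMap.mem_ker, polarBilin_apply_apply]
  exact ⟨fun H => ⟨H.2, H.1.2⟩, fun H => ⟨⟨hU x H.1, H.2⟩, H.1⟩⟩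

theorem HP.card_fixW {u v : V} (h : HP Q u v) (hQ : ND Q) {U : Submodule F V} (hu : u ∈ U)
    (hU : ∀ x ∈ U, polar Q u x = 0) :
    Nat.card (fixW (OG Q) U) = Nat.card F ^ (finrank F V - 1 - finrank F U) *
      Nat.card (fixW (OG (Q.restrict (pp Q u v))) (U.comap (pp Q u v).subtype)) := by
  have : Finite V := Module.finite_of_finite F
  have hd : ∀ x ∈ U, ∃ (a : F) (w : pp Q u v), w ∈ U.comap (pp Q u v).subtype ∧ x = a • u + w :=
    fun x hx => by
      obtain ⟨a, w, rfl⟩ := h.exists_eq_of_perp (hU x hx)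
      exact ⟨a, w, (U.add_mem_iff_right (U.smul_mem a hu)).1 hx, rfl⟩
  have hnm : ∀ x, HP Q u x → x ∉ U := fun x hx hxU => by simpa [hx.uv] using hU x hxU
  rw [H12.card_eq_card_mul_card_inf_stabilizer (fixW (OG Q) U) v
    (fun x => HP Q u x ∧ ∀ w ∈ U.comap (pp Q u v).subtype, polar Q w.1 x = 0)]
  · congr 1
    · have h1 := (h.nd_pp hQ).finrank_perp (U.comap (pp Q u v).subtype)
      have h2 := h.finrank_comap hu hU
      have h3 := h.finrank_pp
      rw [show finrank F V - 1 - finrank F U =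
        finrank F (perp (Q.restrict (pp Q u v)) (U.comap (pp Q u v).subtype)) by omega,
        ← Module.natCard_eq_pow_finrank]
      symm
      refine Nat.card_congr (Equiv.ofBijective (fun w => ⟨h.split.symm (-Q w.1, 1, w.1),
        ⟨h.Qu, by rw [h.split_symm_apply, h.Q_comb]; ring,
          by simp [h.split_symm_apply, h.uu, h.uv, pp_left]⟩, fun z hz => by
          have := mem_perp.1 w.2 z hz
          rw [polar_restrict] at this
          simp [h.split_symm_apply, pp_left', pp_right', this]⟩) ⟨fun w w' H => ?_, ?_⟩)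
      · exact Subtype.ext (congrArg (·.2.2) (h.split.symm.injective (congrArg Subtype.val H)))
      · rintro ⟨x, hx, hp⟩
        obtain ⟨⟨a, b, w⟩, rfl⟩ := h.split.symm.surjective x
        have h4 := hx.Qv
        have h5 := hx.uv
        rw [h.split_symm_apply] at h4 h5
        rw [h.Q_comb] at h4
        have hb : b = 1 := by simpa [h.uu, h.uv, pp_left] using h5
        subst hb
        refine ⟨⟨w, mem_perp.2 fun z hz => ?_⟩, Subtype.ext ?_⟩
        · have := hp z hz
          rw [polar_restrict]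
          simpa [h.split_symm_apply, pp_left', pp_right'] using this
        · change h.split.symm (-Q w, 1, w) = _
          congr 2
          linear_combination -h4
    · symm
      refine H12.card_eq_of_map_injective (extOG_injective (h.isCompl hQ)) ?_
      have h4 : ∀ {g : OG Q}, g ∈ (extOG (h.isCompl hQ)).range ↔ g.1 u = u ∧ g.1 v = v := by
        intro g
        rw [hQ.mem_range_extOG, hQ.perp_perp, ← mem_fixW, mem_fixW_span]; simp
      ext g
      constructor
      · rintro ⟨j, hj, rfl⟩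
        have h5 := h4.1 ⟨j, rfl⟩
        refine ⟨fun x hx => ?_, h5.2⟩
        obtain ⟨a, w, hw, rfl⟩ := hd x hx
        rw [map_add, map_smul, h5.1, extOG_apply_mem, hj w hw]
      · rintro ⟨hg1, hg2⟩
        obtain ⟨j, rfl⟩ := h4.2 ⟨hg1 u hu, hg2⟩
        exact ⟨j, fun w hw => Subtype.ext ((extOG_apply_mem _ j w).symm.trans (hg1 _ hw)), rfl⟩
  · intro x
    constructor
    · rintro ⟨hx1, hx2⟩
      obtain ⟨g, -, h1, h2, h3⟩ := (wittData_quad Q hQ).step U (hnm v h) (hnm x hx1)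
        (fun y hy => by
          obtain ⟨a, w, hw, rfl⟩ := hd y hy
          have := hx2 w hw
          rw [polar_comm] at this
          simp [h.vu, hx1.vu, this, pp_right])
        (by simp [hx1.Qv, h.Qv]) (by rw [hx1.Qv, h.Qv])
      exact ⟨⟨g, h1⟩, h2, h3⟩
    · rintro ⟨g, hg, rfl⟩
      refine ⟨by simpa only [hg u hu, OG_smul_def] using h.map g, fun w hw => ?_⟩
      rw [OG_smul_def, ← hg w hw, OG_polar, pp_right']

omit [FiniteDimensional F V] in
theorem card_fixW_singular_aux (r A : ℕ) (P : Prop)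
    (hA : ∀ {W : Type v} [AddCommGroup W] [Module F W] [FiniteDimensional F W]
      {R : QuadraticForm F W}, ND R → finrank F W = r → (IsPlus R ↔ P) → Nat.card (OG R) = A)
    (k : ℕ) : ∀ {V : Type v} [AddCommGroup V] [Module F V] [FiniteDimensional F V]
      {Q : QuadraticForm F V}, ND Q → finrank F V = 2 * k + r → (IsPlus Q ↔ P) →
      ∀ U : Submodule F V, finrank F U = k → (∀ u ∈ U, Q u = 0) →
      Nat.card (fixW (OG Q) U) = Nat.card F ^ (k * r + k * (k - 1) / 2) * A := by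
  induction k with
  | zero =>
    intro V _ _ _ Q hQ hn hP U hU _
    rw [Submodule.finrank_eq_zero.1 hU, fixW_bot, Subgroup.card_top, hA hQ (by simpa using hn) hP]
    simp
  | succ k ih =>
    intro V _ _ _ Q hQ hn hP U hU h0
    obtain ⟨u, hu, hu0⟩ := U.exists_mem_ne_zero_of_ne_bot (by rintro rfl; simp at hU)
    obtain ⟨v, h⟩ := hQ.exists_hp (h0 u hu) hu0
    have h1 : ∀ x ∈ U, polar Q u x = 0 := fun x hx => mem_perp.1 (le_perp_of_singular h0 hx) u hu
    have h2 := h.finrank_comap hu h1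
    rw [h.card_fixW hQ hu h1, ih (h.nd_pp hQ) (by have := h.finrank_pp; omega)
      ((h.isPlus_pp_iff hQ).trans hP) _ (by omega) (fun w hw => h0 _ hw), hn, hU, ← mul_assoc,
      ← pow_add]
    congr 2
    rw [Nat.triangle_succ, show 2 * (k + 1) + r - 1 - (k + 1) = k + r by omega]; ring

theorem ND.card_fixW_plus (hQ : ND Q) (hP : IsPlus Q) {U : Submodule F V} (h0 : ∀ u ∈ U, Q u = 0)
    {k r : ℕ} (hk : finrank F U = k) (hn : finrank F V = 2 * k + 2 * r) :
    Nat.card (fixW (OG Q) U) = Nat.card F ^ (k * (2 * r) + k * (k - 1) / 2) *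
      (if r = 0 then 1 else 2 * Nat.card F ^ (r * (r - 1)) * (Nat.card F ^ r - 1) *
        ∏ i ∈ Finset.range (r - 1), (Nat.card F ^ (2 * (i + 1)) - 1)) :=
  card_fixW_singular_aux (2 * r) _ True (fun {W} _ _ _ R hR hd hP => by
    split_ifs with h
    · have : Subsingleton W := finrank_zero_iff.1 (by rw [hd, h])
      exact Nat.card_eq_one_iff_unique.2 ⟨⟨fun a b => OG_ext fun _ => Subsingleton.elim _ _⟩, ⟨1⟩⟩
    · exact hR.card_OG_plus (hP.2 trivial) (by omega) hd) k hQ hn (iff_true_intro hP) U hk h0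

section Two

variable [CharP F 2]

omit [FiniteDimensional F V] in
theorem card_Q_eq_mul [Finite V] {c : F} (hc : c ≠ 0) :
    (Nat.card F - 1) * Nat.card {x : V // Q x = c} + nz Q = Nat.card V := by
  classical
  rw [← Nat.card_units, ← Nat.card_prod, nz, ← Nat.card_congr (Equiv.sumCompl fun x : V => Q x = 0),
    Nat.card_sum, add_comm]
  congr 1
  refine Nat.card_congr (Equiv.ofBijective (fun p => ⟨(p.1 : F) • p.2.1, by
    rw [Q_smul, p.2.2]; exact mul_ne_zero (pow_ne_zero _ p.1.ne_zero) hc⟩) ⟨?_, ?_⟩)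
  · rintro ⟨a, x, hx⟩ ⟨b, y, hy⟩ H
    have h1 : (a : F) • x = (b : F) • y := congrArg Subtype.val H
    have h2 := congrArg Q h1
    rw [Q_smul, Q_smul, hx, hy] at h2
    have h3 : a = b := Units.ext (sq_inj_two (mul_right_cancel₀ hc h2))
    subst h3
    exact Prod.ext rfl (Subtype.ext (smul_right_injective V a.ne_zero h1))
  · rintro ⟨x, hx⟩
    obtain ⟨a, ha⟩ := exists_sq_eq_of_two_eq_zero (CharTwo.two_eq_zero (R := F)) (Q x / c)
    have ha0 : a ≠ 0 := by rintro rfl; exact div_ne_zero hx hc (by simpa using ha.symm)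
    refine ⟨(Units.mk0 a ha0, ⟨a⁻¹ • x, ?_⟩), Subtype.ext (smul_inv_smul₀ ha0 x)⟩
    rw [Q_smul, inv_pow, ha]; field_simp

theorem ND.card_fixW_nonsingular_one (hQ : ND Q) {w : V} (hw : Q w ≠ 0) {r : ℕ}
    (hn : finrank F V = 2 * r + 2) :
    Nat.card (fixW (OG Q) (F ∙ w)) = 2 * H12.spOrd (Nat.card F) r := by
  have : Finite V := Module.finite_of_finite F
  have hw0 : w ≠ 0 := by rintro rfl; simp at hw
  have h1 := H12.card_eq_card_mul_card_stabilizer (G := OG Q) w (fun x => Q x = Q w) fun y =>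
    ⟨fun hy => hQ.witt_one hw0 (by rintro rfl; exact hw (by simpa using hy.symm)) hy,
      by rintro ⟨g, rfl⟩; exact OG_map g w⟩
  have h2 : fixW (OG Q) (F ∙ w) = MulAction.stabilizer (OG Q) w := by
    ext g; rw [mem_fixW_span]; simp [OG_smul_def]
  have h3 := card_Q_eq_mul (Q := Q) hw
  rw [h2]
  obtain ⟨ε, hε⟩ : ∃ ε : ℤ, IsPlus Q ∧ ε = 1 ∨ ¬ IsPlus Q ∧ ε = -1 := by
    by_cases h : IsPlus Q
    · exact ⟨1, .inl ⟨h, rfl⟩⟩
    · exact ⟨-1, .inr ⟨h, rfl⟩⟩
  obtain ⟨h4, h5⟩ := count_even ε r hQ hn hε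
  have hq : 2 ≤ Nat.card F := Finite.one_lt_card
  rw [card_eq_pow (F := F) (V := V), hn] at h3
  zify [show 1 ≤ Nat.card F by omega] at h3
  rw [h4] at h3
  have hq' : (Nat.card F : ℤ) - 1 ≠ 0 := by omega
  have h6 : (Nat.card {x : V // Q x = Q w} : ℤ) =
      (Nat.card F : ℤ) ^ r * ((Nat.card F : ℤ) ^ (r + 1) - ε) :=
    mul_left_cancel₀ hq' (by linear_combination h3)
  have h7 : (Nat.card {x : V // Q x = Q w} : ℤ) ≠ 0 := by
    have : Nonempty {x : V // Q x = Q w} := ⟨⟨w, rfl⟩⟩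
    exact_mod_cast Nat.card_pos.ne'
  rw [h1] at h5
  push_cast at h5
  apply Nat.cast_injective (R := ℤ)
  apply mul_left_cancel₀ h7
  rw [h5, h6, H12.spOrd]
  push_cast [cast_prod_pow_sub_one (show 1 ≤ Nat.card F by omega)]
  ring

omit [FiniteDimensional F V] in
theorem exists_singular_of_ti {U : Submodule F V} (hU : ∀ x ∈ U, ∀ y ∈ U, polar Q x y = 0)
    (h : 2 ≤ finrank F U) : ∃ u ∈ U, Q u = 0 ∧ u ≠ 0 := by
  obtain ⟨a, ha, ha0⟩ := U.exists_mem_ne_zero_of_ne_bot (by rintro rfl; simp at h)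
  obtain ⟨b, hb, hba⟩ := exists_notMem_of_finrank_lt (H := F ∙ a) (W := U)
    (by rw [finrank_span_singleton ha0]; omega)
  by_cases hQa : Q a = 0
  · exact ⟨a, ha, hQa, ha0⟩
  obtain ⟨c, hc⟩ := exists_sq_eq_of_two_eq_zero (CharTwo.two_eq_zero (R := F)) (Q b / Q a)
  refine ⟨c • a + b, U.add_mem (U.smul_mem c ha) hb, ?_, fun h0 => hba ?_⟩
  · rw [Q_add, hU _ (U.smul_mem c ha) _ hb, Q_smul, hc, div_mul_cancel₀ _ hQa, add_zero,
      CharTwo.add_self_eq_zero]
  · rw [eq_neg_of_add_eq_zero_right h0]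
    exact Submodule.neg_mem _ (Submodule.smul_mem _ _ (Submodule.mem_span_singleton_self a))

omit [FiniteDimensional F V] in
theorem card_fixW_nonsingular (r k : ℕ) : ∀ {V : Type v} [AddCommGroup V] [Module F V]
    [FiniteDimensional F V] {Q : QuadraticForm F V}, ND Q → finrank F V = 2 * (k + 1) + 2 * r →
      ∀ U : Submodule F V, finrank F U = k + 1 → (∀ x ∈ U, ∀ y ∈ U, polar Q x y = 0) →
      (∃ w ∈ U, Q w ≠ 0) → Nat.card (fixW (OG Q) U) =
        Nat.card F ^ (k * (2 * r) + (k + 1) * k / 2) * (2 * H12.spOrd (Nat.card F) r) := by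
  induction k with
  | zero =>
    rintro V _ _ _ Q hQ hn U hU - ⟨w, hw, hw0⟩
    have hw1 : w ≠ 0 := by rintro rfl; simp at hw0
    rw [← Submodule.eq_of_le_of_finrank_eq ((Submodule.span_singleton_le_iff_mem w U).2 hw)
      (by rw [finrank_span_singleton hw1, hU]), hQ.card_fixW_nonsingular_one hw0 (r := r) (by omega)]
    simp
  | succ k ih =>
    rintro V _ _ _ Q hQ hn U hU h0 ⟨w, hw, hw0⟩
    obtain ⟨u, hu, hQu, hu0⟩ := exists_singular_of_ti h0 (by omega)
    obtain ⟨v, h⟩ := hQ.exists_hp hQu hu0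
    have h1 : ∀ x ∈ U, polar Q u x = 0 := h0 u hu
    have h2 := h.finrank_comap hu h1
    obtain ⟨a, z, rfl⟩ := h.exists_eq_of_perp (h1 w hw)
    rw [h.card_fixW hQ hu h1, ih (h.nd_pp hQ) (by have := h.finrank_pp; omega) _ (by omega)
      (fun x hx y hy => (polar_restrict _ x y).trans (h0 _ hx _ hy))
      ⟨z, (U.add_mem_iff_right (U.smul_mem a hu)).1 hw, by
        have := h.Q_comb a 0 z
        rw [zero_smul, add_zero, mul_zero, zero_add] at this
        rwa [this] at hw0⟩, hn, hU, ← mul_assoc, ← pow_add]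
    congr 2
    have := Nat.triangle_succ (k + 1)
    rw [Nat.add_sub_cancel, Nat.add_sub_cancel] at this
    rw [this, show 2 * (k + 1 + 1) + 2 * r - 1 - (k + 1 + 1) = k + 1 + 2 * r by omega]; ring

end Two

end Cfsg.Agent.H13
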