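import Cfsg.Agent.H13.PG
import Cfsg.Agent.H2.Zsig

/-! Elements of order `|z ^ k + 1|` in projective linear and unitary groups of dimension `2 k`. -/

set_option autoImplicit false

namespace Cfsg.Agent.H13

open Polynomial Module H12 H28

variable {F V : Type*} [Field F] [AddCommGroup V] [Module F V] [FiniteDimensional F V]
  {p : ℕ} [hp : Fact p.Prime] [CharP F p] {a : End F V} {z : ℤ}

theorem cox_dvd [Finite F] (ha : LinearMap.det a = 1)
    (hφ : Function.Injective fun x : AlgebraicClosure F => x ^ z) (h : (rts a).map (· ^ z) = rts a)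
    {m r : ℕ} (hm : ∀ k, m ∣ k ↔ ∃ c : F, a ^ k = c • 1) (hr : r.Prime) (hrp : r ≠ p) (hrm : r ∣ m)
    (hz : ∀ D, 0 < D → D < finrank F V → ¬ (r : ℤ) ∣ z ^ D - 1) (hmp : m.Coprime p) {A : ℕ}
    (hA : (∑ j ∈ Finset.range (finrank F V), z ^ j) ∣ (z - 1) * A) : m ∣ A := by
  classical
  have h0 := ne_zero_of_mem_rts (a := a) (by simp [ha])
  obtain ⟨α, hα, h2⟩ := (dv_of_lift hm hrm).exists_rts hr hrp
  obtain ⟨D, h3, h4, h5, h6⟩ := exists_period h0 hφ h one_pos (α := α) (Multiset.count_pos.2 hα)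
  rw [card_rts] at h4 h6
  have hD : D = finrank F V := by
    by_contra hD
    exact hz D h3 (by omega) (dvd_of_zpow h2 h5)
  have h7 := h6 hD
  rw [prod_rts, ha, map_one, hD] at h7
  have hP := minimalPeriod_pos hφ h hα
  have h8 : finrank F V ≤ Function.minimalPeriod (fun x : AlgebraicClosure F => x ^ z) α := by
    by_contra h8
    refine hz _ hP (not_le.1 h8) (dvd_of_zpow h2 ?_)
    rw [zpow_sub₀ (h0 α hα), ← iterate_zpow, Function.iterate_minimalPeriod, zpow_one,
      div_self (h0 α hα)]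
  have h9 : (orb (fun x : AlgebraicClosure F => x ^ z) α).val = rts a := by
    refine Multiset.eq_of_le_of_card_le ((Multiset.le_iff_subset (Finset.nodup _)).2 fun x hx => ?_)
      (by rw [card_rts]; exact h8.trans (card_orb α).ge)
    rw [← Multiset.count_pos, count_of_mem_orb hφ h hx]
    exact Multiset.count_pos.2 hα
  obtain ⟨c, hc⟩ := exists_pow_eq_smul (p := p) (k := finrank F V) (m := A) (fun y hy =>
    ((Nat.le_mul_of_pos_right _ y.natDegree_f_pos).trans (mul_le_finrank_of_mem_ed hy)).trans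
      (Nat.lt_pow_self hp.out.one_lt).le) hα fun x hx => by
    rw [← h9] at hx
    obtain ⟨j, rfl⟩ := (mem_orb hP).1 hx
    rw [iterate_zpow]
    simpa using zpow_eq_of (h0 α hα) h7.symm (i := z ^ j) (j := 1)
      (hA.trans (mul_dvd_mul_right (by simpa using sub_dvd_pow_sub_pow z 1 j) _))
  exact (hmp.pow_right _).dvd_of_dvd_mul_right ((hm _).2 ⟨c, hc⟩)

theorem geom_modEq (z : ℤ) (n : ℕ) : z - 1 ∣ (∑ j ∈ Finset.range n, z ^ j) - n := by
  induction n with
  | zero => simp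
  | succ n ih =>
    rw [Finset.sum_range_succ, show (∑ j ∈ Finset.range n, z ^ j) + z ^ n - ((n + 1 : ℕ) : ℤ) =
      ((∑ j ∈ Finset.range n, z ^ j) - n) + (z ^ n - 1) by push_cast; ring]
    exact ih.add (by simpa using sub_dvd_pow_sub_pow z 1 n)

theorem geom_two_mul (z : ℤ) (k : ℕ) :
    ∑ j ∈ Finset.range (2 * k), z ^ j = (z ^ k + 1) * ∑ j ∈ Finset.range k, z ^ j := by
  rw [two_mul, Finset.sum_range_add, add_mul, one_mul, add_comm, Finset.mul_sum]
  simp [pow_add]

theorem half_suff {z : ℤ} {k w : ℕ} (hw : (z - 1).natAbs = w) (hw0 : w ≠ 0) (hk : k ≠ 0)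
    (h : padicValNat 2 w < padicValNat 2 (2 * k)) :
    (z ^ k + 1).natAbs ∣ (∑ j ∈ Finset.range (2 * k), z ^ j).natAbs /
      (∑ j ∈ Finset.range (2 * k), z ^ j).natAbs.gcd w := by
  set g := (∑ j ∈ Finset.range (2 * k), z ^ j).natAbs.gcd w with hg
  have h1 : (g : ℤ) ∣ z - 1 := Int.natCast_dvd.2 (hw ▸ Nat.gcd_dvd_right _ _)
  have h2 : (g : ℤ) ∣ ∑ j ∈ Finset.range (2 * k), z ^ j := Int.natCast_dvd.2 (Nat.gcd_dvd_left _ _)
  have h3 : g ∣ 2 * k := by
    have := h2.sub (h1.trans (geom_modEq z (2 * k)))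
    rw [sub_sub_cancel] at this
    exact_mod_cast this
  have hg0 : g ≠ 0 := Nat.gcd_ne_zero_right hw0
  have h4 : g ∣ k := by
    rw [← Nat.factorization_prime_le_iff_dvd hg0 hk]
    intro r hr
    have h5 := (Nat.factorization_le_iff_dvd hg0 (by omega)).2 h3 r
    rw [Nat.factorization_mul two_ne_zero hk, Finsupp.add_apply] at h5
    by_cases h6 : r = 2
    · subst h6
      have h7 := (Nat.factorization_le_iff_dvd hg0 hw0).2 (Nat.gcd_dvd_right _ _) 2
      rw [← Nat.factorization_def _ Nat.prime_two, ← Nat.factorization_def _ Nat.prime_two,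
        Nat.factorization_mul two_ne_zero hk, Finsupp.add_apply, Nat.prime_two.factorization_self] at h
      omega
    · rwa [Nat.prime_two.factorization, Finsupp.single_eq_of_ne h6, zero_add] at h5
  have h5 : g ∣ (∑ j ∈ Finset.range k, z ^ j).natAbs := by
    have := (h1.trans (geom_modEq z k)).add (Int.natCast_dvd_natCast.2 h4)
    rw [sub_add_cancel] at this
    exact Int.natCast_dvd.1 this
  rw [geom_two_mul, Int.natAbs_mul, Nat.mul_div_assoc _ h5]
  exact dvd_mul_right _ _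

theorem half_nec {z : ℤ} {k w : ℕ} (hw : (z - 1).natAbs = w) (hw0 : w ≠ 0) (hk : k ≠ 0)
    (hz : z ^ k + 1 ≠ 0)
    (h : ∀ A : ℕ, (∑ j ∈ Finset.range (2 * k), z ^ j) ∣ (z - 1) * A → (z ^ k + 1).natAbs ∣ A) :
    padicValNat 2 w < padicValNat 2 (2 * k) := by
  by_contra! h1
  set t := 2 ^ padicValNat 2 (2 * k) with ht
  have h2 : t ∣ w := (pow_dvd_pow 2 h1).trans pow_padicValNat_dvd
  have h3 : (t : ℤ) ∣ z - 1 := Int.natCast_dvd.2 (hw ▸ h2)
  have h4 : t ∣ 2 * k := pow_padicValNat_dvd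
  have h5 : (t : ℤ) ∣ ∑ j ∈ Finset.range (2 * k), z ^ j := by
    have := (h3.trans (geom_modEq z (2 * k))).add (Int.natCast_dvd_natCast.2 h4)
    rwa [sub_add_cancel] at this
  have h6 := h ((∑ j ∈ Finset.range (2 * k), z ^ j).natAbs / t) (by
    obtain ⟨s, hs⟩ := h3
    rw [hs, mul_comm (t : ℤ), mul_assoc, ← Nat.cast_mul, Nat.mul_div_cancel' (Int.natCast_dvd.1 h5)]
    exact Dvd.dvd.mul_left (by simp) _)
  rw [Nat.dvd_div_iff_mul_dvd (Int.natCast_dvd.1 h5), geom_two_mul, Int.natAbs_mul, mul_comm,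
    Nat.mul_dvd_mul_iff_left (Int.natAbs_pos.2 hz), ← Int.natCast_dvd] at h6
  have h7 := h6.sub (h3.trans (geom_modEq z k))
  rw [sub_sub_cancel, Int.natCast_dvd_natCast, ht, padicValNat.mul two_ne_zero hk,
    padicValNat_self, add_comm] at h7
  exact pow_succ_padicValNat_not_dvd hk h7

end Cfsg.Agent.H13
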