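import Mathlib
import Cfsg.Agent.H13.QE

/-!
Non-degenerate symmetric bilinear forms over finite fields of characteristic two:
classification and orders of the isometry groups.
-/

set_option autoImplicit false

namespace Cfsg.Agent.H13

open Module

variable {F W W' : Type*} [Field F] [AddCommGroup W] [Module F W] [AddCommGroup W'] [Module F W']

/-- A non-degenerate symmetric bilinear form. -/
structure SymND (γ : W →ₗ[F] W →ₗ[F] F) : Prop where
  symm : ∀ x y, γ x y = γ y x
  sep : ∀ x, (∀ y, γ x y = 0) → x = 0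

variable {γ : W →ₗ[F] W →ₗ[F] F} {γ' : W' →ₗ[F] W' →ₗ[F] F}

theorem SymND.ext (h : SymND γ) {a b : W} (H : ∀ y, γ a y = γ b y) : a = b :=
  sub_eq_zero.1 (h.sep _ fun y => by rw [map_sub, LinearMap.sub_apply, H, sub_self])

/-- Splitting off a vector of norm one. -/
def splitE (γ : W →ₗ[F] W →ₗ[F] F) {e : W} (he : γ e e = 1) :
    W ≃ₗ[F] F × LinearMap.ker (γ e) where
  toFun x := (γ e x, ⟨x - γ e x • e, by simp [he]⟩)
  invFun p := p.1 • e + p.2
  map_add' x y := Prod.ext (by simp) (Subtype.ext (by simp [add_smul]; abel))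
  map_smul' c x := Prod.ext (by simp) (Subtype.ext (by simp [smul_sub, mul_smul]))
  left_inv x := by simp
  right_inv p := by
    have : γ e p.2 = 0 := p.2.2
    exact Prod.ext (by simp [he, this]) (Subtype.ext (by simp [he, this]))

theorem splitE_symm_apply {e : W} (he : γ e e = 1) (p : F × LinearMap.ker (γ e)) :
    (splitE γ he).symm p = p.1 • e + p.2 := rfl

theorem SymND.splitE_form (h : SymND γ) {e : W} (he : γ e e = 1) (p p' : F × LinearMap.ker (γ e)) :
    γ ((splitE γ he).symm p) ((splitE γ he).symm p') = p.1 * p'.1 + γ p.2 p'.2 := by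
  have h1 : γ e p'.2 = 0 := p'.2.2
  have h2 : γ p.2 e = 0 := (h.symm _ _).trans p.2.2
  simp [splitE_symm_apply, he, h1, h2, mul_comm]

/-- Extension of an isometry of the complements. -/
def liftE {e : W} (he : γ e e = 1) {e' : W'} (he' : γ' e' e' = 1)
    (ψ : LinearMap.ker (γ e) ≃ₗ[F] LinearMap.ker (γ' e')) : W ≃ₗ[F] W' :=
  (splitE γ he).trans (((LinearEquiv.refl F F).prodCongr ψ).trans (splitE γ' he').symm)

theorem liftE_apply {e : W} (he : γ e e = 1) {e' : W'} (he' : γ' e' e' = 1)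
    (ψ : LinearMap.ker (γ e) ≃ₗ[F] LinearMap.ker (γ' e')) (p : F × LinearMap.ker (γ e)) :
    liftE he he' ψ ((splitE γ he).symm p) = (splitE γ' he').symm (p.1, ψ p.2) := by
  simp [liftE]

theorem SymND.liftE_form (h : SymND γ) (h' : SymND γ') {e : W} (he : γ e e = 1) {e' : W'}
    (he' : γ' e' e' = 1) (ψ : LinearMap.ker (γ e) ≃ₗ[F] LinearMap.ker (γ' e'))
    (hψ : ∀ x y, γ' (ψ x) (ψ y) = γ x y) (x y : W) :
    γ' (liftE he he' ψ x) (liftE he he' ψ y) = γ x y := by
  obtain ⟨p, rfl⟩ := (splitE γ he).symm.surjective x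
  obtain ⟨p', rfl⟩ := (splitE γ he).symm.surjective y
  rw [liftE_apply, liftE_apply, h.splitE_form, h'.splitE_form, hψ]

/-- The form `γ x y + γ e x * γ e y`. -/
def altOf (γ : W →ₗ[F] W →ₗ[F] F) (e : W) : W →ₗ[F] W →ₗ[F] F := γ + (γ e).smulRight (γ e)

theorem altOf_apply (e x y : W) : altOf γ e x y = γ x y + γ e x * γ e y := rfl

variable [CharP F 2]

theorem SymND.sd_of_alt (h : SymND γ) (ha : ∀ u, γ u u = 0) : H12.SD (σ := RingHom.id F) γ where
  invol _ := rfl
  skew x y := by simp [h.symm x y, CharTwo.neg_eq]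
  sep := h.sep
  trace x := ⟨0, by simp [ha]⟩

theorem SymND.sd_altOf (h : SymND γ) {e : W} (he : ∀ u, γ e u ^ 2 = γ u u) (h0 : γ e e = 0) :
    H12.SD (σ := RingHom.id F) (altOf γ e) :=
  SymND.sd_of_alt ⟨fun x y => by rw [altOf_apply, altOf_apply, h.symm x y, mul_comm], fun x hx => by
    have h1 : x = γ e x • e := h.ext fun y => by
      have := hx y
      rw [altOf_apply, CharTwo.add_eq_zero] at this
      simpa using this
    have h2 : γ e x = 0 := by rw [h1]; simp [h0]
    rw [h1, h2, zero_smul]⟩ fun u => by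
      rw [altOf_apply, ← pow_two, he, CharTwo.add_self_eq_zero]

theorem SymND.sd_ker (h : SymND γ) {e : W} (he : ∀ u, γ e u ^ 2 = γ u u) (h1 : γ e e = 1) :
    H12.SD (σ := RingHom.id F) (H12.res γ (LinearMap.ker (γ e))) :=
  SymND.sd_of_alt ⟨fun x y => h.symm _ _, fun x hx => Subtype.ext (h.sep _ fun y => by
    obtain ⟨p, rfl⟩ := (splitE γ h1).symm.surjective y
    have := h.splitE_form h1 (0, x) p
    rw [splitE_symm_apply, zero_smul, zero_add, zero_mul, zero_add] at this
    exact this.trans (hx p.2))⟩ fun u => by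
      rw [H12.res_apply, ← he, show γ e u = 0 from u.2, zero_pow two_ne_zero]

omit [CharP F 2] in
theorem char_self {e : W} (he : ∀ u, γ e u ^ 2 = γ u u) : γ e e = 0 ∨ γ e e = 1 := by
  have : γ e e * (γ e e - 1) = 0 := by linear_combination he e
  rcases mul_eq_zero.1 this with h | h
  · exact .inl h
  · exact .inr (sub_eq_zero.1 h)

variable [Finite F]

theorem SymND.map_char (h' : SymND γ') {e : W} (he : ∀ u, γ e u ^ 2 = γ u u) {e' : W'}
    (he' : ∀ u, γ' e' u ^ 2 = γ' u u) (φ : W ≃ₗ[F] W') (hφ : ∀ x y, γ' (φ x) (φ y) = γ x y) :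
    φ e = e' := h'.ext fun y => by
  obtain ⟨x, rfl⟩ := φ.surjective y
  exact sq_inj_two (by rw [hφ, he, he', hφ])

variable [FiniteDimensional F W] [FiniteDimensional F W']

theorem SymND.exists_char (h : SymND γ) : ∃ e, ∀ u, γ e u ^ 2 = γ u u := by
  let ℓ : W →ₗ[F] F :=
    { toFun := fun u => (frobeniusEquiv F 2).symm (γ u u)
      map_add' := fun x y => by
        rw [← map_add (frobeniusEquiv F 2).symm]
        congr 1
        simp only [map_add, LinearMap.add_apply, h.symm y x]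
        linear_combination γ x y * CharTwo.two_eq_zero (R := F)
      map_smul' := fun c x => (frobeniusEquiv F 2).injective (by
        rw [RingEquiv.apply_symm_apply, smul_eq_mul, map_mul, RingEquiv.apply_symm_apply]
        simp [frobenius_def]; ring) }
  obtain ⟨e, he⟩ := exists_repr_dual (σ := RingHom.id F) (fun _ => rfl) γ h.sep ℓ
  exact ⟨e, fun u => by rw [he]; exact (frobeniusEquiv F 2).apply_symm_apply _⟩

omit [CharP F 2] [Finite F] in
theorem finrank_ker_char {e : W} (h1 : γ e e = 1) :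
    finrank F W = finrank F (LinearMap.ker (γ e)) + 1 := by
  rw [(splitE γ h1).finrank_eq, finrank_prod, finrank_self, add_comm]

omit [Finite F] in
theorem SymND.char_eq_one_iff (h : SymND γ) {e : W} (he : ∀ u, γ e u ^ 2 = γ u u) :
    γ e e = 1 ↔ Odd (finrank F W) := by
  constructor
  · intro h1
    rw [finrank_ker_char h1]
    exact (h.sd_ker he h1).even_finrank.add_one
  · intro h1
    refine (char_self he).resolve_left fun h0 => ?_
    exact Nat.not_even_iff_odd.2 h1 (h.sd_altOf he h0).even_finrank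

omit [Finite F] in
theorem SymND.even_of_alt (h : SymND γ) (ha : ∀ u, γ u u = 0) : Even (finrank F W) :=
  (h.sd_of_alt ha).even_finrank

omit [Finite F] [CharP F 2] in
theorem sd_exists_equiv {B : W →ₗ[F] W →ₗ[F] F} {B' : W' →ₗ[F] W' →ₗ[F] F}
    (D : H12.SD (σ := RingHom.id F) B) (D' : H12.SD (σ := RingHom.id F) B')
    (hd : finrank F W = finrank F W') : ∃ φ : W ≃ₗ[F] W', ∀ x y, B' (φ x) (φ y) = B x y := by
  obtain ⟨m, hm⟩ := D.even_finrank
  obtain ⟨e, he⟩ := D.exists_equiv_sp (m := m) (by omega)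
  obtain ⟨e', he'⟩ := D'.exists_equiv_sp (m := m) (by omega)
  exact ⟨e.trans e'.symm, fun x y => by rw [← he', ← he]; simp⟩

omit [Finite F] [CharP F 2] [FiniteDimensional F W] in
theorem SymND.char_eq_zero_iff (h : SymND γ) {e : W} (he : ∀ u, γ e u ^ 2 = γ u u) :
    e = 0 ↔ ∀ u, γ u u = 0 :=
  ⟨fun h0 u => by rw [← he, h0]; simp, fun h0 => h.sep _ fun u =>
    pow_eq_zero_iff two_ne_zero |>.1 ((he u).trans (h0 u))⟩

theorem SymND.exists_equiv (h : SymND γ) (h' : SymND γ') (hd : finrank F W = finrank F W')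
    (ha : (∀ u, γ u u = 0) ↔ ∀ u, γ' u u = 0) :
    ∃ φ : W ≃ₗ[F] W', ∀ x y, γ' (φ x) (φ y) = γ x y := by
  obtain ⟨e, he⟩ := h.exists_char
  obtain ⟨e', he'⟩ := h'.exists_char
  by_cases ho : Odd (finrank F W)
  · have h1 := (h.char_eq_one_iff he).2 ho
    have h1' := (h'.char_eq_one_iff he').2 (hd ▸ ho)
    obtain ⟨ψ, hψ⟩ := sd_exists_equiv (h.sd_ker he h1) (h'.sd_ker he' h1')
      (by have := finrank_ker_char h1; have := finrank_ker_char h1'; omega)
    exact ⟨liftE h1 h1' ψ, h.liftE_form h' h1 h1' ψ hψ⟩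
  have h0 := (char_self he).resolve_right fun h1 => ho ((h.char_eq_one_iff he).1 h1)
  have h0' := (char_self he').resolve_right fun h1 => ho (hd ▸ (h'.char_eq_one_iff he').1 h1)
  have D' := h'.sd_altOf he' h0'
  obtain ⟨ψ, hψ⟩ := sd_exists_equiv (h.sd_altOf he h0) D' hd
  obtain ⟨g, hg⟩ : ∃ g : H12.UG (σ := RingHom.id F) (altOf γ' e'), g.1 (ψ e) = e' := by
    by_cases hz : e = 0
    · refine ⟨1, ?_⟩
      rw [(h'.char_eq_zero_iff he').2 (ha.1 ((h.char_eq_zero_iff he).1 hz)), hz]; simp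
    · refine D'.witt_one (by simpa using hz)
        (fun hz' => hz ((h.char_eq_zero_iff he).2 (ha.2 ((h'.char_eq_zero_iff he').1 hz')))) ?_
      rw [hψ, altOf_apply, altOf_apply, h0, h0']
  have h2 : ∀ x y, altOf γ' e' (g.1 (ψ x)) (g.1 (ψ y)) = altOf γ e x y := fun x y => by
    rw [H12.UG_map, hψ]
  have h3 : ∀ x, γ' e' (g.1 (ψ x)) = γ e x := fun x => by
    have := h2 e x
    rwa [hg, altOf_apply, altOf_apply, h0, h0', zero_mul, zero_mul, add_zero, add_zero] at this
  refine ⟨ψ.trans g.1, fun x y => ?_⟩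
  have := h2 x y
  rwa [altOf_apply, altOf_apply, h3, h3, add_left_inj] at this

theorem SymND.card_UG_alt (h : SymND γ) (ha : ∀ u, γ u u = 0) {k : ℕ} (hk : finrank F W = 2 * k) :
    Nat.card (H12.UG (σ := RingHom.id F) γ) = H12.spOrd (Nat.card F) k :=
  H12.card_UG_sp k (h.sd_of_alt ha) hk

theorem SymND.card_UG_odd (h : SymND γ) {k : ℕ} (hk : finrank F W = 2 * k + 1) :
    Nat.card (H12.UG (σ := RingHom.id F) γ) = H12.spOrd (Nat.card F) k := by
  obtain ⟨e, he⟩ := h.exists_char
  have h1 := (h.char_eq_one_iff he).2 ⟨k, hk⟩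
  rw [← H12.card_UG_sp k (h.sd_ker he h1) (by have := finrank_ker_char h1; omega)]
  symm
  refine Nat.card_congr (Equiv.ofBijective
    (fun g => ⟨liftE h1 h1 g.1, h.liftE_form h h1 h1 g.1 g.2⟩) ⟨fun g g' H => ?_, fun g => ?_⟩)
  · refine H12.UG_ext fun x => ?_
    have := congrArg (fun k : H12.UG (σ := RingHom.id F) γ => k.1 ((splitE γ h1).symm (0, x))) H
    simp only [liftE_apply] at this
    exact (Prod.mk.inj ((splitE γ h1).symm.injective this)).2
  · have h2 : g.1 e = e := h.map_char he he g.1 g.2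
    have h3 : ∀ w, g.1 w ∈ LinearMap.ker (γ e) ↔ w ∈ LinearMap.ker (γ e) := fun w => by
      rw [LinearMap.mem_ker, LinearMap.mem_ker, ← H12.UG_map g e w, h2]
    refine ⟨H12.resUG _ g h3, H12.UG_ext fun x => ?_⟩
    obtain ⟨p, rfl⟩ := (splitE γ h1).symm.surjective x
    change liftE h1 h1 _ _ = _
    rw [liftE_apply, splitE_symm_apply, splitE_symm_apply, map_add, map_smul, h2]; rfl

theorem SymND.card_UG_nonalt (h : SymND γ) (ha : ¬ ∀ u, γ u u = 0) {k : ℕ}
    (hk : finrank F W = 2 * k + 2) :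
    Nat.card (H12.UG (σ := RingHom.id F) γ) =
      Nat.card F ^ (2 * k + 1) * H12.spOrd (Nat.card F) k := by
  obtain ⟨e, he⟩ := h.exists_char
  have h0 := (char_self he).resolve_right fun h1 => by
    have := (h.char_eq_one_iff he).1 h1
    rw [hk] at this
    exact Nat.not_even_iff_odd.2 this ⟨k + 1, by ring⟩
  have hz : e ≠ 0 := fun hz => ha ((h.char_eq_zero_iff he).1 hz)
  have D := h.sd_altOf he h0
  have := D.card_fixF_sp (k := 1) (r := k) (by omega) (e := fun _ => e)
    ((linearIndependent_unique_iff (ι := Fin 1)).mpr hz)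
    (fun _ _ => by rw [altOf_apply, h0]; simp)
  rw [show Nat.card F ^ (2 * k + 1) = Nat.card F ^ (1 * (2 * k) + 1 * (1 - 1) / 2) * Nat.card F ^ 1
    by simp [pow_succ], ← this]
  refine Nat.card_congr
    { toFun := fun g => ⟨⟨g.1, fun x y => ?_⟩, fun _ => h.map_char he he g.1 g.2⟩
      invFun := fun g => ⟨g.1.1, fun x y => ?_⟩
      left_inv := fun _ => rfl
      right_inv := fun _ => rfl }
  · have h2 : g.1 e = e := h.map_char he he g.1 g.2
    have h3 : ∀ x, γ e (g.1 x) = γ e x := fun x => by rw [← H12.UG_map g e x, h2]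
    rw [altOf_apply, altOf_apply, h3, h3, H12.UG_map]
  · have h2 : g.1.1 e = e := g.2 0
    have h3 : ∀ x, γ e (g.1.1 x) = γ e x := fun x => by
      have := H12.UG_map g.1 e x
      rwa [h2, altOf_apply, altOf_apply, h0, zero_mul, zero_mul, add_zero, add_zero] at this
    have := H12.UG_map g.1 x y
    rwa [altOf_apply, altOf_apply, h3, h3, add_left_inj] at this

end Cfsg.Agent.H13
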