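import Mathlib
import Cfsg.Agent.H13.SymF
import Cfsg.Agent.H13.FixO
import Cfsg.Agent.H13.Levi
import Cfsg.Agent.H28.MatSim

/-!
Involutions of symplectic and orthogonal groups in characteristic two.
-/

set_option autoImplicit false

namespace Cfsg.Agent.H13

open Module QuadraticMap

universe u v

section Count

theorem card_Icc_one (m : ℕ) : Nat.card {s : ℕ // 1 ≤ s ∧ s ≤ m} = m := by
  rw [Nat.card_congr (Equiv.subtypeEquivRight (q := fun s => s ∈ Finset.Icc 1 m) (by simp)),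
    Nat.card_eq_finsetCard, Nat.card_Icc, Nat.add_sub_cancel]

theorem card_even_Icc (m : ℕ) : Nat.card {s : ℕ // Even s ∧ 1 ≤ s ∧ s ≤ m} = m / 2 := by
  rw [← card_Icc_one (m / 2)]
  symm
  refine Nat.card_congr (Equiv.ofBijective (fun s => ⟨2 * s.1, even_two_mul _, by omega, by omega⟩)
    ⟨fun a b h => Subtype.ext (by simpa using h), ?_⟩)
  rintro ⟨_, ⟨k, rfl⟩, h1, h2⟩
  exact ⟨⟨k, by omega, by omega⟩, Subtype.ext (two_mul k)⟩

theorem card_conjClasses_congr {G H : Type*} [Group G] [Group H] (e : G ≃* H) (n : ℕ) :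
    Nat.card {c : ConjClasses G // ∃ g, ConjClasses.mk g = c ∧ orderOf g = n} =
      Nat.card {c : ConjClasses H // ∃ g, ConjClasses.mk g = c ∧ orderOf g = n} := by
  refine H28.card_conjClasses_eq (fun g => ConjClasses.mk (e g)) (fun g h => ?_) _ _
    (fun g hg => ⟨e g, rfl, by rw [← hg]; exact e.orderOf_eq g⟩) ?_
  · rw [ConjClasses.mk_eq_mk_iff_isConj]
    exact ⟨fun h => (e : G →* H).map_isConj h, fun h' => by
      simpa using (e.symm : H →* G).map_isConj h'⟩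
  · rintro _ ⟨h, rfl, hh⟩
    exact ⟨e.symm h, by rw [← hh]; exact e.symm.orderOf_eq h, by simp⟩

theorem isConj_equiv_iff {G H : Type*} [Group G] [Group H] (e : G ≃* H) {g h : G} :
    IsConj (e g) (e h) ↔ IsConj g h :=
  ⟨fun h' => by simpa using (e.symm : H →* G).map_isConj h', fun h => (e : G →* H).map_isConj h⟩

theorem card_centralizer_equiv {G H : Type*} [Group G] [Group H] (e : G ≃* H) (g : G) :
    Nat.card (Subgroup.centralizer {e g}) = Nat.card (Subgroup.centralizer {g}) :=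
  (Nat.card_congr (e.toEquiv.subtypeEquiv fun x => by
    simp only [Subgroup.mem_centralizer_singleton_iff, MulEquiv.toEquiv_eq_coe, EquivLike.coe_coe,
      ← map_mul, e.apply_eq_iff_eq])).symm

theorem two_mul_card_inf_of_index_two {G : Type*} [Group G] {H C : Subgroup G} (hH : H.index = 2)
    {g : G} (hg : g ∈ C) (hg' : g ∉ H) : 2 * Nat.card (H ⊓ C : Subgroup G) = Nat.card C := by
  have hN : H.Normal := Subgroup.normal_of_index_eq_two hH
  have h1 : H.relIndex C ∣ 2 := hH ▸ Subgroup.relIndex_dvd_index_of_normal H C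
  have h2 : H.relIndex C ≠ 1 := fun h => hg' (Subgroup.relIndex_eq_one.1 h hg)
  have h3 : H.relIndex C = 2 := ((Nat.dvd_prime Nat.prime_two).1 h1).resolve_left h2
  rw [← h3, ← (H.subgroupOf C).index_mul_card, ← Subgroup.inf_subgroupOf_right,
    Nat.card_congr (Subgroup.subgroupOfEquivOfLe (inf_le_right (a := H))).toEquiv,
    Subgroup.inf_subgroupOf_right]
  rfl

end Count

variable {F : Type u} {V : Type v} [Field F] [AddCommGroup V] [Module F V]

/-- The rank of `x - 1`. -/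
noncomputable def rk1 {G : Subgroup (V ≃ₗ[F] V)} (x : G) : ℕ := finrank F (LinearMap.range (sub1 x))

theorem rk1_eq_rk {Q : QuadraticForm F V} (x : OG Q) : rk1 x = rk x := rfl

theorem rk1_eq_zero_iff [FiniteDimensional F V] {G : Subgroup (V ≃ₗ[F] V)} {x : G} :
    rk1 x = 0 ↔ x = 1 := by
  rw [rk1, Submodule.finrank_eq_zero, LinearMap.range_eq_bot, sub1_eq_zero_iff]

theorem orderOf_eq_two_iff_rk1 [FiniteDimensional F V] {G : Subgroup (V ≃ₗ[F] V)} {x : G} :
    orderOf x = 2 ↔ x ^ 2 = 1 ∧ 1 ≤ rk1 x := by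
  rw [orderOf_eq_prime_iff, Nat.one_le_iff_ne_zero, Ne, Ne, rk1_eq_zero_iff]

theorem rk1_eq_rank {ι : Type*} [Fintype ι] [DecidableEq ι] {G : Subgroup ((ι → F) ≃ₗ[F] (ι → F))}
    {x : G} {A : Matrix ι ι F} (h : ∀ v, x.1 v = A.mulVec v) : rk1 x = (A - 1).rank := by
  have : sub1 x = (A - 1).mulVecLin := LinearMap.ext fun v => by
    simp [sub1_apply, h, Matrix.sub_mulVec]
  rw [rk1, this]; rfl

/-- The form `B v (x v - v)` vanishes identically. -/
def Alt {σ : F →+* F} (B : V →ₛₗ[σ] V →ₗ[F] F) {G : Subgroup (V ≃ₗ[F] V)} (x : G) : Prop :=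
  ∀ v, B v (sub1 x v) = 0

theorem QE.alt_iff {σ : F →+* F} {B : V →ₛₗ[σ] V →ₗ[F] F} {G : Subgroup (V ≃ₗ[F] V)} {x : G}
    (h : QE B (sub1 x)) : Alt B x ↔ ∀ u, gam B (sub1 x) u u = 0 :=
  ⟨fun H u => by
    obtain ⟨v, rfl⟩ := (sub1 x).surjective_rangeRestrict u
    rw [h.gam_apply', H], fun H v => by rw [← h.gam_apply', H]⟩

variable [CharP F 2]

section General

variable {B : V →ₗ[F] V →ₗ[F] F} {ε t : F} {N : V → F} {G : Subgroup (V ≃ₗ[F] V)}

theorem WittData.neg_eps (D : WittData (RingHom.id F) B ε t N) : -ε = 1 := by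
  have h : (ε + 1) ^ 2 = 0 := by
    rw [CharTwo.add_sq, pow_two, show ε * ε = 1 from D.eps, one_pow, CharTwo.add_self_eq_zero]
  have := pow_eq_zero_iff two_ne_zero |>.1 h
  linear_combination -this

theorem QE.symND {M : V →ₗ[F] V} (h : QE (σ := RingHom.id F) B M)
    (D : WittData (RingHom.id F) B ε t N) : SymND (gam (σ := RingHom.id F) B M) :=
  ⟨fun x y => by rw [h.gam_symm D, D.neg_eps, one_mul]; rfl, h.gam_sep D.sep⟩

theorem IsIsom.qe_two (hG : IsIsom (σ := RingHom.id F) G B N) {x : G} (hx : x ^ 2 = 1) :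
    QE (σ := RingHom.id F) B (sub1 x) := hG.qe ((sub1_sub1_of_two CharTwo.two_eq_zero).2 hx)

variable [FiniteDimensional F V]

theorem IsIsom.even_of_alt (hG : IsIsom (σ := RingHom.id F) G B N)
    (D : WittData (RingHom.id F) B ε t N) {x : G} (hx : x ^ 2 = 1)
    (ha : Alt (σ := RingHom.id F) B x) : Even (rk1 x) :=
  ((hG.qe_two hx).symND D).even_of_alt ((hG.qe_two hx).alt_iff.1 ha)

theorem IsIsom.exists_alt (hG : IsIsom (σ := RingHom.id F) G B N)
    (D : WittData (RingHom.id F) B ε t N) {U : Submodule F V}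
    (h0 : ∀ u ∈ U, ∀ v ∈ U, B u v = 0) (hN : ∀ u ∈ U, N u = 0) (he : Even (finrank F U)) :
    ∃ x : G, x ^ 2 = 1 ∧ LinearMap.range (sub1 x) = U ∧ Alt (σ := RingHom.id F) B x := by
  obtain ⟨k, hk⟩ := he
  let ψ : U ≃ₗ[F] (Fin k ⊕ Fin k → F) := LinearEquiv.ofFinrankEq _ _ (by simp [hk])
  have S := H12.sd_spB (F := F) (l := Fin k)
  have h1 : ∀ y, H12.spB (Fin k) F y y = 0 := fun y => by
    obtain ⟨d, hd⟩ := S.trace y
    rw [← hd]; exact sub_self _
  obtain ⟨x, h2, h3, c, -, h4⟩ := hG.exists_qe D (pull (H12.spB (Fin k) F) ψ.toLinearMap ψ)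
    (fun y hy => ψ.map_eq_zero_iff.1 (S.sep _ fun z => by
      obtain ⟨z, rfl⟩ := ψ.surjective z
      exact hy z))
    (fun y z => by
      rw [D.neg_eps, pull_apply, pull_apply, S.skew, CharTwo.neg_eq, one_mul])
    U.subtype U.injective_subtype (fun y z => h0 _ y.2 _ z.2)
    (fun y => by rw [pull_apply, h1, mul_zero]; exact hN _ y.2)
  exact ⟨x, (sub1_sub1_of_two CharTwo.two_eq_zero).1 h2, h3.trans U.range_subtype,
    fun v => (h4 v v).trans (h1 _)⟩

omit [CharP F 2] [FiniteDimensional F V] in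
theorem WittData.N_sum {σ : F →+* F} {B : V →ₛₗ[σ] V →ₗ[F] F} (D : WittData σ B ε t N)
    {ι : Type*} (s : Finset ι) (b : ι → V) (h : ∀ i j, B (b i) (b j) = 0) (c : ι → F) :
    N (∑ i ∈ s, c i • b i) = ∑ i ∈ s, c i * c i * N (b i) := by
  classical
  induction s using Finset.induction_on with
  | empty => simpa using D.smul 0 0
  | insert a s ha ih =>
    rw [Finset.sum_insert ha, Finset.sum_insert ha, D.add, ih, D.smul]
    simp [map_sum, h]

theorem IsIsom.exists_nonalt (hG : IsIsom (σ := RingHom.id F) G B N)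
    (D : WittData (RingHom.id F) B ε t N) {s : ℕ} (hs : 1 ≤ s) {b : Fin s → V}
    (hb : LinearIndependent F b) (h0 : ∀ i j, B (b i) (b j) = 0) (hN : ∀ i, N (b i) = t) :
    ∃ x : G, x ^ 2 = 1 ∧ rk1 x = s ∧ ¬ Alt (σ := RingHom.id F) B x := by
  have hT : Function.Injective (Fintype.linearCombination F b) :=
    linearIndependent_iff_injective_fintypeLinearCombination.1 hb
  obtain ⟨x, h2, h3, c, hc, h4⟩ := hG.exists_qe D (dotProductBilin F F)
    (fun y hy => dotProduct_eq_zero _ hy)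
    (fun y z => by rw [D.neg_eps, one_mul]; exact dotProduct_comm z y)
    (Fintype.linearCombination F b) hT
    (fun y z => by simp [Fintype.linearCombination_apply, map_sum, h0])
    (fun y => by
      rw [Fintype.linearCombination_apply, D.N_sum _ b h0, CharTwo.neg_eq]
      simp [hN, dotProduct, Finset.mul_sum, mul_comm])
  refine ⟨x, (sub1_sub1_of_two CharTwo.two_eq_zero).1 h2, ?_, fun h => ?_⟩
  · rw [rk1, h3, LinearMap.finrank_range_of_inj hT]; simp
  · obtain ⟨v, hv⟩ := hc (Pi.single ⟨0, hs⟩ 1)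
    have := (h4 v v).symm.trans (h v)
    simp [hv] at this

variable [Finite F]

theorem IsIsom.isConj_iff_two (hG : IsIsom (σ := RingHom.id F) G B N)
    (D : WittData (RingHom.id F) B ε t N) {x y : G} (hx : x ^ 2 = 1) (hy : y ^ 2 = 1) :
    IsConj x y ↔ rk1 x = rk1 y ∧ (Alt (σ := RingHom.id F) B x ↔ Alt (σ := RingHom.id F) B y) := by
  rw [hG.isConj_iff D (hG.qe_two hx).sq (hG.qe_two hy).sq, (hG.qe_two hx).alt_iff,
    (hG.qe_two hy).alt_iff]
  constructor
  · rintro ⟨φ, hφ⟩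
    refine ⟨φ.finrank_eq, fun h u => ?_, fun h u => by rw [← hφ, h]⟩
    obtain ⟨u, rfl⟩ := φ.surjective u
    rw [hφ, h]
  · rintro ⟨h1, h2⟩
    exact ((hG.qe_two hx).symND D).exists_equiv ((hG.qe_two hy).symND D) h1 h2

theorem IsIsom.card_alt_zero (hG : IsIsom (σ := RingHom.id F) G B N)
    (D : WittData (RingHom.id F) B ε t N) {x : G} (hx : x ^ 2 = 1) :
    (Alt (σ := RingHom.id F) B x → Nat.card {v // B v (sub1 x v) = 0} = Nat.card V) ∧
    (¬ Alt (σ := RingHom.id F) B x →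
      Nat.card {v // B v (sub1 x v) = 0} * Nat.card F = Nat.card V) := by
  refine ⟨fun h => Nat.card_congr (Equiv.subtypeUnivEquiv h), fun h => ?_⟩
  have hq := hG.qe_two hx
  obtain ⟨e, he⟩ := (hq.symND D).exists_char
  let ℓ : V →ₗ[F] F := gam (σ := RingHom.id F) B (sub1 x) e ∘ₗ (sub1 x).rangeRestrict
  have h1 : ∀ v, B v (sub1 x v) = 0 ↔ v ∈ LinearMap.ker ℓ := fun v => by
    rw [← hq.gam_apply', ← he, pow_eq_zero_iff two_ne_zero]; rfl
  obtain ⟨v, hv⟩ := not_forall.1 h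
  have h2 := finrank_inf_ker_add_one (K := ⊤) ℓ (x := v) trivial (fun h => hv ((h1 v).2 h))
  rw [top_inf_eq, finrank_top] at h2
  rw [Nat.card_congr (Equiv.subtypeEquivRight h1), card_eq_pow (F := F) (V := V), ← h2, pow_succ,
    ← card_eq_pow (F := F)]

open Classical in
/-- The invariant of an involution. -/
noncomputable def inv2 (B : V →ₗ[F] V →ₗ[F] F) (x : G) : ℕ ⊕ ℕ :=
  if Alt (σ := RingHom.id F) B x then .inr (rk1 x) else .inl (rk1 x)

omit [CharP F 2] [FiniteDimensional F V] [Finite F] in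
theorem inv2_eq_iff {x y : G} : inv2 B x = inv2 B y ↔
    rk1 x = rk1 y ∧ (Alt (σ := RingHom.id F) B x ↔ Alt (σ := RingHom.id F) B y) := by
  unfold inv2
  split_ifs with h1 h2 h2 <;> simp [h1, h2]

theorem IsIsom.card_classes_two (hG : IsIsom (σ := RingHom.id F) G B N)
    (D : WittData (RingHom.id F) B ε t N) (P₁ P₂ : ℕ → Prop) [Finite {s // P₁ s}]
    [Finite {s // P₂ s}]
    (h1 : ∀ s, P₁ s ↔ ∃ x : G, orderOf x = 2 ∧ rk1 x = s ∧ ¬ Alt (σ := RingHom.id F) B x)
    (h2 : ∀ s, P₂ s ↔ ∃ x : G, orderOf x = 2 ∧ rk1 x = s ∧ Alt (σ := RingHom.id F) B x) :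
    Nat.card {c : ConjClasses G // ∃ g, ConjClasses.mk g = c ∧ orderOf g = 2} =
      Nat.card {s // P₁ s} + Nat.card {s // P₂ s} := by
  refine (H28.card_conjClasses_eq' (inv2 B) _ (Sum.elim P₁ P₂) (fun g h hg hh => by
    rw [inv2_eq_iff, hG.isConj_iff_two D (hg ▸ pow_orderOf_eq_one g) (hh ▸ pow_orderOf_eq_one h)])
    (fun g hg => ?_) ?_).trans ((Nat.card_congr Equiv.subtypeSum).trans
      (Nat.card_sum (α := {s // P₁ s}) (β := {s // P₂ s})))
  · unfold inv2
    split_ifs with h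
    · exact (h2 _).2 ⟨g, hg, rfl, h⟩
    · exact (h1 _).2 ⟨g, hg, rfl, h⟩
  · rintro (s | s) hs
    · obtain ⟨x, h3, rfl, h4⟩ := (h1 s).1 hs
      exact ⟨x, h3, if_neg h4⟩
    · obtain ⟨x, h3, rfl, h4⟩ := (h2 s).1 hs
      exact ⟨x, h3, if_pos h4⟩

theorem IsIsom.card_centralizer_odd (hG : IsIsom (σ := RingHom.id F) G B N)
    (D : WittData (RingHom.id F) B ε t N) {x : G} (hx : x ^ 2 = 1) {k : ℕ}
    (hk : rk1 x = 2 * k + 1) : Nat.card (Subgroup.centralizer {x}) =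
      H12.spOrd (Nat.card F) k * Nat.card (fixW G (LinearMap.range (sub1 x))) := by
  rw [hG.card_centralizer D (hG.qe_two hx).sq, ((hG.qe_two hx).symND D).card_UG_odd hk]

theorem IsIsom.card_centralizer_alt (hG : IsIsom (σ := RingHom.id F) G B N)
    (D : WittData (RingHom.id F) B ε t N) {x : G} (hx : x ^ 2 = 1)
    (ha : Alt (σ := RingHom.id F) B x) {k : ℕ} (hk : rk1 x = 2 * k) :
    Nat.card (Subgroup.centralizer {x}) =
      H12.spOrd (Nat.card F) k * Nat.card (fixW G (LinearMap.range (sub1 x))) := by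
  rw [hG.card_centralizer D (hG.qe_two hx).sq,
    ((hG.qe_two hx).symND D).card_UG_alt ((hG.qe_two hx).alt_iff.1 ha) hk]

theorem IsIsom.card_centralizer_nonalt (hG : IsIsom (σ := RingHom.id F) G B N)
    (D : WittData (RingHom.id F) B ε t N) {x : G} (hx : x ^ 2 = 1)
    (ha : ¬ Alt (σ := RingHom.id F) B x) {k : ℕ} (hk : rk1 x = 2 * k + 2) :
    Nat.card (Subgroup.centralizer {x}) = Nat.card F ^ (2 * k + 1) *
      H12.spOrd (Nat.card F) k * Nat.card (fixW G (LinearMap.range (sub1 x))) := by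
  rw [hG.card_centralizer D (hG.qe_two hx).sq,
    ((hG.qe_two hx).symND D).card_UG_nonalt (mt (hG.qe_two hx).alt_iff.2 ha) hk]

end General

section Sp

variable [FiniteDimensional F V] {B : V →ₗ[F] V →ₗ[F] F}

theorem sd_two_mul_rk1_le (D : H12.SD (σ := RingHom.id F) B) {x : H12.UG (σ := RingHom.id F) B}
    (hx : x ^ 2 = 1) : 2 * rk1 x ≤ finrank F V :=
  D.two_mul_finrank_le ((isIsom_UG _).qe_two hx).ti

variable [Finite F]

theorem sd_card_fixW (D : H12.SD (σ := RingHom.id F) B) {m : ℕ} (hm : finrank F V = 2 * m)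
    {x : H12.UG (σ := RingHom.id F) B} (hx : x ^ 2 = 1) :
    Nat.card (fixW (H12.UG (σ := RingHom.id F) B) (LinearMap.range (sub1 x))) =
      Nat.card F ^ (rk1 x * (2 * (m - rk1 x)) + rk1 x * (rk1 x - 1) / 2 + rk1 x) *
        H12.spOrd (Nat.card F) (m - rk1 x) :=
  card_fixW_sp D ((isIsom_UG _).qe_two hx).ti rfl (by have := sd_two_mul_rk1_le D hx; omega)

theorem sd_card_classes (D : H12.SD (σ := RingHom.id F) B) {m : ℕ} (hm : finrank F V = 2 * m) :
    Nat.card {c : ConjClasses (H12.UG (σ := RingHom.id F) B) //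
      ∃ g, ConjClasses.mk g = c ∧ orderOf g = 2} = m + m / 2 := by
  have : Finite {s : ℕ // 1 ≤ s ∧ s ≤ m} := (Set.finite_Icc 1 m).to_subtype
  have : Finite {s : ℕ // Even s ∧ 1 ≤ s ∧ s ≤ m} :=
    ((Set.finite_Icc 1 m).subset fun _ h => h.2).to_subtype
  rw [(isIsom_UG _).card_classes_two D.wittData (fun s => 1 ≤ s ∧ s ≤ m)
    (fun s => Even s ∧ 1 ≤ s ∧ s ≤ m) (fun s => ⟨fun hs => ?_, ?_⟩) (fun s => ⟨fun hs => ?_, ?_⟩),
    card_Icc_one, card_even_Icc]
  · obtain ⟨U, h1, h2⟩ := D.exists_ti H12.ns_id (k := s) (by omega)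
    let b := finBasisOfFinrankEq F U h1
    obtain ⟨x, h3, h4, h5⟩ := (isIsom_UG _).exists_nonalt D.wittData hs.1
      (b := fun i => (b i : V)) (b.linearIndependent.map' U.subtype U.ker_subtype)
      (fun i j => h2 _ (b i).2 _ (b j).2) (fun _ => rfl)
    exact ⟨x, orderOf_eq_two_iff_rk1.2 ⟨h3, by omega⟩, h4, h5⟩
  · rintro ⟨x, h1, rfl, -⟩
    obtain ⟨h2, h3⟩ := orderOf_eq_two_iff_rk1.1 h1
    exact ⟨h3, by have := sd_two_mul_rk1_le D h2; omega⟩
  · obtain ⟨U, h1, h2⟩ := D.exists_ti H12.ns_id (k := s) (by omega)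
    obtain ⟨x, h3, h4, h5⟩ := (isIsom_UG _).exists_alt D.wittData h2 (fun _ _ => rfl) (h1 ▸ hs.1)
    have h6 : rk1 x = s := by rw [rk1, h4, h1]
    exact ⟨x, orderOf_eq_two_iff_rk1.2 ⟨h3, by omega⟩, h6, h5⟩
  · rintro ⟨x, h1, rfl, h4⟩
    obtain ⟨h2, h3⟩ := orderOf_eq_two_iff_rk1.1 h1
    exact ⟨(isIsom_UG _).even_of_alt D.wittData h2 h4, h3,
      by have := sd_two_mul_rk1_le D h2; omega⟩

end Sp

end Cfsg.Agent.H13
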