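import Cfsg.Agent.H13.Sp4w

/-! Eigenvalue combinatorics for `Ω₉(q)`. -/

set_option autoImplicit false

namespace Cfsg.Agent.H13

open H28 Multiset

variable {k : Type*} [Field k] {q d N : ℕ} {α x : k} {R : Multiset k}

/-- the eigenvalues of a torus element -/
def orbM (q d : ℕ) (α : k) : Multiset k :=
  (range d).map (α ^ q ^ ·) + (range d).map fun j => (α ^ q ^ j)⁻¹

theorem card_orbM : (orbM q d α).card = 2 * d := by simp [orbM, two_mul]

theorem mem_orbM (h : x ∈ orbM q d α) : ∃ j, x = α ^ q ^ j ∨ x = (α ^ q ^ j)⁻¹ := by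
  simp only [orbM, mem_add, mem_map] at h
  rcases h with ⟨j, -, h⟩ | ⟨j, -, h⟩
  exacts [⟨j, Or.inl h.symm⟩, ⟨j, Or.inr h.symm⟩]

theorem pow_of_mem_orbM {m : ℕ} (hm : α ^ m = 1) (h : x ∈ orbM q d α) : x ^ m = 1 := by
  obtain ⟨j, rfl | rfl⟩ := mem_orbM h <;> simp [pow_right_comm _ _ m, hm]

theorem self_mem_orbM (hd : 0 < d) : α ∈ orbM q d α :=
  mem_add.2 (Or.inl (mem_map.2 ⟨0, by simpa using hd, by simp⟩))

theorem pm_pow (hN : Pm q d N) (h : α ^ N = 1) :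
    (N + 1 = q ^ d ∧ α ^ q ^ d = α) ∨ (N = q ^ d + 1 ∧ α ^ q ^ d = α⁻¹) :=
  hN.2.imp (fun e => ⟨e, by rw [← e, pow_succ, h, one_mul]⟩) fun e =>
    ⟨e, eq_inv_of_mul_eq_one_left (by rw [← pow_succ, ← e, h])⟩

theorem mem_orbM_of (hN : Pm q d N) (h : α ^ N = 1) (j : ℕ) :
    α ^ q ^ j ∈ orbM q d α ∧ (α ^ q ^ j)⁻¹ ∈ orbM q d α := by
  induction j using Nat.strong_induction_on with
  | _ j ih =>
    by_cases hj : j < d
    · exact ⟨mem_add.2 (Or.inl (mem_map.2 ⟨j, mem_range.2 hj, rfl⟩)),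
        mem_add.2 (Or.inr (mem_map.2 ⟨j, mem_range.2 hj, rfl⟩))⟩
    obtain ⟨i, rfl⟩ := Nat.exists_eq_add_of_le (not_lt.1 hj)
    have := ih i (by have := hN.1; omega)
    rw [pow_add, pow_mul]
    rcases pm_pow hN h with ⟨-, e⟩ | ⟨-, e⟩ <;> rw [e]
    · exact this
    · rw [inv_pow, inv_inv]; exact this.symm

theorem map_inv_orbM : (orbM q d α).map (·⁻¹) = orbM q d α := by
  simp [orbM, add_comm]

theorem map_neg_orbM (hq : Odd q) : (orbM q d α).map (- ·) = orbM q d (-α) := by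
  simp [orbM, hq.pow.neg_pow, inv_neg]

theorem map_pow_orbM (hN : Pm q d N) (h : α ^ N = 1) : (orbM q d α).map (· ^ q) = orbM q d α := by
  have h1 : ∀ f : ℕ → k, (range d).map (fun j => f (j + 1)) + {f 0} = (range d).map f + {f d} := fun f => by
    have := congrArg (map f) ((range_add 1 d).symm.trans ((congrArg range (add_comm 1 d)).trans (range_add d 1)))
    simpa [add_comm, show range 1 = {0} from rfl] using this
  have h2 := h1 (α ^ q ^ ·)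
  have h3 := h1 fun j => (α ^ q ^ j)⁻¹
  simp only [orbM, map_add, map_map, Function.comp_def, inv_pow, ← pow_mul, ← pow_succ]
  simp only [pow_zero, pow_one] at h2 h3
  rcases pm_pow hN h with ⟨-, e⟩ | ⟨-, e⟩ <;> rw [e] at h2 h3
  · rw [add_right_cancel h2, add_right_cancel h3]
  · refine add_right_cancel (b := {α} + {α⁻¹}) ?_
    rw [add_add_add_comm, h2, h3, inv_inv]; abel

theorem prod_orbM (h0 : α ≠ 0) : (orbM q d α).prod = 1 := by
  rw [orbM, prod_add, ← prod_map_mul]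
  simp [h0]

theorem _root_.Cfsg.Agent.H28.Stab.orb (h : Stab q R) (hα : α ∈ R) (h2 : α ^ 2 ≠ 1) : ∃ d N R', Pm q d N ∧ α ^ N = 1 ∧
    R = orbM q d α + R' ∧ (orbM q d α).Nodup ∧ Stab q R' ∧ ∀ x ∈ orbM q d α, ∀ m, x ^ m = 1 → α ^ m = 1 := by
  obtain ⟨d, N, S, R', a1, a2, a3, a4, a5, a6⟩ := h.orbit hα h2
  have : S.val = orbM q d α := eq_of_le_of_card_le ((le_iff_subset S.nodup).2 fun x hx => by
    obtain ⟨j, rfl | rfl⟩ := (a6 x hx).2
    exacts [(mem_orbM_of a1 a2 j).1, (mem_orbM_of a1 a2 j).2]) (by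
      rw [a3, card_add] at a5; rw [card_orbM]; omega)
  exact ⟨d, N, R', a1, a2, this ▸ a3, this ▸ S.nodup, a4, fun x hx m => by
    simp only [← orderOf_dvd_iff_pow_eq_one, (a6 x (this ▸ hx :)).1, imp_self]⟩

theorem _root_.Cfsg.Agent.H28.Stab.prod_one (h : Stab q R) (h2 : ∀ x ∈ R, x ^ 2 ≠ 1) : R.prod = 1 ∧ R.card % 2 = 0 := by
  induction R using Multiset.strongInductionOn with
  | _ R ih =>
    rcases R.empty_or_exists_mem with rfl | ⟨α, hα⟩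
    · simp
    obtain ⟨d, N, R', a1, -, a3, -, a4, -⟩ := h.orb hα (h2 α hα)
    have := ih R' (lt_of_le_of_ne (a3 ▸ le_add_left _ _) fun e => by
      have := congrArg card a3
      rw [card_add, card_orbM, e] at this
      have := a1.1; omega) a4 fun x hx => h2 x (a3 ▸ mem_add.2 (Or.inr hx))
    rw [a3, prod_add, card_add, card_orbM, prod_orbM (h.ne α hα), this.1]
    exact ⟨one_mul _, by omega⟩

open Classical in
theorem _root_.Cfsg.Agent.H28.Stab.two_count (h : Stab q R) (h2 : ∀ x ∈ R, x ^ 2 ≠ 1) (x : k) {y : k}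
    (hy : y ∉ R ∨ (x ≠ y ∧ x ≠ y⁻¹)) : 2 * R.count x + 2 * R.count y ≤ R.card := by
  have h1 : ∀ x, R.count x⁻¹ = R.count x := fun x => count_iterate inv_injective h.inv x 1
  have h3 : ∀ x ∈ R, x ≠ x⁻¹ := fun x hx e => h2 x hx (by
    rw [sq]; nth_rw 1 [e]; exact inv_mul_cancel₀ (h.ne x hx))
  have h4 : ∀ S : Finset k, ∑ z ∈ S, R.count z ≤ R.card := fun S => by
    rw [← toFinset_sum_count_eq]
    exact Finset.sum_le_sum_of_ne_zero fun z _ hz => mem_toFinset.2 (count_ne_zero.1 hz)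
  have h5 : ∀ x, 2 * R.count x ≤ R.card := fun x => by
    by_cases hx : x ∈ R
    · simpa [h3 x hx, h1, two_mul] using h4 {x, x⁻¹}
    · simp [count_eq_zero_of_notMem hx]
  by_cases hy' : y ∈ R
  · obtain ⟨a1, a2⟩ := hy.resolve_left (not_not.2 hy')
    by_cases hx : x ∈ R
    · have := h4 {x, x⁻¹, y, y⁻¹}
      rw [Finset.sum_insert (by simp [h3 x hx, a1, a2]), Finset.sum_insert (by
        simp [a1, inv_eq_iff_eq_inv, a2]), Finset.sum_pair (h3 y hy'), h1, h1] at this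
      omega
    · simpa [count_eq_zero_of_notMem hx] using h5 y
  · simpa [count_eq_zero_of_notMem hy'] using h5 x

variable {p f : ℕ} [hp : Fact p.Prime] [CharP k p]

theorem zas_orbM (hq : q = p ^ f) (ho : Odd q) (hN : Pm q d N) (h : α ^ N = 1) (h0 : α ≠ 0) (h1 : 1 + α ≠ 0) :
    ((orbM q d α).map (1 + ·)).prod ^ (q / 2) * α ^ (N / 2) = 1 := by
  obtain ⟨r, hr⟩ := ho
  have a1 : ∀ j, 1 + α ^ q ^ j = (1 + α) ^ q ^ j := fun j => by
    rw [hq, ← pow_mul, add_pow_char_pow, one_pow]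
  have a2 : ((orbM q d α).map (1 + ·)).prod * α ^ ∑ j ∈ Finset.range d, q ^ j =
      ((1 + α) ^ ∑ j ∈ Finset.range d, q ^ j) ^ 2 := by
    rw [orbM, map_add, prod_add, map_map, map_map, ← Finset.prod_pow_eq_pow_sum, ← Finset.prod_pow_eq_pow_sum, sq,
      mul_assoc, Finset.prod_eq_multiset_prod, Finset.prod_eq_multiset_prod, Finset.range_val, ← prod_map_mul]
    simp only [Function.comp_def, ← a1]
    simp only [add_mul, one_mul, inv_mul_cancel₀ (pow_ne_zero _ h0), add_comm]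
  have a3 : 2 * r * ∑ j ∈ Finset.range d, q ^ j + 1 = q ^ d := by
    rw [hr, mul_comm, geom_sum_mul_add]
  generalize ∑ j ∈ Finset.range d, q ^ j = s at a2 a3
  have a4 : ((orbM q d α).map (1 + ·)).prod ^ r * α ^ (r * s) * (1 + α) = 1 + α ^ q ^ d := by
    rw [a1, ← a3, mul_comm r s, pow_mul, ← mul_pow, a2]; ring
  rw [show q / 2 = r by omega]
  rcases pm_pow hN h with ⟨e, e'⟩ | ⟨e, e'⟩ <;> rw [e'] at a4
  · rw [show N / 2 = r * s by rw [mul_assoc] at a3; omega]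
    exact mul_right_cancel₀ h1 (by rw [a4, one_mul])
  · rw [show N / 2 = r * s + 1 by rw [mul_assoc] at a3; omega, pow_succ]
    refine mul_right_cancel₀ h1 ?_
    rw [← mul_assoc, mul_right_comm, a4]; field_simp; ring

/-- admissible semisimple data -/
def Adm (q d M : ℕ) : Prop := (d = 0 ∧ M = 1) ∨ (∃ N, Pm q d N ∧ M = N / 2 ∧ (d ≤ 3 ∨ d = 4 ∧ N = q ^ d + 1)) ∨
  ∃ d₁ d₂ N₁ N₂, Pm q d₁ N₁ ∧ Pm q d₂ N₂ ∧ d = d₁ + d₂ ∧ M = N₁.lcm N₂ ∧
    (d ≤ 3 ∨ d = 4 ∧ N₁ = q ^ d₁ + 1 ∧ N₂ + 1 = q ^ d₂)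

theorem half_dvd_lcm (ho : Odd q) : (q ^ 4 - 1) / 2 ∣ (q ^ 2 + 1).lcm (q ^ 2 - 1) := by
  have h1 := Nat.one_le_pow 2 q ho.pos
  have h2 : q ^ 4 - 1 = (q ^ 2 + 1) * (q ^ 2 - 1) := by
    rw [show q ^ 4 = (q ^ 2) ^ 2 by ring]; simpa using Nat.pow_two_sub_pow_two (q ^ 2) 1
  rw [Nat.div_dvd_iff_dvd_mul (Nat.Odd.sub_odd ho.pow odd_one).two_dvd two_pos, h2, ← Nat.gcd_mul_lcm]
  refine mul_dvd_mul_right ?_ _
  have := Nat.dvd_sub (Nat.gcd_dvd_left (q ^ 2 + 1) (q ^ 2 - 1)) (Nat.gcd_dvd_right _ _)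
  rwa [show q ^ 2 + 1 - (q ^ 2 - 1) = 2 by omega] at this

open Classical in
theorem comb9 (hq : q = p ^ f) (hf : 0 < f) (hp2 : p ≠ 2) (h : Stab q R) (h9 : R.card = 9) (h1 : R.prod = 1)
    (hZ : -1 ∉ R → (R.map fun x => 2 * (1 + x)).prod ^ (q / 2) = 1) : ∃ d M, Adm q d M ∧ (∀ x ∈ R, x ^ M = 1) ∧
      (∀ β ≠ -1, R.count β ≤ 9 - 2 * d) ∧
      (R.count (-1) ≤ 9 - 2 * d ∨ R.count (-1) = 10 - 2 * d ∧ R.count 1 < R.count (-1)) := by
  have hd : ∃ r, q = 2 * r + 1 ∧ 2 ∣ 2 := by simpa only [dl, if_neg hp2, ← hq] using dl_facts hp.out hf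
  have d1 : ∀ {d N}, Pm q d N → 2 ∣ N := fun hN => by
    simpa only [dl, if_neg hp2] using dl_dvd (p := p) (by simpa only [dl, if_neg hp2] using hd) hN
  have d2 : ∀ {N}, Pm q 1 N → N ∣ (q ^ 2 - 1) / 2 := fun hN => by
    simpa only [dl, if_neg hp2] using pm_one_dvd (p := p) (by simpa only [dl, if_neg hp2] using hd) hN
  have ho : Odd q := ⟨_, hd.choose_spec.1⟩
  have q0 := ho.pos
  have pP : ∀ d, 0 < d → Pm q d (q ^ d + 1) := fun d h => ⟨h, Or.inr rfl⟩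
  have pM : ∀ d, 0 < d → Pm q d (q ^ d - 1) := fun d h => ⟨h, Or.inl (Nat.sub_add_cancel (Nat.one_le_pow d q q0))⟩
  have pP1 : Pm q 1 (q + 1) := by simpa using pP 1 one_pos
  have pM1 : Pm q 1 (q - 1) := by simpa using pM 1 one_pos
  have eN : ∀ {d N}, Pm q d N → N = q ^ d + 1 ∨ N = q ^ d - 1 := fun h => h.2.symm.imp_right fun h => by omega
  have h2 : (2 : k) ≠ 0 := fun e => hp2 ((Nat.prime_dvd_prime_iff_eq hp.out Nat.prime_two).1
    ((CharP.cast_eq_zero_iff k p 2).1 e))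
  have h3 : (1 : k) ≠ -1 := fun e => h2 (by linear_combination e)
  obtain ⟨T, e, g, hT, t1, hR⟩ : ∃ T e g, Stab q T ∧ (∀ x ∈ T, x ^ 2 ≠ 1) ∧
      R = T + replicate e 1 + replicate g (-1) := by
    have key : ∀ φ : k → k, R.map φ = R → (∀ x, φ x ^ 2 = 1 ↔ x ^ 2 = 1) →
        (R.filter (· ^ 2 ≠ 1)).map φ = R.filter (· ^ 2 ≠ 1) := fun φ a1 a2 => by
      conv_rhs => rw [← a1, filter_map]
      simp only [Function.comp_def, ne_eq, a2]
    refine ⟨R.filter (· ^ 2 ≠ 1), R.count 1, R.count (-1), ⟨h.inj, fun x hx => h.ne x (mem_of_mem_filter hx),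
      key _ h.pow fun x => ?_, key _ h.inv (by simp)⟩, fun x hx => (mem_filter.1 hx).2, ext' fun x => ?_⟩
    · rw [pow_right_comm]; exact ⟨fun e => h.inj (by simpa using e), fun e => by rw [e, one_pow]⟩
    · simp only [count_add, count_filter, count_replicate, ne_eq, sq_eq_one_iff]
      by_cases a1 : x = 1
      · simp [a1, h3.symm]
      by_cases a2 : x = -1
      · simp [a2, h3]
      simp [a1, a2, eq_comm]
  have c1 : R.count 1 = e := by simp [hR, count_eq_zero_of_notMem fun h => t1 1 h (by simp), count_replicate, h3.symm]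
  have c2 : R.count (-1) = g := by
    simp [hR, count_eq_zero_of_notMem fun h => t1 (-1) h (by simp), count_replicate, h3]
  obtain ⟨t2, t3⟩ := hT.prod_one t1
  have t4 : g % 2 = 0 := by
    rw [hR, prod_add, prod_add, t2, prod_replicate, prod_replicate, one_pow, one_mul, one_mul,
      neg_one_pow_eq_one_iff_even h3.symm, Nat.even_iff] at h1
    exact h1
  have t5 : T.card + e + g = 9 := by simpa [hR] using h9
  suffices ∃ d M, Adm q d M ∧ (∀ x ∈ T, x ^ M = 1) ∧ (g = 0 ∨ 2 ∣ M) ∧ (∀ β, T.count β ≤ 9 - 2 * d) ∧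
      e ≤ 9 - 2 * d ∧ (g ≤ 9 - 2 * d ∨ g = 10 - 2 * d ∧ e < g) by
    obtain ⟨d, M, a1, a2, a3, a4, a5, a6⟩ := this
    refine ⟨d, M, a1, fun x hx => ?_, fun β hβ => ?_, by rwa [c1, c2]⟩
    · simp only [hR, mem_add, mem_replicate] at hx
      rcases hx with (hx | ⟨-, rfl⟩) | ⟨a7, rfl⟩
      exacts [a2 x hx, one_pow _, pw1 neg_one_sq (a3.resolve_left a7)]
    · by_cases a7 : β = 1
      · rwa [a7, c1]
      · simpa [hR, count_replicate, Ne.symm a7, hβ.symm] using a4 β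
  have Z : ∀ {α d N}, Pm q d N → α ^ N = 1 → T = orbM q d α → g = 0 → ∀ x ∈ T, x ^ (N / 2) = 1 := by
    rintro α d N a1 a2 rfl rfl x
    have a3 := t1 α (self_mem_orbM a1.1)
    have a4 := zas_orbM hq ho a1 a2 (hT.ne α (self_mem_orbM a1.1)) fun e => a3 (by
      rw [eq_neg_of_add_eq_zero_right e, neg_one_sq])
    have a5 : ((2 : k) * 2) ^ (q / 2) = 1 := by
      obtain ⟨r, hr⟩ := ho
      have : (1 + 1 : k) ^ q = 1 + 1 := by rw [hq, add_pow_char_pow, one_pow]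
      rw [one_add_one_eq_two, hr, pow_succ, mul_eq_right₀ h2] at this
      rw [show q / 2 = r by omega, ← sq, ← pow_mul, this]
    have := hZ (count_eq_zero.1 c2)
    rw [hR, replicate_zero, add_zero, Multiset.map_add, prod_add, prod_map_mul, map_const', map_replicate, prod_replicate,
      prod_replicate, card_orbM, pow_mul, sq, one_add_one_eq_two, mul_pow, mul_pow, pow_right_comm, a5,
      pow_right_comm _ e, a5, one_pow, one_pow, one_mul, mul_one] at this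
    rw [this, one_mul] at a4
    exact pow_of_mem_orbM a4
  have cT : ∀ {T : Multiset k}, Stab q T → (∀ x ∈ T, x ^ 2 ≠ 1) → ∀ β, 2 * T.count β ≤ T.card := fun a1 a2 β => by
    simpa [count_eq_zero_of_notMem fun h => a1.ne 0 h rfl] using a1.two_count a2 β (y := 0)
      (Or.inl fun h => a1.ne 0 h rfl)
  have A1 : ∀ {d N}, Pm q d N → d ≤ 3 → Adm q d (N / 2) := fun a1 a2 => Or.inr (Or.inl ⟨_, a1, rfl, Or.inl a2⟩)
  have A2 : ∀ {N N'}, Pm q 2 N → Pm q 1 N' → Adm q 3 (N.lcm N') := fun a1 a2 =>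
    Or.inr (Or.inr ⟨_, _, _, _, a1, a2, rfl, rfl, Or.inl le_rfl⟩)
  have A3 : ∀ d d', 0 < d → 0 < d' → d + d' = 4 → Adm q 4 ((q ^ d + 1).lcm (q ^ d' - 1)) := fun d d' a1 a2 a3 =>
    Or.inr (Or.inr ⟨_, _, _, _, pP d a1, pM d' a2, a3.symm, rfl, Or.inr ⟨rfl, rfl,
      Nat.sub_add_cancel (Nat.one_le_pow _ _ q0)⟩⟩)
  have L1 : ∀ {T : Multiset k} {α}, Stab q T → (∀ x ∈ T, x ^ 2 ≠ 1) → α ∈ T → ¬ (α ^ (q + 1) = 1 ∨ α ^ (q - 1) = 1) →
      ∃ d N T', 2 ≤ d ∧ Pm q d N ∧ α ^ N = 1 ∧ T = orbM q d α + T' ∧ (∀ β, (orbM q d α).count β ≤ 1) ∧ Stab q T' ∧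
        (∀ x ∈ T', x ^ 2 ≠ 1) ∧ T.card = 2 * d + T'.card ∧ T'.card % 2 = 0 ∧
        ∀ x ∈ orbM q d α, ¬ (x ^ (q + 1) = 1 ∨ x ^ (q - 1) = 1) := fun {T α} a1 a2 a3 a4 => by
    obtain ⟨d, N, T', b1, b2, b3, b4, b5, b6⟩ := a1.orb a3 (a2 α a3)
    have b7 : ∀ x ∈ T', x ^ 2 ≠ 1 := fun x hx => a2 x (b3 ▸ mem_add.2 (Or.inr hx))
    refine ⟨d, N, T', ?_, b1, b2, b3, nodup_iff_count_le_one.1 b4, b5, b7, by rw [b3, card_add, card_orbM],
      (b5.prod_one b7).2, fun x hx b8 => a4 (b8.imp (b6 x hx _) (b6 x hx _))⟩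
    by_contra b8
    obtain rfl : d = 1 := by have := b1.1; omega
    rcases eN b1 with rfl | rfl <;> simp_all
  by_cases hA : ∀ x ∈ T, x ^ (q + 1) = 1 ∨ x ^ (q - 1) = 1
  · by_cases a1 : e ≤ 5 ∧ g ≤ 6
    · exact ⟨2, _, A1 (pM 2 two_pos) (by omega), fun x hx => (hA x hx).elim (pw1 · (d2 pP1)) (pw1 · (d2 pM1)),
        Or.inr ((d1 pP1).trans (d2 pP1)), fun β => by have := cT hT t1 β; omega, by omega, by omega⟩
    rcases T.empty_or_exists_mem with rfl | ⟨α, hα⟩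
    · by_cases a2 : g = 0
      · exact ⟨0, 1, Or.inl ⟨rfl, rfl⟩, by simp, Or.inl a2, by simp, by omega, by omega⟩
      obtain ⟨N, a3, a4⟩ : ∃ N, Pm q 1 N ∧ 2 ∣ N / 2 := by
        obtain ⟨r, hr⟩ := ho
        rcases Nat.even_or_odd' r with ⟨s, rfl | rfl⟩
        exacts [⟨_, pM1, by omega⟩, ⟨_, pP1, by omega⟩]
      exact ⟨1, _, A1 a3 (by omega), by simp, Or.inr a4, by simp, by simp at t5; omega, by simp at t5; omega⟩
    obtain ⟨d, N, T', b1, b2, b3, -⟩ := hT.orb hα (t1 α hα)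
    have b4 : T.card = 2 * d + T'.card := by rw [b3, card_add, card_orbM]
    have b5 := b1.1
    obtain rfl : T' = 0 := card_eq_zero.1 (by omega)
    obtain rfl : d = 1 := by omega
    exact ⟨1, _, A1 b1 (by omega), Z b1 b2 (by simpa using b3) (by omega), Or.inl (by omega),
      fun β => by have := cT hT t1 β; omega, by omega, by omega⟩
  push Not at hA
  obtain ⟨α, hα, hA⟩ := hA
  obtain ⟨d, N, T', b0, b1, b2, b3, b4, b5, b6, b7, b8, b9⟩ := L1 hT t1 hα (not_or.2 hA)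
  have m1 : ∀ M, N ∣ M → (∀ x ∈ T', x ^ M = 1) → ∀ x ∈ T, x ^ M = 1 := fun M a1 a2 x hx =>
    (mem_add.1 (b3 ▸ hx)).elim (pow_of_mem_orbM (pw1 b2 a1)) (a2 x)
  have m2 : ∀ c, 1 ≤ c → (∀ β ∈ orbM q d α, β ∉ T') → (∀ β, T'.count β ≤ c) → ∀ β, T.count β ≤ c :=
    fun c a1 a2 a3 β => by
      rw [b3, count_add]
      by_cases a4 : β ∈ orbM q d α
      · rw [count_eq_zero_of_notMem (a2 β a4)]; exact (b4 β).trans a1
      · rw [count_eq_zero_of_notMem a4, zero_add]; exact a3 β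
  by_cases a0 : T' = 0 ∧ g = 0 ∧ (d ≤ 3 ∨ d = 4 ∧ N = q ^ d + 1)
  · obtain ⟨rfl, a1, a2⟩ := a0
    exact ⟨d, _, Or.inr (Or.inl ⟨_, b1, rfl, a2⟩), Z b1 b2 (by simpa using b3) a1, Or.inl a1,
      m2 _ (by omega) (by simp) (by simp), by simp at b7; omega, by omega⟩
  by_cases hB : ∀ x ∈ T', x ^ (q + 1) = 1 ∨ x ^ (q - 1) = 1
  · have m3 : ∀ β ∈ orbM q d α, β ∉ T' := fun β a1 a2 => b9 β a1 (hB β a2)
    have m4 := card_eq_zero (s := T')
    have m5 : d ≤ 3 → T'.card ≠ 0 ∨ g ≠ 0 := fun h => by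
      by_contra! a; exact a0 ⟨m4.1 a.1, a.2, Or.inl h⟩
    obtain rfl | rfl | rfl : d = 4 ∨ d = 3 ∨ d = 2 := by omega
    · obtain rfl : T' = 0 := m4.1 (by omega)
      obtain rfl := (eN b1).resolve_left fun h => a0 ⟨rfl, by omega, Or.inr ⟨rfl, h⟩⟩
      exact ⟨4, _, A3 2 2 two_pos two_pos rfl, fun x hx => pw1 (Z b1 b2 (by simpa using b3) (by omega) x hx)
        (half_dvd_lcm ho), Or.inl (by omega), m2 _ le_rfl m3 (by simp), by omega, by omega⟩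
    · obtain ⟨M, a1, a2, a3, a4⟩ : ∃ M, Adm q 4 M ∧ N ∣ M ∧ q + 1 ∣ M ∧ q - 1 ∣ M := by
        rcases eN b1 with rfl | rfl
        · exact ⟨_, A3 3 1 (by decide) one_pos rfl, Nat.dvd_lcm_left _ _, Dvd.dvd.trans (by
            simpa using Odd.nat_add_dvd_pow_add_pow q 1 (n := 3) (by decide)) (Nat.dvd_lcm_left _ _),
            by simpa using Nat.dvd_lcm_right _ _⟩
        · exact ⟨_, A3 1 3 one_pos (by decide) rfl, Nat.dvd_lcm_right _ _, by simpa using Nat.dvd_lcm_left _ _,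
            (Nat.sub_one_dvd_pow_sub_one q 3).trans (Nat.dvd_lcm_right _ _)⟩
      exact ⟨4, M, a1, m1 M a2 fun x hx => (hB x hx).elim (pw1 · a3) (pw1 · a4), Or.inr ((d1 b1).trans a2),
        m2 _ le_rfl m3 fun β => by have := cT b5 b6 β; omega, by omega, by omega⟩
    by_cases a1 : ∃ N', Pm q 1 N' ∧ ∀ x ∈ T', x ^ N' = 1
    · obtain ⟨N', a1, a2⟩ := a1
      exact ⟨3, _, A2 b1 a1, m1 _ (Nat.dvd_lcm_left _ _) fun x hx => pw1 (a2 x hx) (Nat.dvd_lcm_right _ _),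
        Or.inr ((d1 b1).trans (Nat.dvd_lcm_left _ _)), m2 _ (by omega) m3 fun β => by have := cT b5 b6 β; omega,
        by omega, by omega⟩
    push Not at a1
    obtain ⟨y, y1, y2⟩ := a1 _ pP1
    obtain ⟨z, z1, z2⟩ := a1 _ pM1
    have a2 : ∀ x w N, w ∈ T' → x ^ N = 1 → w ^ N ≠ 1 → 2 * T'.count x + 2 ≤ T'.card := fun x w N a1 a2 a3 => by
      have := b5.two_count b6 x (y := w) (Or.inr ⟨fun e => a3 (e ▸ a2), fun e => a3 (by simpa [e] using a2)⟩)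
      have := count_pos.2 a1
      omega
    have a3 := a2 z y _ y1 ((hB z z1).resolve_right z2) y2
    have a4 := count_pos.2 z1
    have a5 : q ^ 2 - 1 ∣ (q ^ 2 + 1).lcm (q ^ 2 - 1) := Nat.dvd_lcm_right _ _
    have a6 := (Nat.div_dvd_of_dvd (d1 (pM 2 two_pos))).trans a5
    refine ⟨4, _, A3 2 2 two_pos two_pos rfl, m1 _ ((eN b1).elim (· ▸ Nat.dvd_lcm_left _ _) (· ▸ a5)) fun x hx =>
      (hB x hx).elim (pw1 · ((d2 pP1).trans a6)) (pw1 · ((d2 pM1).trans a6)), Or.inl (by omega),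
      m2 _ le_rfl m3 fun β => ?_, by omega, by omega⟩
    by_cases a7 : β ∈ T'
    · rcases hB β a7 with a8 | a8
      · have := a2 β y _ y1 a8 y2; omega
      · have := a2 β z _ z1 a8 z2; omega
    · simp [count_eq_zero_of_notMem a7]
  push Not at hB
  obtain ⟨β, hβ, hB⟩ := hB
  obtain ⟨d', N', T'', e0, e1, e2, e3, e4, -, -, e7, -⟩ := L1 b5 b6 hβ (not_or.2 hB)
  obtain rfl : T'' = 0 := card_eq_zero.1 (by omega)
  obtain rfl : d = 2 := by omega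
  obtain rfl : d' = 2 := by omega
  rw [add_zero] at e3
  have e5 : ∀ x ∈ T', x ^ N' = 1 := fun x hx => pow_of_mem_orbM e2 (e3 ▸ hx)
  by_cases hN : N = N'
  · subst hN
    refine ⟨3, _, A2 b1 pP1, m1 _ (Nat.dvd_lcm_left _ _) fun x hx => pw1 (e5 x hx) (Nat.dvd_lcm_left _ _),
      Or.inl (by omega), fun x => ?_, by omega, by omega⟩
    have := b4 x
    have := e3 ▸ e4 x
    rw [b3, count_add]; omega
  have e6 : ∀ {N}, Pm q 2 N → N ∣ (q ^ 2 + 1).lcm (q ^ 2 - 1) := fun h =>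
    (eN h).elim (· ▸ Nat.dvd_lcm_left _ _) (· ▸ Nat.dvd_lcm_right _ _)
  refine ⟨4, _, A3 2 2 two_pos two_pos rfl, m1 _ (e6 b1) fun x hx => pw1 (e5 x hx) (e6 e1), Or.inl (by omega),
    m2 _ le_rfl (fun x a1 a2 => b6 x a2 ?_) (e3 ▸ e4), by omega, by omega⟩
  have c1 := pow_of_mem_orbM b2 a1
  have c2 := e5 x a2
  have c3 := b1.2
  have c4 := e1.2
  obtain c5 | c5 : N = N' + 2 ∨ N' = N + 2 := by omega
  · rwa [c5, pow_add, c2, one_mul] at c1
  · rwa [c5, pow_add, c1, one_mul] at c2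

end Cfsg.Agent.H13
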