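import Cfsg.Agent.H13.Zas
import Cfsg.Agent.H13.Orb9
import Cfsg.Agent.H13.AffR

/-! Tori in orthogonal groups; element orders in `Ω₉(q)` and `q⁸ : Ω₈⁻(q)`. -/

set_option autoImplicit false

namespace Cfsg.Agent.H13

open Module H28 QuadraticMap Polynomial

universe u

variable {F : Type u} {V : Type*} [Field F] [AddCommGroup V] [Module F V] [FiniteDimensional F V]
  {Q : QuadraticForm F V}

local notation "K" => AlgebraicClosure F
local notation "ι" => algebraMap F (AlgebraicClosure F)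

theorem gs_map {A B : Type*} [Ring A] [Ring B] (f : A →+* B) (a : A) (k : ℕ) : f (gs a k) = gs (f a) k := by
  simp [gs]

theorem gs_char_pow {A : Type*} [Ring A] (L : Type*) [Field L] [Algebra L A] {p : ℕ} [hp : Fact p.Prime] [CharP L p]
    (a : A) (j : ℕ) : gs a (p ^ j) = (a - 1) ^ (p ^ j - 1) := by
  have : (∑ i ∈ Finset.range (p ^ j), X ^ i : L[X]) = (X - 1) ^ (p ^ j - 1) :=
    mul_right_cancel₀ (X_sub_C_ne_zero 1) (by
      rw [C_1, geom_sum_mul, ← pow_succ, Nat.sub_add_cancel (Nat.one_le_pow _ _ hp.out.pos), sub_pow_char_pow, one_pow])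
  simpa [gs] using congrArg (aeval a) this

theorem det_sub_rts (a : End F V) (c : F) : ι (LinearMap.det (c • 1 - a)) = ((rts a).map (ι c - ·)).prod := by
  rw [← Algebra.algebraMap_eq_smul_one, ← LinearMap.eval_charpoly, rts, ← (IsAlgClosed.splits _).eval_eq_prod_roots_of_monic
    (a.charpoly_monic.map _), eval_map, eval₂_hom]

theorem det_add_rts (a : End F V) : ι (LinearMap.det (1 + a)) = ((rts a).map (1 + ·)).prod := by
  rw [show 1 + a = (-1 : F) • ((-1 : F) • 1 - a) by simp [add_comm], LinearMap.det_smul, map_mul, det_sub_rts,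
    ← card_rts a, map_pow, ← Multiset.prod_replicate, ← Multiset.map_const', ← Multiset.prod_map_mul]
  simp [add_comm]

variable [Fintype F]

theorem sgn_eq_of_pow (h2 : (2 : F) ≠ 0) {a : F} (ha : a ≠ 0) {δ : ℤˣ}
    (h : ι a ^ (Fintype.card F / 2) = ((δ : ℤ) : K)) : sgn a = δ := by
  have h3 : ringChar F ≠ 2 := fun e => h2 (by simpa [e] using ringChar.Nat.cast_ringChar (R := F))
  have h4 : (1 : K) ≠ -1 := fun e => h2 ((ι).injective (by rw [map_ofNat, map_zero]; linear_combination e))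
  rw [← map_pow] at h
  rcases Int.units_eq_one_or δ with rfl | rfl
  · exact sgn_eq_one_iff.2 ((FiniteField.isSquare_iff h3 ha).2 ((ι).injective (by simpa using h)))
  · exact sgn_eq_neg_one_iff.2 fun e => h4 (by simpa [(FiniteField.isSquare_iff h3 ha).1 e] using h)

theorem pow_eq_sgn (h2 : (2 : F) ≠ 0) {a : F} (ha : a ≠ 0) (h : sgn a = 1) : ι a ^ (Fintype.card F / 2) = 1 := by
  have h3 : ringChar F ≠ 2 := fun e => h2 (by simpa [e] using ringChar.Nat.cast_ringChar (R := F))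
  rw [← map_pow, (FiniteField.isSquare_iff h3 ha).1 (sgn_eq_one_iff.1 h), map_one]

theorem exists_tor (h2 : (2 : F) ≠ 0) {d N : ℕ} (hN : Pm (Fintype.card F) d N) :
    ∃ (W : Type u) (_ : AddCommGroup W) (_ : Module F W) (_ : FiniteDimensional F W) (Q : QuadraticForm F W)
      (t : OG Q), ND Q ∧ finrank F W = 2 * d ∧ (N = Fintype.card F ^ d + 1 → ty Q = -1) ∧
      (N + 1 = Fintype.card F ^ d → ty Q = 1) ∧ LinearMap.det (eo Q t) = 1 ∧ LinearMap.det (1 - eo Q t) ≠ 0 ∧
      disc Q * sgn (LinearMap.det (1 - eo Q t)) = -1 ∧ Dv N (eo Q t) := by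
  have ho := odd_card_of_two_ne_zero h2
  have h1 := Nat.one_lt_pow hN.1.ne' (Fintype.one_lt_card (α := F))
  have h3 := Nat.odd_iff.1 (ho.pow (n := d))
  have h4 := hN.2
  have s2 : sgn ((2 : F) ^ (2 * d)) = 1 := sgn_eq_one_iff.2 ⟨2 ^ d, by rw [← pow_add, two_mul]⟩
  by_cases h5 : N = 2
  · have a1 : finrank F (Fin d ⊕ Fin d → F) = 2 * d := by simp [two_mul]
    have a2 : eo _ (negOne (QPlus d F)) = (-1 : F) • 1 := LinearMap.ext fun x => (neg_one_smul F x).symm
    have a3 : LinearMap.det (1 - eo _ (negOne (QPlus d F))) = 2 ^ (2 * d) := by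
      rw [show 1 - eo _ (negOne (QPlus d F)) = (2 : F) • 1 from LinearMap.ext fun x =>
        (sub_neg_eq_add _ _).trans (two_smul F x).symm, LinearMap.det_smul, a1]; simp
    have : Nonempty (Fin d) := ⟨⟨0, hN.1⟩⟩
    refine ⟨_, _, _, inferInstance, QPlus d F, negOne _, nd_QPlus, a1, by omega, fun _ =>
      (isPlus_iff_ty (by simp)).1 (isPlus_QPlus d), by rw [a2, LinearMap.det_smul, a1]; simp,
      a3 ▸ pow_ne_zero _ h2, ?_, fun k hk => ?_⟩
    · rw [a3, s2, mul_one, disc_QPlus, sgn_neg_one_pow_eq_neg_one_iff ho]; omega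
    · rw [a2, _root_.smul_pow, one_pow, ← one_smul F (1 : End F _), smul_smul, mul_one] at hk
      exact h5 ▸ ((neg_one_pow_eq_one_iff_even fun e => h2 (by linear_combination -e)).1
        (smul_left_injective F one_ne_zero hk)).two_dvd
  obtain ⟨p, _⟩ := CharP.exists F
  obtain ⟨f, hp, hq⟩ := FiniteField.card F p
  have := Fact.mk hp
  have hN0 : (N : F) ≠ 0 := fun e => hN.not_dvd hp (hq ▸ dvd_pow_self p f.ne_zero) ((CharP.cast_eq_zero_iff F p N).1 e)
  obtain ⟨α, hα⟩ := H12.exists_primitiveRoot_closure hN0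
  have a0 : α ≠ 0 := hα.ne_zero (by omega)
  have a1 : α ^ 2 ≠ 1 := fun e => by have := Nat.le_of_dvd two_pos (hα.dvd_of_pow_eq_one _ e); omega
  have a2 : ∀ x ∈ orbM (Fintype.card F) d α, x ^ 2 ≠ 1 := fun x hx e => a1 (by
    obtain ⟨j, h⟩ := mem_orbM hx
    have : (α ^ 2) ^ Fintype.card F ^ j = 1 := by
      rcases h with rfl | rfl <;> rw [pow_right_comm] <;> simpa using e
    rw [hq, ← pow_mul p, ← sub_eq_zero, ← one_pow (p ^ _), ← sub_pow_char_pow] at this
    exact sub_eq_zero.1 (pow_eq_zero_iff (pow_ne_zero _ hp.ne_zero) |>.1 this))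
  have a3 : α ^ (N / 2) = -1 := (mul_self_eq_one_iff.1 (by
    rw [← pow_add, show N / 2 + N / 2 = N by omega, hα.pow_eq_one])).resolve_left
      (hα.pow_ne_one_of_pos_of_lt (by omega) (by omega))
  obtain ⟨B, a, D, b1, -, b2⟩ := exists_sd_rts (σ := RingHom.id F) (fun _ => rfl) (RingHom.id K) (fun _ => rfl)
    (map_pow_orbM hN hα.pow_eq_one) map_inv_orbM hN0 (fun x => pow_of_mem_orbM hα.pow_eq_one) (Or.inr a2)
  obtain ⟨Q, hQ, b3⟩ := exists_quad D b1 (inj_sq_of_rts (by rw [b2]; exact a2))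
  let t : OG Q := ⟨.ofInjectiveEndo a (hQ.inj b3), b3⟩
  have b4 : finrank F (Fin (orbM (Fintype.card F) d α).card → F) = 2 * d := by simp [card_orbM]
  have z1 := zas_orbM hq ho hN hα.pow_eq_one a0 fun e => a1 (by rw [eq_neg_of_add_eq_zero_right e, neg_one_sq])
  have z2 := zas_orbM (α := -α) hq ho hN (by rw [Even.neg_pow (Nat.even_iff.2 (by omega)), hα.pow_eq_one])
    (neg_ne_zero.2 a0) fun e => a1 (by rw [neg_inj.1 (eq_neg_of_add_eq_zero_right e), one_pow])
  have b5 : ((orbM (Fintype.card F) d (-α)).map (1 + ·)).prod = ι (LinearMap.det (1 - eo Q t)) := by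
    rw [← one_smul F (1 : End F _), det_sub_rts, ← map_neg_orbM ho, Multiset.map_map, show eo Q t = a from rfl, b2]
    simp [sub_eq_add_neg]
  rw [← b2, ← det_add_rts, a3] at z1
  change ι (LinearMap.det (1 + eo Q t)) ^ _ * _ = _ at z1
  rw [b5, neg_pow α, a3] at z2
  have q2 : Fintype.card F / 2 ≠ 0 := by have := Fintype.one_lt_card (α := F); omega
  have b6 : LinearMap.det (1 + eo Q t) ≠ 0 := fun e => by simp [e, q2] at z1
  have b7 : LinearMap.det (1 - eo Q t) ≠ 0 := fun e => by simp [e, q2] at z2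
  have b8 := (hQ.spinor_eq h2 b7).symm.trans (hQ.spinor_eq' h2 (g := t) b6)
  rw [b4, sgn_mul (pow_ne_zero _ h2) b6, s2, one_mul, sgn_eq_of_pow h2 b6 (δ := -1) (by
    push_cast; linear_combination -z1)] at b8
  have b9 : ty Q = (-1) ^ (N / 2) * sgn (-1 : F) ^ d := by
    rw [sgn_eq_of_pow h2 b7 (δ := -(-1) ^ (N / 2)) (by
      rcases neg_one_pow_eq_or K (N / 2) with e | e <;> push_cast <;> rw [e] at z2 ⊢ <;>
        first | linear_combination -z2 | linear_combination z2), mul_neg, neg_inj] at b8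
    rw [hQ.ty_eq h2, b4, eq_inv_of_mul_eq_one_left b8, ← inv_pow, show 2 * d / 2 = d by omega]; rfl
  have c1 := sgn_neg_one_pow_eq_one_iff ho d
  have c2 := sgn_neg_one_pow_eq_neg_one_iff ho d
  refine ⟨_, _, _, inferInstance, Q, t, hQ, b4, fun e => ?_, fun e => ?_, (ι).injective (by
    rw [← prod_rts, show eo Q t = a from rfl, b2, prod_orbM a0, map_one]), b7, b8, fun k hk => hα.dvd_of_pow_eq_one _
      (by simpa using pow_eq_of_mem_rts (a := a) (by rw [b2]; exact self_mem_orbM hN.1) (c := 1) (by rw [one_smul]; exact hk))⟩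
  all_goals
    obtain c3 | c3 : Fintype.card F ^ d % 4 = 1 ∨ Fintype.card F ^ d % 4 = 3 := by omega
  · rw [b9, c1.2 c3, Odd.neg_one_pow (Nat.odd_iff.2 (by omega)), mul_one]
  · rw [b9, c2.2 c3, Even.neg_one_pow (Nat.even_iff.2 (by omega)), one_mul]
  · rw [b9, c1.2 c3, Even.neg_one_pow (Nat.even_iff.2 (by omega)), one_mul]
  · rw [b9, c2.2 c3, Odd.neg_one_pow (Nat.odd_iff.2 (by omega))]; rfl

theorem Adm.exists (h2 : (2 : F) ≠ 0) {d M : ℕ} (h : Adm (Fintype.card F) d M) :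
    ∃ (W : Type u) (_ : AddCommGroup W) (_ : Module F W) (_ : FiniteDimensional F W) (Q : QuadraticForm F W),
      ND Q ∧ finrank F W = 2 * d ∧ (d = 4 → ty Q = -1) ∧ ∃ s ∈ Om Q, Dv M (eo Q s) := by
  rcases h with ⟨rfl, rfl⟩ | ⟨N, h1, rfl, h3⟩ | ⟨d₁, d₂, N₁, N₂, h1, h1', rfl, rfl, h3⟩
  · exact ⟨_, _, _, inferInstance, QPlus 0 F, nd_QPlus, by simp, by simp, 1, one_mem _, fun _ _ => one_dvd _⟩
  · obtain ⟨W, _, _, _, Q, t, a1, a2, a3, -, -, -, -, a4⟩ := exists_tor h2 h1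
    refine ⟨W, _, _, inferInstance, Q, a1, a2, fun e => a3 (h3.resolve_left (by omega)).2, t ^ 2,
      (a1.mem_commutator_iff (good_of_two_ne_zero h2) _).2 (by simp), fun k hk => ?_⟩
    have := a4 (2 * k) (by rw [pow_mul, ← map_pow, hk])
    by_cases h4 : 2 ∣ N
    · exact (Nat.div_dvd_iff_dvd_mul h4 two_pos).2 this
    · have := Nat.odd_iff.1 ((odd_card_of_two_ne_zero h2).pow (n := d))
      have := h1.2; omega
  obtain ⟨W, _, _, _, Q, t, a1, a2, a3, -, a4, a5, a6, a7⟩ := exists_tor h2 h1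
  obtain ⟨W', _, _, _, Q', t', b1, b2, -, b3, b4, b5, b6, b7⟩ := exists_tor h2 h1'
  have c1 : eo _ (prodOG Q Q' (t, t')) = (eo Q t).prodMap (eo Q' t') := rfl
  have c2 : LinearMap.det (1 - eo _ (prodOG Q Q' (t, t'))) =
      LinearMap.det (1 - eo Q t) * LinearMap.det (1 - eo Q' t') := by
    rw [← LinearMap.det_prodMap]; rfl
  refine ⟨W × W', _, _, inferInstance, Q.prod Q', a1.prod b1, by simp [a2, b2, mul_add], fun e => ?_,
    prodOG Q Q' (t, t'), ((a1.prod b1).mem_commutator_iff (good_of_two_ne_zero h2) _).2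
      ⟨(det_eq_one_iff _ _ h2 _).1 ((congrArg _ c1).trans (by rw [LinearMap.det_prodMap, a4, b4, mul_one])), ?_⟩,
    fun k hk => ?_⟩
  · obtain ⟨-, c3, c4⟩ := h3.resolve_left (by omega)
    rw [a1.ty_prod b1, kap_of_even (Or.inl ⟨d₁, by omega⟩), a3 c3, b3 c4]; rfl
  · rw [(a1.prod b1).spinor_eq h2 (c2 ▸ mul_ne_zero a5 b5), c2, sgn_mul a5 b5, a1.disc_prod b1,
      mul_mul_mul_comm, a6, b6]; rfl
  · rw [c1, prodMap_pow, ← one_smul F (1 : End F _)] at hk
    exact Nat.lcm_dvd (a7 k (by simpa using (prodMap_eq_smul hk).1)) (b7 k (by simpa using (prodMap_eq_smul hk).2))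

theorem Adm.le {q d M : ℕ} (h : Adm q d M) : d ≤ 4 := by
  rcases h with ⟨rfl, -⟩ | ⟨N, -, -, h⟩ | ⟨_, _, _, _, -, -, -, -, h⟩ <;> omega

theorem Adm.coprime {q d M p : ℕ} (h : Adm q d M) (hp : p.Prime) (hq : p ∣ q) (ho : Odd q) (j : ℕ) :
    (p ^ j).Coprime M := by
  refine Nat.Coprime.pow_left _ ((hp.coprime_iff_not_dvd).2 ?_)
  rcases h with ⟨-, rfl⟩ | ⟨N, h1, rfl, -⟩ | ⟨_, _, _, _, h1, h2, -, rfl, -⟩
  · exact hp.not_dvd_one
  · refine fun e => h1.not_dvd hp hq (e.trans (Nat.div_dvd_of_dvd ?_))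
    have := Nat.odd_iff.1 (ho.pow (n := d))
    have := h1.2; omega
  · exact fun e => ((hp.dvd_mul).1 (e.trans (Nat.lcm_dvd_mul _ _))).elim (h1.not_dvd hp hq) (h2.not_dvd hp hq)

omit [Fintype F] in
open Classical in
theorem ND.block_lt (hQ : ND Q) (h2 : (2 : F) ≠ 0) (g : OG Q) {y : PP F} (hy : y ∈ ed (eo Q g))
    (h : aeval (-1 : K) y.f = 0) (he : Even y.k) (h1 : (rts (eo Q g)).count 1 < y.k) :
    y.k < (rts (eo Q g)).count (-1) := by
  have a0 : y.f = X - C (-1) := eq_of_monic_of_associated y.monic (monic_X_sub_C _)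
    ((irreducible_X_sub_C _).associated_of_dvd y.irred (dvd_iff_isRoot.2 ((ι).injective (by
      rw [← aeval_algebraMap_apply_eq_algebraMap_eval]; simpa using h)))).symm
  have par : ∀ j, Odd j → (finrank F (LinearMap.ker (aeval (eo Q g) ((X - C (1 : F)) ^ j))) +
      finrank F (LinearMap.ker (aeval (eo Q g) ((X - C (-1 : F)) ^ j))) + finrank F V) % 2 = 0 := fun j hj => by
    set a := eo Q g
    set b := eo Q g⁻¹
    have h3 : b * a = 1 := LinearMap.ext (OG_inv_apply_apply g)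
    have h4 : a * b = 1 := LinearMap.ext (OG_apply_inv g)
    have h5 : ∀ k x y, polar Q (((a - b) ^ k) x) y = (-1) ^ k * polar Q x (((a - b) ^ k) y) := fun k => by
      induction k with
      | zero => simp
      | succ k ih =>
        intro x y
        rw [pow_succ, End.mul_apply, ih, ← pow_succ, pow_succ' (a - b), End.mul_apply, LinearMap.sub_apply,
          LinearMap.sub_apply, polar_sub_left, polar_sub_right, pow_succ]
        have e1 : polar Q (a x) _ = polar Q x (b _) := OG_polar_left g x (((a - b) ^ k) y)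
        have e2 : polar Q x (a _) = polar Q (b x) _ := OG_polar_right g x (((a - b) ^ k) y)
        rw [e1, e2]; ring
    have h6 := hQ.even_rank (T := (a - b) ^ j) fun x => by
      have := h5 j x x
      rw [hj.neg_one_pow, polar_comm, neg_one_mul, eq_neg_iff_add_eq_zero, ← two_mul] at this
      exact (mul_eq_zero.1 this).resolve_left h2
    have h8 : a - b = aeval a ((X - C (1 : F)) * (X - C (-1))) * b := by simp; noncomm_ring [h4, h3]
    have h9 : IsCoprime ((X - C (1 : F)) ^ j) ((X - C (-1)) ^ j) := (isCoprime_X_sub_C_of_isUnit_sub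
      (IsUnit.mk0 _ (by rwa [sub_neg_eq_add, one_add_one_eq_two]))).pow
    rw [h8, Commute.mul_pow (by
      have hc : Commute a b := h4.trans h3.symm
      simpa using (hc.sub_left (.one_left b)).mul_left (hc.add_left (.one_left b))), End.mul_eq_comp,
      LinearMap.range_comp_of_range_eq_top _ (LinearMap.range_eq_top.2
        ((End.isUnit_iff _).1 ((IsUnit.of_mul_eq_one _ h3).pow j)).2), Nat.even_iff, ← map_pow, mul_pow] at h6
    have e1 := LinearMap.finrank_range_add_finrank_ker (aeval a ((X - C (1 : F)) ^ j * (X - C (-1)) ^ j))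
    have e2 := Submodule.finrank_sup_add_finrank_inf_eq (LinearMap.ker (aeval a ((X - C (1 : F)) ^ j)))
      (LinearMap.ker (aeval a ((X - C (-1 : F)) ^ j)))
    rw [sup_ker_aeval_eq_ker_aeval_mul_of_coprime _ h9, (disjoint_ker_aeval_of_isCoprime _ h9).eq_bot,
      finrank_bot] at e2
    omega
  obtain ⟨m, hm⟩ := he
  have := y.pos
  have p1 := par (y.k - 1) ⟨m - 1, by omega⟩
  have p2 := par (y.k + 1) ⟨m, by omega⟩
  have a1 : finrank F (LinearMap.ker (aeval (eo Q g) ((X - C (-1 : F)) ^ (y.k + 1)))) ≤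
      (rts (eo Q g)).count (-1) := by
    rw [rts, count_roots, show (-1 : K) = ι (-1) by simp, ← eq_rootMultiplicity_map (ι).injective]
    refine le_of_eq_of_le ?_ ((eo Q g).finrank_genEigenspace_le (-1) (y.k + 1 : ℕ))
    rw [End.genEigenspace_nat, map_pow, map_sub, aeval_X, aeval_C, Algebra.algebraMap_eq_smul_one]
  simp only [finrank_ker_aeval_pow _ (monic_X_sub_C _) (irreducible_X_sub_C _), natDegree_X_sub_C, mul_one] at p1 p2 a1
  rw [Multiset.map_congr rfl (g := fun x => if x.f = X - C 1 then min (y.k + 1) x.k else 0) fun x hx => by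
    split_ifs with e
    · have := le_count_rts hx (α := 1) (by simp [e])
      omega
    · rfl] at p1
  have a2 := Multiset.le_sum_of_mem (Multiset.mem_map_of_mem
    (fun x : PP F => if x.f = X - C (-1) then min (y.k - 1) x.k else 0) hy)
  have a3 := Multiset.sum_lt_sum (s := ed (eo Q g)) (f := fun x => if x.f = X - C (-1) then min (y.k - 1) x.k else 0)
    (g := fun x => if x.f = X - C (-1) then min (y.k + 1) x.k else 0) (fun x _ => by split_ifs <;> omega)
    ⟨y, hy, by rw [if_pos a0, if_pos a0]; omega⟩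
  rw [if_pos a0] at a2
  omega

variable {p : ℕ} [hp : Fact p.Prime] [CharP F p]

theorem ND.up9 (hQ : ND Q) (h2 : (2 : F) ≠ 0) {g : OG Q} (hg : g ∈ Om Q) {e : ℕ} (he : finrank F V + e = 9) :
    ∃ d M, Adm (Fintype.card F) d M ∧ eo Q g ^ (p ^ Nat.clog p (9 - 2 * d) * M) = 1 ∧
      (0 < e → gs (eo Q g) (p ^ Nat.clog p (9 - 2 * d) * M) = 0) := by
  classical
  obtain ⟨f, -, hq⟩ := FiniteField.card F p
  have hp2 : p ≠ 2 := by rintro rfl; exact h2 (CharP.cast_eq_zero F 2)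
  have h1 := stab_eo hQ g
  obtain ⟨h3, h4⟩ := (hQ.mem_commutator_iff (good_of_two_ne_zero h2) g).1 hg
  have h5 : (1 : K) ≠ -1 := fun e => h2 ((ι).injective (by rw [map_ofNat, map_zero]; linear_combination e))
  obtain ⟨d, M, a1, a2, a3, a4⟩ := comb9 (R := rts (eo Q g) + .replicate e 1) hq f.pos hp2
    ⟨h1.inj, fun x hx => (Multiset.mem_add.1 hx).elim (h1.ne x) fun h => by simp [Multiset.eq_of_mem_replicate h],
      by simp [h1.pow], by simp [h1.inv]⟩ (by simp [card_rts, he])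
    (by simp [prod_rts, show LinearMap.det (eo Q g) = 1 from (det_eq_one_iff _ _ h2 g).2 h3]) fun h => by
      have b1 : LinearMap.det (1 + eo Q g) ≠ 0 := fun e => by
        have := det_add_rts (eo Q g)
        rw [e, map_zero, eq_comm, Multiset.prod_eq_zero_iff, Multiset.mem_map] at this
        obtain ⟨x, hx, e⟩ := this
        exact h (Multiset.mem_add.2 (Or.inl (eq_neg_of_add_eq_zero_right e ▸ hx)))
      have b2 := pow_eq_sgn h2 (mul_ne_zero (pow_ne_zero _ h2) b1) ((hQ.spinor_eq' h2 b1).symm.trans h4)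
      have b3 := pow_eq_sgn h2 (mul_ne_zero h2 h2) (sgn_eq_one_iff.2 ⟨2, rfl⟩)
      rw [map_mul, map_pow, det_add_rts, map_ofNat] at b2
      rw [map_mul, map_ofNat] at b3
      rw [Multiset.map_add, Multiset.prod_add, Multiset.prod_map_mul, Multiset.map_const', Multiset.prod_replicate,
        card_rts, mul_pow, b2, Multiset.map_replicate, Multiset.prod_replicate, one_add_one_eq_two, pow_right_comm, b3,
        one_pow, one_mul]
  simp only [Multiset.count_add, Multiset.count_replicate, h5, if_false, if_true, add_zero] at a3 a4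
  have a5 := Nat.le_pow_clog hp.out.one_lt (9 - 2 * d)
  have a6 : eo Q g ^ (p ^ Nat.clog p (9 - 2 * d) * M) = 1 := by
    rw [mul_comm, pow_eq_smul_of_rts (c := 1) (fun y hy => ?_) fun x hx => by
      rw [a2 x (Multiset.mem_add.2 (Or.inl hx)), map_one], one_pow, one_smul]
    obtain ⟨β, hβ, -⟩ := exists_root' y
    have b1 := le_count_rts hy hβ
    by_cases b2 : β = -1
    · subst b2
      by_contra b3
      have := a1.le
      have := hQ.block_lt h2 g hy hβ (Nat.even_iff.2 (by omega)) (by omega)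
      omega
    · have := a3 β b2; omega
  refine ⟨d, M, a1, a6, fun he0 => ?_⟩
  have a7 : ∀ m, aeval (eo Q g) (gs (X : F[X]) m) = gs (eo Q g) m := fun m => by simp [gs]
  rw [← a7, aeval_eq_zero_iff_ed]
  intro y hy
  by_cases b1 : y.f = X - 1
  · have := le_count_rts hy (α := 1) (by simp [b1])
    have := a3 1 h5
    rw [gs_mul, gs_char_pow F, PP.poly, b1]
    exact (pow_dvd_pow _ (by simp at this; omega)).mul_left _
  · refine (show IsCoprime y.poly (X - 1) from IsCoprime.pow_left ((y.irred.coprime_iff_not_dvd).2 fun h => b1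
      (eq_of_monic_of_associated y.monic monic_X_sub_one (y.irred.associated_of_dvd irreducible_X_sub_one h))
        )).dvd_of_dvd_mul_right ?_
    rw [gs, geom_sum_mul]
    exact (aeval_eq_zero_iff_ed _ _).1 (by simp [a6]) y hy

omit [Fintype F] in
theorem unip_core {u : End F V} (hu : IsNilpotent (u - 1)) :
    (∃ j, u ^ p ^ j = 1) ∧ ∀ n ∈ jt u, ∀ k, (u ^ k = 1 → p ^ Nat.clog p n ∣ k) ∧
      (gs u k = 0 → p ^ Nat.clog p (n + 1) ∣ k) := by
  have h1 : ∀ j, u ^ p ^ j - 1 = (u - 1) ^ p ^ j := fun j => by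
    rw [← geom_sum_mul, ← gs, gs_char_pow F, ← pow_succ, Nat.sub_add_cancel (Nat.one_le_pow _ _ hp.out.pos)]
  obtain ⟨N, hN⟩ := id hu
  have h2 : u ^ p ^ N = 1 := by
    rw [← sub_eq_zero, h1, pow_eq_zero_of_le (Nat.lt_pow_self hp.out.one_lt).le hN]
  refine ⟨⟨N, h2⟩, fun n hn k => ?_⟩
  rcases eq_or_ne k 0 with rfl | hk
  · simp
  obtain ⟨j, k, h3, rfl⟩ := Nat.exists_eq_pow_mul_and_not_dvd hk p hp.out.ne_one
  have h4 : u ^ (p ^ j * k) = 1 → u ^ p ^ j = 1 := fun h => orderOf_dvd_iff_pow_eq_one.1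
    ((((hp.out.coprime_iff_not_dvd.2 h3).pow_left N).coprime_dvd_left
      (orderOf_dvd_of_pow_eq_one h2)).dvd_of_dvd_mul_right (orderOf_dvd_of_pow_eq_one h))
  have h5 : ∀ n, n ≤ p ^ j → p ^ Nat.clog p n ∣ p ^ j * k := fun n h =>
    (pow_dvd_pow _ ((Nat.clog_le_iff_le_pow hp.out.one_lt).2 h)).mul_right _
  refine ⟨fun h => h5 _ ((pow_eq_zero_iff_jt hu _).1 (by rw [← h1, h4 h, sub_self]) n hn), fun h => h5 _ ?_⟩
  have h6 := h4 (pow_of_gs h)
  rw [gs_mul, h6, gs_fix (one_mul _), gs_char_pow F] at h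
  have := (pow_eq_zero_iff_jt hu _).1 (by_contra fun e => h3 (dvd_of_nsmul F e h)) n hn
  have := Nat.one_le_pow j _ hp.out.pos
  omega

theorem Adm.lo_odd (h2 : (2 : F) ≠ 0) {d M : ℕ} (h : Adm (Fintype.card F) d M) (m : ℕ) :
    ∃ x : Om (QOdd (d + m) F), ∀ k, x ^ k = 1 → p ^ Nat.clog p (2 * m + 1) * M ∣ k := by
  obtain ⟨W, _, _, _, Q, a1, a2, -, s, a3, a4⟩ := h.exists h2
  obtain ⟨f, hf⟩ := H28.exists_emb a1 h2 a2 m
  obtain ⟨u, b1, b2⟩ := (nd_QOdd (m := m) h2).exists_jo h2 (μ := {2 * m + 1}) (by simp) (fun e he => by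
    rw [Multiset.count_singleton, if_neg (by rintro rfl; simp [parity_simps] at he)]; simp)
    (by simp; ring) (Or.inl ⟨_, Multiset.mem_singleton_self _, by simp⟩)
  obtain ⟨⟨j, b3⟩, b4⟩ := unip_core (p := p) b1
  obtain ⟨n, -, hq⟩ := FiniteField.card F p
  have ho := odd_card_of_two_ne_zero h2
  refine ⟨f (⟨s, a3⟩, ⟨u, (nd_QOdd h2).mem_Om_of_odd (good_of_two_ne_zero h2) (k := p ^ j) (Odd.pow (Odd.of_dvd_nat ho
    (hq ▸ dvd_pow_self p n.ne_zero))) (eo_injective ((map_pow _ _ _).trans b3))⟩), fun k hk => ?_⟩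
  rw [← map_pow, map_eq_one_iff f hf, Prod.pow_mk, Prod.mk_eq_one] at hk
  exact (h.coprime hp.out (hq ▸ dvd_pow_self p n.ne_zero) ho _).mul_dvd_of_dvd_of_dvd
    ((b4 _ (by rw [show jt _ = _ from b2]; simp) k).1 ((map_pow (eo _) u k).symm.trans
      ((congrArg (eo _) (show u ^ k = 1 from congrArg Subtype.val hk.2)).trans (map_one _))))
    (a4 k ((map_pow (eo _) s k).symm.trans ((congrArg (eo _) (show s ^ k = 1 from congrArg Subtype.val hk.1)).trans (map_one _))))

omit [Fintype F] [FiniteDimensional F V] in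
theorem gs_conj {W W' : Type*} [AddCommGroup W] [Module F W] [AddCommGroup W'] [Module F W'] {S : QuadraticForm F W}
    {R : QuadraticForm F W'} (e : (W × W') ≃ₗ[F] V) (he : ∀ v, Q (e v) = S.prod R v) {s : OG S} {u : OG R} {k : ℕ}
    (hk : gs (eo Q ((SemiSim.ofIsometry e he).conj (prodOG S R (s, u)))) k = 0) : gs (eo S s, eo R u) k = 0 := by
  have c0 : eo Q ((SemiSim.ofIsometry e he).conj (prodOG S R (s, u))) =
      e.conjRingEquiv.toRingHom (LinearMap.prodMapRingHom F W W' (eo S s, eo R u)) :=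
    LinearMap.ext fun v => SemiSim.conj_apply _ _ v
  rw [c0, ← gs_map, ← gs_map] at hk
  have := (prodMap_eq_smul (c := (0 : F)) ((map_eq_zero_iff _ e.conjRingEquiv.injective).1 hk |>.trans
    (zero_smul _ _).symm))
  exact Prod.ext (by simpa using this.1) (by simpa using this.2)

theorem ND.exists_unip (hR : ND Q) (h2 : (2 : F) ≠ 0) {d : ℕ} (hd : d ≤ 4) (hV : finrank F V = 8 - 2 * d) :
    ∃ u ∈ Om Q, ∀ k, gs (eo Q u) k = 0 → p ^ Nat.clog p (9 - 2 * d) ∣ k := by
  obtain ⟨n, -, hq⟩ := FiniteField.card F p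
  have hpo : Odd p := Odd.of_dvd_nat (odd_card_of_two_ne_zero h2) (hq ▸ dvd_pow_self p n.ne_zero)
  by_cases h4 : d = 4
  · exact ⟨1, one_mem _, by simp [h4]⟩
  obtain ⟨u, b1, b2⟩ := hR.exists_jo h2 (μ := {7 - 2 * d, 1}) (by simp; omega) (fun e he => by
    rw [Multiset.count_eq_zero_of_notMem (by rw [Nat.even_iff] at he; simp; omega)]; simp)
    (by simp; omega) (Or.inl ⟨1, by simp, odd_one⟩)
  obtain ⟨⟨j, b3⟩, b4⟩ := unip_core (p := p) b1
  refine ⟨u, hR.mem_Om_of_odd (good_of_two_ne_zero h2) (k := p ^ j) hpo.pow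
    (eo_injective ((map_pow _ _ _).trans b3)), fun k hk => Dvd.dvd.trans (pow_dvd_pow _ ?_)
      ((b4 (7 - 2 * d) (by rw [show jt _ = _ from b2]; simp) k).2 hk)⟩
  have := Nat.le_pow_clog hp.out.one_lt (7 - 2 * d + 1)
  have := Nat.odd_iff.1 (hpo.pow (n := Nat.clog p (7 - 2 * d + 1)))
  exact (Nat.clog_le_iff_le_pow hp.out.one_lt).2 (by omega)

theorem Adm.lo_aff (hQ : ND Q) (h2 : (2 : F) ≠ 0) (hV : finrank F V = 8) (ht : ty Q = -1) {d M : ℕ}
    (h : Adm (Fintype.card F) d M) :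
    ∃ g ∈ Om Q, ∀ k, gs (eo Q g) k = 0 → p ^ Nat.clog p (9 - 2 * d) * M ∣ k := by
  obtain ⟨W, _, _, _, S, a1, a2, a0, s, a3, a4⟩ := h.exists h2
  have hd := h.le
  obtain ⟨R, hR, b0⟩ := exists_ty (V := Fin (8 - 2 * d) → F) (Or.inr h2) (δ := -ty S) fun e => by
    rw [a0 (by simp at e; omega), neg_neg]
  obtain ⟨e, he⟩ := (a1.prod hR).iso_of_ty hQ (by simp [a2, hV]; omega) (by
    rw [a1.ty_prod hR, kap_of_even (Or.inl ⟨d, by omega⟩), b0, ht, one_mul, mul_neg, Int.units_mul_self])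
  obtain ⟨n, -, hq⟩ := FiniteField.card F p
  obtain ⟨u, b1, b2⟩ := hR.exists_unip (p := p) h2 hd (by simp)
  refine ⟨(SemiSim.ofIsometry e he).conj (prodOG S R (s, u)), (mem_commutator_equiv _ _).2 ?_, fun k hk => ?_⟩
  · rw [← Prod.fst_mul_snd (s, u), map_mul]
    exact mul_mem (map_mem_commutator ((prodOG S R).comp (MonoidHom.inl _ _)) a3)
      (map_mem_commutator ((prodOG S R).comp (MonoidHom.inr _ _)) b1)
  have c1 := gs_conj e he hk
  have c2 : gs (eo R u) k = 0 := (gs_map (RingHom.snd _ _) (eo S s, eo R u) k).symm.trans (congrArg Prod.snd c1)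
  have c3 : gs (eo S s) k = 0 := (gs_map (RingHom.fst _ _) (eo S s, eo R u) k).symm.trans (congrArg Prod.fst c1)
  exact (h.coprime hp.out (hq ▸ dvd_pow_self p n.ne_zero) (odd_card_of_two_ne_zero h2) _).mul_dvd_of_dvd_of_dvd
    (b2 k c2) (a4 k (pow_of_gs c3))

omit [Fintype F] [FiniteDimensional F V] in
theorem spec_aff (p : ℕ) [Fact p.Prime] [CharP F p] {G : Type*} [Group G] (ρ : G →* End F V) (hρ : Function.Injective ρ)
    (φ : G →* MulAut (Multiplicative V)) (hφ : ∀ g v, (φ g v).toAdd = ρ g v.toAdd) :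
    (∀ (x : Multiplicative V ⋊[φ] G) m, gs (ρ x.right) m = 0 → x ^ m = 1) ∧
      ∀ g m, (∀ k, gs (ρ g) k = 0 → m ∣ k) → ∃ x : Multiplicative V ⋊[φ] G, m ∣ orderOf x := by
  have h0 : ∀ (x : Multiplicative V ⋊[φ] G) n, (x ^ n).left.toAdd = gs (ρ x.right) n x.left.toAdd := fun x n => by
    induction n with
    | zero => rfl
    | succ n ih =>
      rw [pow_succ, SemidirectProduct.mul_left, toAdd_mul, ih, gs, gs, Finset.sum_range_succ, LinearMap.add_apply,
        ← map_pow, ← SemidirectProduct.rightHom_eq_right, ← map_pow, hφ, SemidirectProduct.rightHom_eq_right]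
  have h1 : ∀ (x : Multiplicative V ⋊[φ] G) n, (x ^ n).right = x.right ^ n := fun x n =>
    map_pow SemidirectProduct.rightHom x n
  refine ⟨fun x m h => SemidirectProduct.ext (Multiplicative.toAdd.injective (by rw [h0, h]; rfl))
    ((h1 x m).trans (hρ (by rw [map_pow, pow_of_gs h]; exact (map_one ρ).symm))), fun g m h => ?_⟩
  by_cases h2 : gs (ρ g) (orderOf g) = 0
  · exact ⟨.inr g, by rw [orderOf_injective _ SemidirectProduct.inr_injective]; exact h _ h2⟩
  obtain ⟨v, hv⟩ := DFunLike.ne_iff.1 h2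
  have h3 : ρ g ^ orderOf g = 1 := by rw [← map_pow, pow_orderOf_eq_one, map_one]
  refine ⟨⟨.ofAdd v, g⟩, (h _ (gs_p (p := p) F h3)).trans ?_⟩
  obtain ⟨t, ht⟩ := orderOf_map_dvd SemidirectProduct.rightHom (⟨.ofAdd v, g⟩ : Multiplicative V ⋊[φ] G)
  have h4 := h0 ⟨.ofAdd v, g⟩ (orderOf (⟨.ofAdd v, g⟩ : Multiplicative V ⋊[φ] G))
  rw [pow_orderOf_eq_one, ht] at h4
  change (0 : V) = gs (ρ g) (orderOf g * t) v at h4
  rw [gs_mul, h3, gs_fix (one_mul _), LinearMap.smul_apply, ← Nat.cast_smul_eq_nsmul F, eq_comm, smul_eq_zero] at h4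
  rw [ht, mul_comm]
  exact mul_dvd_mul_left _ ((CharP.cast_eq_zero_iff F p t).1 (h4.resolve_right hv))

end Cfsg.Agent.H13
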