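import Mathlib
import Cfsg.Agent.H13.Inv2
import Cfsg.Agent.H13.Jor

/-!
Quadratic elements of unitary groups.
-/

set_option autoImplicit false

namespace Cfsg.Agent.H13

open Module

variable {F V : Type*} [Field F] [AddCommGroup V] [Module F V] {σ : F →+* F}
  {B : V →ₛₗ[σ] V →ₗ[F] F} [FiniteDimensional F V]

theorem herm_exists_equiv [Finite F] (hσ : σ ≠ RingHom.id F) (hσ2 : ∀ a, σ (σ a) = a)
    {W : Type*} [AddCommGroup W] [Module F W] [FiniteDimensional F W] {γ : V →ₛₗ[σ] V →ₗ[F] F}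
    {γ' : W →ₛₗ[σ] W →ₗ[F] F} (hS : ∀ x y, σ (γ x y) = γ y x) (hB : ∀ x, (∀ y, γ x y = 0) → x = 0)
    (hS' : ∀ x y, σ (γ' x y) = γ' y x) (hB' : ∀ x, (∀ y, γ' x y = 0) → x = 0)
    (hd : finrank F V = finrank F W) : ∃ φ : V ≃ₗ[F] W, ∀ x y, γ' (φ x) (φ y) = γ x y := by
  obtain ⟨b, hb⟩ := exists_orthonormal_basis_herm hσ hσ2 γ hS hB
  obtain ⟨b', hb'⟩ := exists_orthonormal_basis_herm hσ hσ2 γ' hS' hB'
  refine ⟨b.equiv b' (finCongr hd), fun x y => ?_⟩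
  have : pull γ' (b.equiv b' (finCongr hd)).toLinearMap (b.equiv b' (finCongr hd)).toLinearMap = γ :=
    b.ext fun i => b.ext fun j => by simp [hb, hb', Fin.ext_iff]
  rw [← this]; rfl

theorem sd_isConj_of_rk1 [Finite F] (D : H12.SD B) (hσ : σ ≠ RingHom.id F) {x y : H12.UG B}
    (hx : ∀ v, sub1 x (sub1 x v) = 0) (hy : ∀ v, sub1 y (sub1 y v) = 0) (h : rk1 x = rk1 y) :
    IsConj x y := by
  have h1 := (isIsom_UG B).qe hx
  have h2 := (isIsom_UG B).qe hy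
  exact ((isIsom_UG B).isConj_iff D.wittData hx hy).2 (herm_exists_equiv hσ D.invol
    (fun a b => by rw [h1.gam_symm D.wittData a b]; simp) (h1.gam_sep D.sep)
    (fun a b => by rw [h2.gam_symm D.wittData a b]; simp) (h2.gam_sep D.sep) h)

omit [FiniteDimensional F V] in
theorem sd_ti_of_self (D : H12.SD B) (hσ : σ ≠ RingHom.id F) {W : Submodule F V}
    (h : ∀ w ∈ W, B w w = 0) : ∀ x ∈ W, ∀ y ∈ W, B x y = 0 := by
  obtain ⟨s, hs0, hs⟩ := H12.exists_skew hσ D.invol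
  intro x hx y hy
  have := herm_eq_zero_of_self hσ (s • B) (fun a b => by
    simp only [LinearMap.smul_apply, smul_eq_mul, map_mul, hs, D.σ_map]; ring) W
    (fun v hv => by simp [h v hv]) x hx y hy
  simpa [hs0] using this

theorem sd_exists_comm_udet (D : H12.SD B) (hσ : σ ≠ RingHom.id F) {x : H12.UG B}
    (hx : ∀ v, sub1 x (sub1 x v) = 0) (h : 2 * rk1 x < finrank F V) (a : H12.N1 σ) :
    ∃ c ∈ Subgroup.centralizer {x}, H12.udet B c = a := by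
  obtain ⟨w, h1, h2⟩ : ∃ w ∈ H12.sperp B (LinearMap.range (sub1 x)), B w w ≠ 0 := by
    by_contra! H
    have h1 := D.two_mul_finrank_le (sd_ti_of_self D hσ H)
    have h2 := D.finrank_sperp (LinearMap.range (sub1 x))
    rw [rk1] at h
    omega
  obtain ⟨g, h3, -, h4⟩ := D.exists_quasiRefl h2 a
  exact ⟨g, (isIsom_UG B).fixW_le D.wittData hx fun u hu => h4 u (D.comm0 (h1 u hu)), h3⟩

theorem sd_exists_comm_udet_sq (D : H12.SD B) (hσ : σ ≠ RingHom.id F) {x : H12.UG B}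
    (hx : ∀ v, sub1 x (sub1 x v) = 0) (h : x ≠ 1) (a : H12.N1 σ) :
    ∃ c ∈ Subgroup.centralizer {x}, H12.udet B c = a ^ 2 := by
  have hq := (isIsom_UG B).qe hx
  obtain ⟨v, hv⟩ : ∃ v, B v (sub1 x v) ≠ 0 := by
    by_contra! H
    refine h (sub1_eq_zero_iff.1 (LinearMap.ext fun v => (hq.ker_iff D.sep).2 fun w => ?_))
    rw [← hq.gam_apply']
    exact herm_eq_zero_of_self hσ _ (fun a b => by rw [hq.gam_symm D.wittData a b]; simp) ⊤
      (fun u _ => hq.alt_iff.1 H u) _ trivial _ trivial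
  have h1 : B (sub1 x v) v ≠ 0 := D.ne0 hv
  obtain ⟨c, hc⟩ := D.exists_iso_add (hq.range_range v v) h1
  obtain ⟨e, f, d, hp, h2, h3, h4⟩ : ∃ (e f : V) (d : F), H12.SP B e f ∧ sub1 x e = 0 ∧
      sub1 x f = d • e ∧ ∀ w, B e (sub1 x w) = 0 :=
    ⟨sub1 x v, (B (sub1 x v) v)⁻¹ • (v + c • sub1 x v), (B (sub1 x v) v)⁻¹,
      ⟨hq.range_range v v, by simp only [map_smulₛₗ, LinearMap.smul_apply, hc]; simp,
        by simp [hq.range_range, h1]⟩, hx v, by simp [hx], hq.range_range v⟩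
  have ha : (σ (a : Fˣ))⁻¹ = (a : Fˣ) := inv_eq_of_mul_eq_one_right a.2
  refine ⟨hp.torus D a, (mem_centralizer_iff_sub1 _ _).2 fun y => ?_,
    Units.ext (by rw [hp.det_torus D, ha]; simp [pow_two])⟩
  obtain ⟨s, t, w, rfl⟩ := hp.exists_eq D y
  have h5 : sub1 x w ∈ H12.spp B e f := H12.mem_sperp_pair.2 ⟨h4 _, by
    have := hq.adj f w
    rw [h3, map_smulₛₗ, LinearMap.smul_apply, H12.spp_left, smul_zero] at this
    exact neg_eq_zero.1 this.symm⟩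
  have h6 : (hp.torus D a).1 (sub1 x w) = sub1 x w := hp.torus_w D _ ⟨_, h5⟩
  have h7 := hp.torus_e D a
  rw [hp.torus_comb D, ha]
  simp only [map_add, map_smul, h2, h3, h6, h7, smul_zero, zero_add]
  module

theorem isConj_SUG_of_udet (D : H12.SD B) {x y : H12.SUG B}
    (h : ∀ a : H12.N1 σ, ∃ c ∈ Subgroup.centralizer {x.1}, H12.udet B c = a)
    (hc : IsConj x.1 y.1) : IsConj x y := by
  obtain ⟨g, hg⟩ := isConj_iff.1 hc
  obtain ⟨c, h1, h2⟩ := h ⟨_, D.udet_mem_N1 g⁻¹⟩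
  refine isConj_iff.2 ⟨⟨g * c, ?_⟩, Subtype.ext ?_⟩
  · change H12.udet B (g * c) = 1
    rw [map_mul, h2]; simp
  · change g * c * x * (g * c)⁻¹ = y
    rw [← hg, mul_assoc g, Subgroup.mem_centralizer_singleton_iff.1 h1]; group

omit [FiniteDimensional F V] in
theorem exists_sq_N1 [Finite F] [CharP F 2] (a : H12.N1 σ) : ∃ b : H12.N1 σ, b ^ 2 = a := by
  refine Finite.injective_iff_surjective.1 (fun b c (h : b ^ 2 = c ^ 2) => ?_) a
  exact Subtype.ext (Units.ext (sq_inj_two (by simpa using congrArg (fun z : H12.N1 σ => (z.1 : F)) h)))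

theorem sd_isConj_SUG_two [Finite F] [CharP F 2] (D : H12.SD B) (hσ : σ ≠ RingHom.id F)
    {x y : H12.SUG B} (hx : orderOf x = 2) (hy : orderOf y = 2) (h : rk1 x.1 = rk1 y.1) :
    IsConj x y := by
  rw [← Subgroup.orderOf_coe, orderOf_eq_prime_iff, ← sub1_sub1_of_two CharTwo.two_eq_zero] at hx hy
  refine isConj_SUG_of_udet D (fun a => ?_) (sd_isConj_of_rk1 D hσ hx.1 hy.1 h)
  obtain ⟨b, rfl⟩ := exists_sq_N1 a
  exact sd_exists_comm_udet_sq D hσ hx.1 hx.2 b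

theorem sd_isConj_SUG_of_lt [Finite F] (D : H12.SD B) (hσ : σ ≠ RingHom.id F) {x y : H12.SUG B}
    (hx : ∀ v, sub1 x.1 (sub1 x.1 v) = 0) (hy : ∀ v, sub1 y.1 (sub1 y.1 v) = 0)
    (h : rk1 x.1 = rk1 y.1) (hlt : 2 * rk1 x.1 < finrank F V) : IsConj x y :=
  isConj_SUG_of_udet D (sd_exists_comm_udet D hσ hx hlt) (sd_isConj_of_rk1 D hσ hx hy h)

theorem sub1_eq_toLin' {ι : Type*} [Fintype ι] [DecidableEq ι]
    {G : Subgroup ((ι → F) ≃ₗ[F] (ι → F))} {x : G} {A : Matrix ι ι F}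
    (h : ∀ v, x.1 v = A.mulVec v) (v : ι → F) : sub1 x v = (A - 1).mulVec v := by
  simp [sub1_apply, h, Matrix.sub_mulVec]

end Cfsg.Agent.H13
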