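import Mathlib
import Cfsg.Agent.H13.PG
import Cfsg.Agent.H12.MaxS

/-!
Involutions of `SU₃(q)`, `q` odd, and the non-isotropic points.
-/

set_option autoImplicit false

namespace Cfsg.Agent.H13

open Module H28 H12

theorem card_split {α : Type*} [Finite α] (p q : α → Prop) :
    Nat.card {x // p x} = Nat.card {x // p x ∧ q x} + Nat.card {x // p x ∧ ¬ q x} := by
  classical
  rw [← Nat.card_sum, ← Nat.card_congr (Equiv.sumCompl fun x : {x // p x} => q x.1)]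
  exact Nat.card_congr ((Equiv.subtypeSubtypeEquivSubtypeInter p q).sumCongr
    (Equiv.subtypeSubtypeEquivSubtypeInter p (¬ q ·)))

variable {F V G : Type*} [Field F] [AddCommGroup V] [Module F V] [FiniteDimensional F V]
  {σ : F →+* F} {B : V →ₛₗ[σ] V →ₗ[F] F} [Group G]

/-- involutions of a special unitary group in dimension three -/
structure SUI (B : V →ₛₗ[σ] V →ₗ[F] F) (e : G ≃* SUG B) (τ : V → G) : Prop where
  sd : SD B
  dim : finrank F V = 3
  two : (2 : F) ≠ 0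
  app : ∀ v, B v v ≠ 0 → ∀ x, en B (e (τ v)) x = (2 * B v x / B v v) • v - x

theorem exists_sui (D : SD B) (h3 : finrank F V = 3) (h2 : (2 : F) ≠ 0) (e : G ≃* SUG B) :
    ∃ τ, SUI B e τ := by
  have : ∀ v, B v v ≠ 0 → ∃ g, ∀ x, en B (e g) x = (2 * B v x / B v v) • v - x := fun v hv => by
    obtain ⟨g, h4, h5, h6⟩ := D.exists_quasiRefl hv ⟨-1, by simp [N1]⟩
    refine ⟨e.symm ⟨scalUG B ⟨-1, by simp [N1]⟩ * g, by
      rw [SUG, MonoidHom.mem_ker, map_mul, udet_scalUG, h4, h3]; norm_num⟩, fun x => ?_⟩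
    have := h6 (x - (B v x / B v v) • v) (by simp [hv])
    rw [map_sub, map_smul, h5, sub_eq_iff_eq_add] at this
    rw [e.apply_symm_apply, en_apply, UG_mul_apply, scalUG_apply, this]
    simp only [Units.val_neg, Units.val_one]
    module
  choose! τ hτ using this
  exact ⟨τ, D, h3, h2, hτ⟩

namespace SUI

variable {e : G ≃* SUG B} {τ : V → G} (h : SUI B e τ) {u v w a c : V}
include h

theorem eq_zero (hv : B v v ≠ 0) (hu : B u u ≠ 0) (h1 : B v u = 0) (ha : a ≠ 0) (h2 : B v a = 0)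
    (h3 : B u a = 0) (h4 : B v c = 0) (h5 : B u c = 0) (h6 : B a c = 0) : c = 0 := by
  have h7 : LinearIndependent F ![v, u, a] := Fintype.linearIndependent_iff.2 fun g hg => by
    have e1 := congrArg (B v) hg
    have e2 := congrArg (B u) hg
    simp [Fin.sum_univ_three, h1, h2, h3, hv, hu, h.sd.comm0 h1] at e1 e2 hg
    simp [e1, e2, ha] at hg
    simp [Fin.forall_fin_succ, e1, e2, hg]
  refine h.sd.sep c fun y => h.sd.comm0 (mem_sperp.1 (mem_sperp_span.2 ?_) y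
    ((h7.span_eq_top_of_card_eq_finrank (by simp [h.dim])).ge trivial))
  simp [h4, h5, h6]

theorem exists_perp (v w : V) : ∃ u, u ≠ 0 ∧ B v u = 0 ∧ B w u = 0 := by
  obtain ⟨u, h1, h2⟩ := Submodule.exists_mem_ne_zero_of_ne_bot (LinearMap.ker_ne_bot_of_finrank_lt
    (f := (B v).prod (B w)) (by simp [h.dim]))
  exact ⟨u, h2, Prod.ext_iff.1 h1⟩

omit h in
theorem ext {x y : G} (H : ∀ v, en B (e x) v = en B (e y) v) : x = y :=
  e.injective (en_injective (LinearMap.ext H))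

theorem app_self (hv : B v v ≠ 0) : en B (e (τ v)) v = v := by
  rw [h.app v hv, mul_div_assoc, div_self hv]; module

theorem smul_of_fix (hv : B v v ≠ 0) (H : en B (e (τ v)) w = w) : ∃ c : F, w = c • v :=
  ⟨B v w / B v v, smul_right_injective V h.two (by
    rw [h.app v hv] at H; linear_combination (norm := module) -H)⟩

theorem eq_iff (hv : B v v ≠ 0) (hw : B w w ≠ 0) : τ v = τ w ↔ ∃ c : F, w = c • v := by
  refine ⟨fun H => h.smul_of_fix hv (H ▸ h.app_self hw), ?_⟩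
  rintro ⟨c, rfl⟩
  refine ext (e := e) fun x => ?_
  have h1 : c ≠ 0 := by rintro rfl; simp at hw
  have h2 := h.sd.σ_ne_zero h1
  rw [h.app _ hv, h.app _ hw, smul_smul]
  congr 2
  simp; field_simp

theorem comm_iff (hv : B v v ≠ 0) (hw : B w w ≠ 0) : Commute (τ v) (τ w) ↔ τ v = τ w ∨ B v w = 0 := by
  refine ⟨fun H => or_iff_not_imp_right.2 fun h1 => ?_, ?_⟩
  · have h2 := congrArg (fun g => en B (e g) w) H
    simp only [map_mul, End.mul_apply, h.app_self hw] at h2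
    obtain ⟨c, hc⟩ := h.smul_of_fix hw h2.symm
    refine ((h.eq_iff hw hv).2 ⟨(2 * B v w / B v v)⁻¹ * (c + 1), ?_⟩).symm
    rw [h.app v hv, sub_eq_iff_eq_add] at hc
    rw [mul_smul, add_smul, one_smul, ← hc, inv_smul_smul₀ (by simp [h.two, h1, hv])]
  · rintro (H | H)
    · rw [H]
    · refine ext (e := e) fun x => ?_
      simp only [map_mul, End.mul_apply, h.app _ hv, h.app _ hw, map_sub, map_smul, H,
        h.sd.comm0 H, smul_eq_mul]
      module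

theorem inv_iff {x : G} : x ≠ 1 ∧ x * x = 1 ↔ ∃ v, B v v ≠ 0 ∧ τ v = x := by
  constructor
  · rintro ⟨h1, h2⟩
    have h3 : ∀ v, en B (e x) (en B (e x) v) = v := fun v => by
      rw [← End.mul_apply, ← map_mul, ← map_mul, h2, map_one, map_one]; rfl
    let π : End F V := (2 : F)⁻¹ • (1 + en B (e x))
    have h4 : ∀ v, en B (e x) v = (2 : F) • π v - v := fun v => by simp [π, h.two]
    have h5 : π * π = π := LinearMap.ext fun v => by
      simp only [π, End.mul_apply, LinearMap.smul_apply, LinearMap.add_apply, End.one_apply,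
        map_smul, map_add, h3]
      match_scalars <;> field_simp [h.two] <;> norm_num
    have h6 := det_zz h5 1 (-1)
    rw [show zz π 1 (-1) = en B (e x) from LinearMap.ext fun v => by
      rw [h4]; simp [zz]; module, det_en, one_pow, one_mul, eq_comm,
      neg_one_pow_eq_one_iff_even fun e => h.two (by linear_combination -e)] at h6
    have h7 := π.finrank_range_add_finrank_ker
    have h8 : finrank F (LinearMap.ker π) ≠ 0 := fun e' => h1 (ext (e := e) fun v => by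
      have : v - π v ∈ LinearMap.ker π := by
        rw [LinearMap.mem_ker, map_sub, ← End.mul_apply, h5, sub_self]
      rw [Submodule.finrank_eq_zero.1 e', Submodule.mem_bot, sub_eq_zero] at this
      rw [h4, ← this, map_one, map_one, End.one_apply]; module)
    obtain ⟨v, v0, hv⟩ := finrank_eq_one_iff'.1 (show finrank F (LinearMap.range π) = 1 by
      obtain ⟨k, hk⟩ := h6; have := h.dim; omega)
    have h9 : en B (e x) v = v := by
      obtain ⟨_, y, rfl⟩ := v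
      rw [h4, ← End.mul_apply, h5]; module
    have h10 : ∀ y, ∃ c : F, π y = c • v.1 ∧ B v y = c * B v v := fun y => by
      obtain ⟨c, hc⟩ := hv ⟨_, y, rfl⟩
      have e1 : c • v.1 = π y := congrArg Subtype.val hc
      have e2 := en_map (e x) v y
      rw [h9, h4, ← e1, map_sub, map_smul, map_smul] at e2
      exact ⟨c, e1.symm, mul_left_cancel₀ h.two (by simp at e2; linear_combination -e2)⟩
    have h11 : B v v ≠ 0 := fun e' => v0 (Subtype.ext (h.sd.sep _ fun y => by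
      obtain ⟨c, -, hc⟩ := h10 y
      rw [hc, e', mul_zero]))
    refine ⟨v, h11, ext (e := e) fun y => ?_⟩
    obtain ⟨c, e1, e2⟩ := h10 y
    rw [h.app _ h11, h4, e1, e2, ← mul_assoc, mul_div_cancel_right₀ _ h11, mul_smul]
  · rintro ⟨v, hv, rfl⟩
    refine ⟨fun H => ?_, ext (e := e) fun x => ?_⟩
    · obtain ⟨u, h1, h2, -⟩ := h.exists_perp v v
      obtain ⟨c, rfl⟩ := h.smul_of_fix hv (w := u) (by rw [H, map_one, map_one]; rfl)
      simp [hv] at h2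
      simp [h2] at h1
    · simp only [map_mul, End.mul_apply, h.app _ hv, map_sub, map_smul, smul_eq_mul, map_one,
        End.one_apply]
      match_scalars <;> field_simp <;> ring

theorem conj (hv : B v v ≠ 0) (g : G) : g * τ v * g⁻¹ = τ (en B (e g) v) :=
  mul_inv_eq_of_eq_mul (ext (e := e) fun x => by
    rw [map_mul, map_mul, map_mul, map_mul, End.mul_apply, End.mul_apply, h.app _ hv,
      h.app _ (by rwa [en_map]), en_map, en_map, map_sub, map_smul])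

variable [Finite F] [Finite G]

theorem card_mul (p : G → Prop) : Nat.card {x // x ≠ 1 ∧ x * x = 1 ∧ p x} * (Nat.card F - 1) =
    Nat.card {v // B v v ≠ 0 ∧ p (τ v)} := by
  have : Finite V := Module.finite_of_finite F
  let f : {v // B v v ≠ 0 ∧ p (τ v)} → {x // x ≠ 1 ∧ x * x = 1 ∧ p x} := fun v =>
    ⟨τ v, and_assoc.1 ⟨h.inv_iff.2 ⟨v, v.2.1, rfl⟩, v.2.2⟩⟩
  rw [← Nat.card_congr (Equiv.sigmaFiberEquiv f), natCard_sigma_const fun x => ?_]
  obtain ⟨v, hv, e1⟩ := h.inv_iff.1 ⟨x.2.1, x.2.2.1⟩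
  have h1 : ∀ c : Fˣ, B (c.1 • v) (c.1 • v) ≠ 0 := fun c => by simp [hv, h.sd.σ_eq_zero]
  have h2 : ∀ c : Fˣ, τ (c.1 • v) = x := fun c => e1 ▸ ((h.eq_iff hv (h1 c)).2 ⟨c, rfl⟩).symm
  rw [← Nat.card_units]
  refine (Nat.card_congr (Equiv.ofBijective (fun c : Fˣ => ⟨⟨c.1 • v, h1 c, h2 c ▸ x.2.2.2⟩,
    Subtype.ext (h2 c)⟩) ⟨fun a b H => Units.ext (smul_left_injective F (by rintro rfl; simp at hv)
      (congrArg (·.1.1) H)), fun w => ?_⟩)).symm
  obtain ⟨c, hc⟩ := (h.eq_iff hv w.1.2.1).1 (e1.trans (congrArg Subtype.val w.2).symm)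
  exact ⟨Units.mk0 c (by rintro rfl; simpa [hc] using w.1.2.1), Subtype.ext (Subtype.ext hc.symm)⟩

omit h [Finite G] in
theorem card_aniso (D : SD B) (hσ : σ ≠ RingHom.id F) : Nat.card {v // B v v ≠ 0} +
    (guIso (q0 σ) (finrank F V) + 1) = (q0 σ ^ 2) ^ finrank F V := by
  have : Finite V := Module.finite_of_finite F
  have := card_split (fun _ : V => True) fun v => B v v = 0
  simp only [true_and, Nat.card_congr (Equiv.subtypeUnivEquiv fun _ : V => trivial)] at this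
  rw [← D.niso_unitary hσ, ← card_eq_q0_sq hσ D.invol, ← Module.natCard_eq_pow_finrank, this,
    add_comm]; rfl

variable (hσ : σ ≠ RingHom.id F) {q : ℕ} (hq : q0 σ = q)
include hσ hq

theorem card_inv : Nat.card {x : G // x ≠ 1 ∧ x * x = 1} = q ^ 2 * (q ^ 2 - q + 1) := by
  have h1 := h.card_mul fun _ => True
  have h2 := card_aniso h.sd hσ
  have h3 := hq ▸ two_le_q0 (σ := σ)
  simp only [and_true, card_eq_q0_sq hσ h.sd.invol, hq, h.dim, guIso] at h1 h2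
  refine mul_right_cancel₀ (b := q ^ 2 - 1) (Nat.sub_ne_zero_of_lt (by nlinarith)) ?_
  rw [if_neg (by decide)] at h2
  zify [show 1 ≤ q ^ 2 by nlinarith, show q ≤ q ^ 2 by nlinarith] at h1 h2 ⊢
  linear_combination h1 + h2

theorem card_near (hv : B v v ≠ 0) :
    Nat.card {x : G // x ≠ 1 ∧ x * x = 1 ∧ x ≠ τ v ∧ Commute (τ v) x} = q * (q - 1) ∧
    Nat.card {c : V // B v c = 0 ∧ B c c = 0 ∧ c ≠ 0} = (q + 1) * (q ^ 2 - 1) := by
  have h0 := h.sd.disjoint_span_singleton hv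
  have D := h.sd.restrict (W := sperp B (F ∙ v)) (by rw [h.sd.sperp_sperp]; exact h0.symm)
  have h4 : finrank F (sperp B (F ∙ v)) = 2 := by
    have := h.sd.finrank_sperp (F ∙ v)
    rw [finrank_span_singleton (by rintro rfl; simp at hv), h.dim] at this
    omega
  have h1 := h.card_mul fun x => x ≠ τ v ∧ Commute (τ v) x
  have h2 := card_aniso D hσ
  have h3 := hq ▸ two_le_q0 (σ := σ)
  have : Finite V := Module.finite_of_finite F
  have h5 := card_iso_ne_zero (B := res B (sperp B (F ∙ v)))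
  rw [D.niso_unitary hσ] at h5
  rw [Nat.card_congr (Equiv.subtypeEquivRight (q := fun w => w ∈ sperp B (F ∙ v) ∧ B w w ≠ 0)
    fun w => by
      rw [and_comm (a := w ∈ _), and_congr_right_iff, mem_sperp_singleton]
      refine fun hw => ⟨fun H => ((h.comm_iff hv hw).1 H.2).resolve_left H.1.symm, fun H =>
        ⟨fun e => ?_, (h.comm_iff hv hw).2 (.inr H)⟩⟩
      obtain ⟨c, rfl⟩ := (h.eq_iff hv hw).1 e.symm
      simp [hv] at H
      simp [H] at hw), ← Nat.card_congr (Equiv.subtypeSubtypeEquivSubtypeInter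
        (· ∈ sperp B (F ∙ v)) _)] at h1
  simp only [card_eq_q0_sq hσ h.sd.invol, hq, h4, guIso, res_apply] at h1 h2 h5
  rw [if_pos (by decide)] at h2 h5
  refine ⟨mul_right_cancel₀ (b := q ^ 2 - 1) (Nat.sub_ne_zero_of_lt (by nlinarith)) ?_, ?_⟩
  · zify [show 1 ≤ q ^ 2 by nlinarith, show 1 ≤ q by omega] at h1 h2 ⊢
    linear_combination h1 + h2
  · refine (Nat.card_congr ⟨fun c => ⟨⟨c.1, mem_sperp_singleton.2 c.2.1⟩, c.2.2.1, fun e =>
      c.2.2.2 (congrArg Subtype.val e)⟩, fun c => ⟨c.1, mem_sperp_singleton.1 c.1.2, c.2.1,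
      fun e => c.2.2 (Subtype.ext e)⟩, fun _ => rfl, fun _ => rfl⟩).trans (h5.trans ?_)
    simp [mul_comm]

omit hσ hq [Finite F] [Finite G] in
theorem exists_add (hv : B v v ≠ 0) {x : G} (h1 : x ≠ 1) (h2 : x * x = 1) (h3 : ¬ Commute (τ v) x) :
    ∃ c, B v c = 0 ∧ c ≠ 0 ∧ B (v + c) (v + c) ≠ 0 ∧ τ (v + c) = x := by
  obtain ⟨w, hw, rfl⟩ := h.inv_iff.1 ⟨h1, h2⟩
  rw [h.comm_iff hv hw, not_or] at h3
  have h4 : B ((B v v / B v w) • w) ((B v v / B v w) • w) ≠ 0 := by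
    simp [hv, hw, h3.2, h.sd.σ_eq_zero]
  have h5 := (h.eq_iff hw h4).2 ⟨_, rfl⟩
  refine ⟨(B v v / B v w) • w - v, by simp [h3.2], fun e => h3.1 ?_, by simpa using h4,
    by rw [h5, add_sub_cancel]⟩
  rw [h5, sub_eq_zero.1 e]

omit hσ hq [Finite F] [Finite G] in
theorem exists_mid (hv : B v v ≠ 0) (h1 : B v c = 0) (h2 : B c c ≠ 0) (h3 : B w w ≠ 0)
    {s t : F} (h4 : w = s • v + t • c) : ∃ u, B u u ≠ 0 ∧ Commute (τ v) (τ u) ∧ Commute (τ u) (τ w) := by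
  obtain ⟨u, u0, u1, u2⟩ := h.exists_perp v c
  have u3 : B u u ≠ 0 := fun e => u0 (h.eq_zero hv h2 h1 u0 u1 u2 u1 u2 e)
  exact ⟨u, u3, (h.comm_iff hv u3).2 (.inr u1), (h.comm_iff u3 h3).2
    (.inr (by simp [h4, h.sd.comm0 u1, h.sd.comm0 u2]))⟩

theorem card_far (hv : B v v ≠ 0) : Nat.card {x : G // x ≠ 1 ∧ x * x = 1 ∧ ¬ Commute (τ v) x ∧
    ∀ y, y ≠ 1 → y * y = 1 → ¬ (Commute (τ v) y ∧ Commute y x)} = (q + 1) * (q ^ 2 - 1) := by
  rw [← (h.card_near hσ hq hv).2]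
  have h1 : ∀ c, B v c = 0 → B c c = 0 → B (v + c) (v + c) ≠ 0 := fun c h1 h2 => by
    simp [h1, h2, h.sd.comm0 h1, hv]
  have h2 : ∀ {a c} {s : F}, B v a = 0 → B v c = 0 → v + c = s • (v + a) → c = a :=
    fun {a c s} h1 h2 e => by
      have := congrArg (B v) e
      simp [h1, h2, hv] at this
      simpa [this] using e
  have h7 : ∀ c, B v c = 0 ∧ B c c = 0 ∧ c ≠ 0 → τ (v + c) ≠ 1 ∧ τ (v + c) * τ (v + c) = 1 ∧
      ¬ Commute (τ v) (τ (v + c)) ∧
      ∀ y, y ≠ 1 → y * y = 1 → ¬ (Commute (τ v) y ∧ Commute y (τ (v + c))) := by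
    rintro c ⟨c1, c2, c3⟩
    have h3 := h1 c c1 c2
    have h4 : ¬ Commute (τ v) (τ (v + c)) := by
      rw [h.comm_iff hv h3, h.eq_iff hv h3]
      rintro (⟨s, e⟩ | e)
      · exact c3 (h2 (map_zero _) c1 (by rwa [add_zero]))
      · simp [c1, hv] at e
    refine and_assoc.1 ⟨h.inv_iff.2 ⟨_, h3, rfl⟩, h4, fun y y1 y2 ⟨y3, y4⟩ => ?_⟩
    obtain ⟨u, hu, rfl⟩ := h.inv_iff.1 ⟨y1, y2⟩
    have h5 := ((h.comm_iff hv hu).1 y3).resolve_left fun e => h4 (e ▸ y4)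
    have h6 := ((h.comm_iff hu h3).1 y4).resolve_left fun e => h4 (e ▸ y3)
    rw [map_add, h.sd.comm0 h5, zero_add] at h6
    exact c3 (h.eq_zero hv hu h5 c3 c1 h6 c1 h6 c2)
  refine (Nat.card_congr (Equiv.ofBijective (fun c => ⟨τ (v + c.1), h7 _ c.2⟩) ⟨fun a b e => ?_,
    fun x => ?_⟩)).symm
  · obtain ⟨s, hs⟩ := (h.eq_iff (h1 _ a.2.1 a.2.2.1) (h1 _ b.2.1 b.2.2.1)).1 (congrArg Subtype.val e)
    exact Subtype.ext (h2 a.2.1 b.2.1 hs).symm
  · obtain ⟨c, c1, c2, c3, c4⟩ := h.exists_add hv x.2.1 x.2.2.1 x.2.2.2.1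
    refine ⟨⟨c, c1, by_contra fun c5 => ?_, c2⟩, Subtype.ext c4⟩
    obtain ⟨u, u1, u2⟩ := h.exists_mid hv c1 c5 c3 (s := 1) (t := 1) (by simp)
    obtain ⟨u3, u4⟩ := h.inv_iff.2 ⟨u, u1, rfl⟩
    exact x.2.2.2.2 _ u3 u4 (c4 ▸ u2)

theorem card_mid (hv : B v v ≠ 0) : Nat.card {x : G // x ≠ 1 ∧ x * x = 1 ∧ ¬ Commute (τ v) x ∧
    ∃ y, y ≠ 1 ∧ y * y = 1 ∧ Commute (τ v) y ∧ Commute y x} = q * (q - 2) * (q ^ 2 - 1) := by
  have h1 := card_split (fun x : G => x ≠ 1 ∧ x * x = 1) (Commute (τ v))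
  have h2 := card_split (fun x : G => (x ≠ 1 ∧ x * x = 1) ∧ Commute (τ v) x) (· = τ v)
  have h3 := card_split (fun x : G => (x ≠ 1 ∧ x * x = 1) ∧ ¬ Commute (τ v) x)
    fun x => ∃ y, y ≠ 1 ∧ y * y = 1 ∧ Commute (τ v) y ∧ Commute y x
  have h4 := (h.card_near hσ hq hv).1
  have h5 := h.card_far hσ hq hv
  have h6 := hq ▸ two_le_q0 (σ := σ)
  rw [show Nat.card {x // _ ∧ x = τ v} = 1 from Nat.card_eq_one_iff_unique.2 ⟨⟨fun a b =>
    Subtype.ext (a.2.2.trans b.2.2.symm)⟩, ⟨⟨τ v, ⟨h.inv_iff.2 ⟨v, hv, rfl⟩, rfl⟩, rfl⟩⟩⟩] at h2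
  rw [h.card_inv hσ hq, h2, h3] at h1
  simp only [and_assoc, not_exists, not_and, and_comm (a := Commute (τ v) _) (b := ¬ _ = _)] at h1 h5
  zify [show 1 ≤ q ^ 2 by nlinarith, show 1 ≤ q by omega, show q ≤ q ^ 2 by nlinarith, h6]
    at h1 h4 h5 ⊢
  linear_combination -h1 - h4 - h5

omit hq [Finite G] in
theorem exists_path (hv : B v v ≠ 0) {x : G} (h1 : x ≠ 1) (h2 : x * x = 1) :
    ∃ y z : G, y ≠ 1 ∧ y * y = 1 ∧ z ≠ 1 ∧ z * z = 1 ∧
      Commute (τ v) y ∧ Commute y z ∧ Commute z x := by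
  obtain ⟨h3, h4⟩ := h.inv_iff.2 ⟨v, hv, rfl⟩
  by_cases h5 : Commute (τ v) x
  · exact ⟨_, _, h3, h4, h3, h4, rfl, rfl, h5⟩
  obtain ⟨c, c1, c2, c3, rfl⟩ := h.exists_add hv h1 h2 h5
  by_cases c4 : B c c = 0
  swap
  · obtain ⟨u, u1, u2, u3⟩ := h.exists_mid hv c1 c4 c3 (s := 1) (t := 1) (by simp)
    obtain ⟨u4, u5⟩ := h.inv_iff.2 ⟨u, u1, rfl⟩
    exact ⟨_, _, u4, u5, u4, u5, u2, rfl, u3⟩
  obtain ⟨a, a1, a2, a3⟩ : ∃ a, B v a = 0 ∧ B a a ≠ 0 ∧ B a a * B v v ≠ B a c * B c a := by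
    obtain ⟨y, hy⟩ := h.sd.exists_ne c2
    let d := (B c y)⁻¹ • (y - (B v y / B v v) • v)
    have d1 : B v d = 0 := by simp [d, hv]
    have d2 : B c d = 1 := by simp [d, h.sd.comm0 c1, hy]
    have d3 : B d c = -1 := by rw [h.sd.skew, d2, map_one]
    obtain ⟨s, s0, s1⟩ := exists_skew hσ h.sd.invol
    have key : ∀ s, σ s = -s → ∃ a, B v a = 0 ∧ B a a = s ∧ B a c * B c a = -1 := fun s hs => by
      obtain ⟨t, ht⟩ := exists_sub_conj_eq hσ h.sd.invol (t := B d d - s) (by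
        rw [map_sub, hs, h.sd.σ_map]; ring)
      exact ⟨d + t • c, by simp [d1, c1], by simp [d2, d3, c4]; linear_combination -ht,
        by simp [d2, d3, c4]⟩
    by_cases s2 : s * B v v = -1
    · obtain ⟨a, a1, a2, a3⟩ := key (-s) (by rw [map_neg, s1])
      exact ⟨a, a1, by simpa [a2], fun e => h.two (by rw [a2, a3] at e; linear_combination e + s2)⟩
    · obtain ⟨a, a1, a2, a3⟩ := key s s1
      exact ⟨a, a1, by rwa [a2], by rwa [a2, a3]⟩
  obtain ⟨u, u1, u2, u3⟩ := h.exists_mid a2 (c := v + c - (B a c / B a a) • a) (w := v + c)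
    (by simp [h.sd.comm0 a1, a2]) (by
      have e1 : σ (B a c / B a a) = B c a / B a a := by rw [map_div₀, h.sd.σ_map, h.sd.σ_map]; ring
      simp only [map_sub, map_add, LinearMap.map_smulₛₗ, LinearMap.sub_apply, LinearMap.add_apply,
        LinearMap.smul_apply, e1, a1, c1, c4, h.sd.comm0 a1, h.sd.comm0 c1, smul_eq_mul,
        RingHom.id_apply]
      exact fun e => a3 (by field_simp at e; linear_combination e)) c3 (s := B a c / B a a) (t := 1)
    (by simp)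
  obtain ⟨u4, u5⟩ := h.inv_iff.2 ⟨u, u1, rfl⟩
  obtain ⟨a4, a5⟩ := h.inv_iff.2 ⟨a, a2, rfl⟩
  exact ⟨_, _, a4, a5, u4, u5, (h.comm_iff hv a2).2 (.inr a1), u2, u3⟩

omit hq [Finite G] in
theorem exists_conj (hv : B v v ≠ 0) {x : G} (h1 : x ≠ 1) (h2 : x * x = 1) :
    ∃ g, g * τ v * g⁻¹ = x := by
  obtain ⟨w, hw, rfl⟩ := h.inv_iff.1 ⟨h1, h2⟩
  obtain ⟨c, hc⟩ := exists_conj_mul_eq hσ h.sd.invol (c := B v v / B w w) (by
    rw [map_div₀, h.sd.σ_map, h.sd.σ_map]; ring)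
  have h3 : B (c • w) (c • w) = B v v := by
    simp [← mul_assoc, mul_comm c (σ c), hc, hw]
  obtain ⟨g, g1, g2⟩ := h.sd.witt_SUG (e := fun _ : Unit => v) (f := fun _ => c • w)
    (linearIndependent_unique_iff.2 (by rintro rfl; simp at hv))
    (linearIndependent_unique_iff.2 fun e => by simp [← h3, e] at hv) (fun _ _ => h3)
    (.inr (by simp [h.dim]))
  exact ⟨e.symm ⟨g, g1⟩, by
    rw [h.conj hv, e.apply_symm_apply, en_apply, g2 (), (h.eq_iff hw (h3 ▸ hv)).2 ⟨c, rfl⟩]⟩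

omit hσ hq [Finite F] [Finite G] in
theorem card_third (hv : B v v ≠ 0) {x : G} (h1 : x ≠ 1) (h2 : x * x = 1) (h3 : x ≠ τ v)
    (h4 : Commute (τ v) x) : Nat.card {y : G // y ≠ 1 ∧ y * y = 1 ∧ y ≠ τ v ∧ y ≠ x ∧
      Commute (τ v) y ∧ Commute x y} = 1 := by
  obtain ⟨w, hw, rfl⟩ := h.inv_iff.1 ⟨h1, h2⟩
  have h5 := ((h.comm_iff hv hw).1 h4).resolve_left h3.symm
  obtain ⟨u, u0, u1, u2⟩ := h.exists_perp v w
  have u3 : B u u ≠ 0 := fun e => u0 (h.eq_zero hv hw h5 u0 u1 u2 u1 u2 e)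
  have h6 : ∀ {v}, B v v ≠ 0 → B v u = 0 → τ u ≠ τ v := fun hv e e' => by
    obtain ⟨c, rfl⟩ := (h.eq_iff u3 hv).1 e'
    simp [u3, h.sd.σ_eq_zero] at hv e
    exact hv e
  refine Nat.card_eq_one_iff_exists.2 ⟨⟨τ u, and_assoc.1 ⟨h.inv_iff.2 ⟨u, u3, rfl⟩, h6 hv u1, h6 hw u2,
    (h.comm_iff hv u3).2 (.inr u1), (h.comm_iff hw u3).2 (.inr u2)⟩⟩, ?_⟩
  rintro ⟨y, y1, y2, y3, y4, y5, y6⟩
  obtain ⟨a, ha, rfl⟩ := h.inv_iff.1 ⟨y1, y2⟩
  have a1 := ((h.comm_iff hv ha).1 y5).resolve_left y3.symm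
  have a2 := ((h.comm_iff hw ha).1 y6).resolve_left y4.symm
  exact Subtype.ext ((h.eq_iff u3 ha).2 ⟨B u a / B u u, sub_eq_zero.1
    (h.eq_zero hv hw h5 u0 u1 u2 (by simp [a1, u1]) (by simp [a2, u2]) (by simp [u3]))⟩).symm

theorem card_cent (hv : B v v ≠ 0) :
    Nat.card (Subgroup.centralizer {τ v}) = q * (q + 1) * (q ^ 2 - 1) := by
  have h1 := card_eq_card_mul_card_stabilizer (G := ConjAct G) (τ v) (fun x => x ≠ 1 ∧ x * x = 1)
    fun x => ⟨fun hx => h.exists_conj hσ hv hx.1 hx.2, by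
      rintro ⟨g, rfl⟩
      exact h.inv_iff.2 ⟨_, by rwa [en_map], (h.conj hv _).symm⟩⟩
  have h2 := h.sd.card_SUG_unitary hσ (by simp [h.dim])
  have h3 := hq ▸ two_le_q0 (σ := σ)
  rw [← Nat.card_congr e.toEquiv, show Nat.card G = _ from h1, h.card_inv hσ hq, hq, h.dim,
    ← Subgroup.nat_card_centralizer_nat_card_stabilizer] at h2
  refine mul_left_cancel₀ (a := (q + 1) * (q ^ 2 * (q ^ 2 - q + 1))) (by positivity) ?_
  rw [mul_assoc, h2]
  simp only [guOrd, Finset.prod_range_succ]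
  zify [show 1 ≤ q ^ 2 by nlinarith, show q ≤ q ^ 2 by nlinarith]
  simp
  ring

end SUI

theorem exists_sui_SU [Fintype F] {q : ℕ} (hq : Odd q) (hF : Fintype.card F = q ^ 2) :
    ∃ τ, SUI (uB hF 3) (suEquiv hF 3) τ :=
  exists_sui (sd_uB hF 3) (by simp) (two_ne_zero_of_odd_card (hF ▸ hq.pow)) _

end Cfsg.Agent.H13
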