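import Mathlib
import Cfsg.Agent.H13.Low6
import Cfsg.Agent.H13.Two

/-! The isometry group of the `E₆` lattice, reduced modulo two and three. -/

set_option autoImplicit false

namespace Cfsg.Agent.H13

open Module QuadraticMap Matrix
open scoped commutatorElement

/-- An action on a form with a radical line induces one on a complement. -/
theorem exists_radical_hom {F V G : Type*} [Field F] [AddCommGroup V] [Module F V] [Group G]
    {Q : QuadraticForm F V} {r : V} (h0 : Q r = 0) (h1 : ∀ x, polar Q r x = 0) (φ : Dual F V)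
    (hφ : φ r = 1) (ρ : Representation F G V) (h2 : ∀ g x, Q (ρ g x) = Q x)
    (h3 : ∀ g, ∃ c : F, ρ g r = c • r) : ∃ f : G →* OG (Q.restrict (LinearMap.ker φ)),
      ∀ g x, ((f g).1 x : V) = ρ g x - φ (ρ g x) • r := by
  let L : G → End F (LinearMap.ker φ) := fun g => LinearMap.codRestrict _
    ((ρ g - (φ ∘ₗ ρ g).smulRight r) ∘ₗ (LinearMap.ker φ).subtype) fun x => by simp [hφ]
  have hL : ∀ g x, (L g x : V) = ρ g x - φ (ρ g x) • r := fun g x => rfl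
  refine ⟨ogHom ⟨⟨L, LinearMap.ext fun x => Subtype.ext ?_⟩,
    fun g g' => LinearMap.ext fun x => Subtype.ext ?_⟩ fun g x => ?_, hL⟩
  · simp [hL, LinearMap.mem_ker.1 x.2]
  · obtain ⟨c, hc⟩ := h3 g
    simp only [hL, End.mul_apply, map_mul, map_sub, map_smul, hc, hφ, smul_eq_mul]
    module
  · change Q (L g x) = Q x
    rw [hL, Q_sub, Q_smul, h0, polar_smul_right, polar_comm, h1, h2]
    simp

/-- The quadratic form of the root lattice `E₆`. -/
def e6Q (R : Type*) [CommRing R] : QuadraticForm R (Fin 6 → R) :=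
  proj 0 0 + proj 1 1 + proj 2 2 + proj 3 3 + proj 4 4 + proj 5 5 -
    (proj 0 2 + proj 2 3 + proj 1 3 + proj 3 4 + proj 4 5)

theorem e6Q_apply {R : Type*} [CommRing R] (x : Fin 6 → R) : e6Q R x =
    x 0 * x 0 + x 1 * x 1 + x 2 * x 2 + x 3 * x 3 + x 4 * x 4 + x 5 * x 5 -
      (x 0 * x 2 + x 2 * x 3 + x 1 * x 3 + x 3 * x 4 + x 4 * x 5) := rfl

/-- The Cartan matrix applied to a vector. -/
def e6C {R : Type*} [CommRing R] (x : Fin 6 → R) : Fin 6 → R :=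
  ![2 * x 0 - x 2, 2 * x 1 - x 3, 2 * x 2 - x 0 - x 3, 2 * x 3 - x 2 - x 1 - x 4,
    2 * x 4 - x 3 - x 5, 2 * x 5 - x 4]

theorem polar_e6Q {R : Type*} [CommRing R] (x y : Fin 6 → R) :
    polar (e6Q R) x y = e6C x ⬝ᵥ y := by
  simp only [polar, e6Q_apply, e6C, dotProduct, Fin.sum_univ_six, Pi.add_apply]
  simp
  ring

theorem e6C_eq_zero {R : Type*} [CommRing R] {x : Fin 6 → R} (h : ∀ y, polar (e6Q R) x y = 0) :
    e6C x = 0 := funext fun i => by simpa [polar_e6Q] using h (Pi.single i 1)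

theorem e6Q_nonneg (x : Fin 6 → ℤ) : 0 ≤ e6Q ℤ x ∧ (e6Q ℤ x = 0 → x = 0) := by
  have h : 120 * e6Q ℤ x = 30 * (2 * x 0 - x 2) ^ 2 + 30 * (2 * x 1 - x 3) ^ 2 +
      10 * (3 * x 2 - 2 * x 3) ^ 2 + 30 * (2 * x 5 - x 4) ^ 2 + 10 * (3 * x 4 - 2 * x 3) ^ 2 +
      10 * x 3 ^ 2 := by rw [e6Q_apply]; ring
  refine ⟨by nlinarith [sq_nonneg (2 * x 0 - x 2), sq_nonneg (2 * x 1 - x 3), sq_nonneg (x 3),
    sq_nonneg (3 * x 2 - 2 * x 3), sq_nonneg (2 * x 5 - x 4), sq_nonneg (3 * x 4 - 2 * x 3)], fun h0 => ?_⟩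
  rw [h0, mul_zero, eq_comm, add_eq_zero_iff_of_nonneg (by positivity) (by positivity),
    add_eq_zero_iff_of_nonneg (by positivity) (by positivity),
    add_eq_zero_iff_of_nonneg (by positivity) (by positivity),
    add_eq_zero_iff_of_nonneg (by positivity) (by positivity),
    add_eq_zero_iff_of_nonneg (by positivity) (by positivity)] at h
  simp only [mul_eq_zero, OfNat.ofNat_ne_zero, false_or, ne_eq, not_false_eq_true,
    pow_eq_zero_iff] at h
  ext i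
  fin_cases i <;> simp <;> omega

/-- The isometries of the lattice. -/
def e6G : Subgroup (GL (Fin 6) ℤ) where
  carrier := {g | ∀ x, e6Q ℤ (g.1 *ᵥ x) = e6Q ℤ x}
  mul_mem' {a b} ha hb x := by rw [Units.val_mul, ← mulVec_mulVec, ha, hb]
  one_mem' x := by simp
  inv_mem' {a} ha x := by rw [← ha, mulVec_mulVec, Units.mul_inv, one_mulVec]

/-- Reduction modulo `p`. -/
def e6Rep (p : ℕ) : Representation (ZMod p) e6G (Fin 6 → ZMod p) :=
  ((Matrix.toLinAlgEquiv' : _ ≃ₐ[ZMod p] _).toMonoidHom.comp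
    ((Int.castRingHom (ZMod p)).mapMatrix.toMonoidHom.comp (Units.coeHom _))).comp e6G.subtype

theorem e6Rep_cast (p : ℕ) (g : e6G) (x : Fin 6 → ℤ) :
    e6Rep p g (fun i => (x i : ZMod p)) = fun i => ((g.1.1 *ᵥ x) i : ZMod p) :=
  funext fun i => ((Int.castRingHom (ZMod p)).map_mulVec g.1.1 x i).symm

theorem e6Q_cast (p : ℕ) (x : Fin 6 → ℤ) : e6Q (ZMod p) (fun i => (x i : ZMod p)) = e6Q ℤ x := by
  simp [e6Q_apply]

theorem exists_cast (p : ℕ) (x : Fin 6 → ZMod p) : ∃ y : Fin 6 → ℤ, x = fun i => (y i : ZMod p) :=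
  ⟨fun i => (x i).cast, funext fun i => (ZMod.intCast_zmod_cast _).symm⟩

theorem e6Q_rep (p : ℕ) (g : e6G) (x : Fin 6 → ZMod p) :
    e6Q (ZMod p) (e6Rep p g x) = e6Q (ZMod p) x := by
  obtain ⟨y, rfl⟩ := exists_cast p x
  rw [e6Rep_cast, e6Q_cast, e6Q_cast, g.2]

theorem e6_refl_mulVec (r x : Fin 6 → ℤ) :
    (1 - vecMulVec r (e6C r)) *ᵥ x = x - polar (e6Q ℤ) r x • r := by
  rw [sub_mulVec, one_mulVec, vecMulVec_mulVec, polar_e6Q, op_smul_eq_smul]

/-- The reflection in a root. -/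
def e6Refl (r : Fin 6 → ℤ) (h : e6Q ℤ r = 1) : e6G :=
  have h1 : (1 - vecMulVec r (e6C r)) * (1 - vecMulVec r (e6C r)) = 1 :=
    Matrix.ext_of_mulVec_single fun i => by
      rw [← mulVec_mulVec, e6_refl_mulVec, e6_refl_mulVec, one_mulVec, polar_sub_right,
        polar_smul_right, polar_self, h]
      module
  ⟨⟨_, _, h1, h1⟩, fun x => by
    change e6Q ℤ ((1 - vecMulVec r (e6C r)) *ᵥ x) = _
    rw [e6_refl_mulVec, sub_eq_add_neg, QuadraticMap.map_add (e6Q ℤ), QuadraticMap.map_neg,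
      QuadraticMap.map_smul, h, polar_neg_right, polar_smul_right, polar_comm _ x]
    simp⟩

theorem e6Rep_refl (p : ℕ) {r : Fin 6 → ℤ} (h : e6Q ℤ r = 1) (x : Fin 6 → ZMod p) :
    e6Rep p (e6Refl r h) x =
      x - polar (e6Q (ZMod p)) (fun i => (r i : ZMod p)) x • fun i => (r i : ZMod p) := by
  obtain ⟨y, rfl⟩ := exists_cast p x
  rw [e6Rep_cast]
  change (fun i => (((1 - vecMulVec r (e6C r)) *ᵥ y) i : ZMod p)) = _
  rw [e6_refl_mulVec]
  ext i
  simp [polar, e6Q_apply]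

theorem e6_eq_of_two {g : e6G} (h : e6Rep 2 g = 1) : ∃ c : ℤ, (c = 1 ∨ c = -1) ∧ g.1.1 = c • 1 := by
  have h1 : ∀ i, ∃ c : ℤ, (c = 1 ∨ c = -1) ∧ g.1.1 *ᵥ Pi.single i 1 = c • Pi.single i 1 := fun i => by
    have h2 := e6Rep_cast 2 g (Pi.single i 1)
    rw [h] at h2
    have h3 : ∀ j, ∃ y, (g.1.1 *ᵥ Pi.single i 1) j = (Pi.single i 1 : Fin 6 → ℤ) j + 2 * y := fun j => by
      obtain ⟨y, hy⟩ := (ZMod.intCast_eq_intCast_iff_dvd_sub _ _ 2).1 (congrFun h2 j)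
      exact ⟨y, by push_cast at hy; linear_combination hy⟩
    choose y hy using h3
    have h4 : g.1.1 *ᵥ Pi.single i 1 = Pi.single i 1 + (2 : ℤ) • y := funext hy
    have h5 := g.2 (Pi.single i 1)
    have h6 : e6Q ℤ (Pi.single i 1) = 1 := by fin_cases i <;> rfl
    have h7 : e6Q ℤ y + e6Q ℤ (y + Pi.single i 1) = 1 := by
      rw [h4, QuadraticMap.map_add (e6Q ℤ), QuadraticMap.map_smul, polar_smul_right] at h5
      rw [QuadraticMap.map_add (e6Q ℤ), polar_comm, h6]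
      simp only [smul_eq_mul] at h5
      omega
    have h8 := e6Q_nonneg y
    have h9 := e6Q_nonneg (y + Pi.single i 1)
    by_cases h0 : e6Q ℤ y = 0
    · exact ⟨1, .inl rfl, by rw [h4, h8.2 h0]; simp⟩
    · refine ⟨-1, .inr rfl, ?_⟩
      rw [h4, eq_neg_of_add_eq_zero_left (h9.2 (by omega))]
      module
  choose c hc hc' using h1
  have h2 : ∀ i j, polar (e6Q ℤ) (Pi.single i 1) (Pi.single j 1) = -1 → c i = c j := fun i j hij => by
    have : polar (e6Q ℤ) (g.1.1 *ᵥ Pi.single i 1) (g.1.1 *ᵥ Pi.single j 1) =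
        polar (e6Q ℤ) (Pi.single i 1) (Pi.single j 1) := by
      simp only [polar, ← mulVec_add, g.2 _]
    rw [hc', hc', polar_smul_left, polar_smul_right, hij] at this
    rcases hc i with h3 | h3 <;> rcases hc j with h4 | h4 <;> simp_all
  refine ⟨c 3, hc 3, Matrix.ext_of_mulVec_single fun i => ?_⟩
  have h3 := h2 0 2 rfl
  have h4 := h2 2 3 rfl
  have h5 := h2 1 3 rfl
  have h6 := h2 3 4 rfl
  have h7 := h2 4 5 rfl
  rw [hc', smul_mulVec, one_mulVec]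
  congr 1
  fin_cases i <;> simp <;> omega

theorem e6_exists_root : ∀ v : Fin 6 → ZMod 2, e6Q (ZMod 2) v ≠ 0 →
    ∃ r ∈ ([![0, 0, 0, 0, 0, 1], ![0, 0, 0, 0, 1, 0], ![0, 0, 0, 0, 1, 1], ![0, 0, 0, 1, 0, 0],
      ![0, 0, 0, 1, 1, 0], ![0, 0, 0, 1, 1, 1], ![0, 0, 1, 0, 0, 0], ![0, 0, 1, 1, 0, 0],
      ![0, 0, 1, 1, 1, 0], ![0, 0, 1, 1, 1, 1], ![0, 1, 0, 0, 0, 0], ![0, 1, 0, 1, 0, 0],
      ![0, 1, 0, 1, 1, 0], ![0, 1, 0, 1, 1, 1], ![0, 1, 1, 1, 0, 0], ![0, 1, 1, 1, 1, 0],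
      ![0, 1, 1, 1, 1, 1], ![0, 1, 1, 2, 1, 0], ![0, 1, 1, 2, 1, 1], ![0, 1, 1, 2, 2, 1],
      ![1, 0, 0, 0, 0, 0], ![1, 0, 1, 0, 0, 0], ![1, 0, 1, 1, 0, 0], ![1, 0, 1, 1, 1, 0],
      ![1, 0, 1, 1, 1, 1], ![1, 1, 1, 1, 0, 0], ![1, 1, 1, 1, 1, 0], ![1, 1, 1, 1, 1, 1],
      ![1, 1, 1, 2, 1, 0], ![1, 1, 1, 2, 1, 1], ![1, 1, 1, 2, 2, 1], ![1, 1, 2, 2, 1, 0],
      ![1, 1, 2, 2, 1, 1], ![1, 1, 2, 2, 2, 1], ![1, 1, 2, 3, 2, 1], ![1, 2, 2, 3, 2, 1]] : List (Fin 6 → ℤ)), e6Q ℤ r = 1 ∧ v = fun i => (r i : ZMod 2) := by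
  simp only [e6Q_apply]
  decide +kernel

theorem nd_e6_two : ND (e6Q (ZMod 2)) := fun x hx => by
  have := e6C_eq_zero hx
  revert x
  intro x _
  revert x
  decide +kernel

theorem not_isPlus_e6 : ¬ IsPlus (e6Q (ZMod 2)) := by
  rw [nd_e6_two.isPlus_iff_nz (m := 3) (by simp) (by simp), nz, Nat.card_eq_fintype_card,
    Nat.card_eq_fintype_card]
  simp only [e6Q_apply]
  decide +kernel

theorem e6_radical_three : ∀ x : Fin 6 → ZMod 3, e6C x = 0 → x = x 0 • ![1, 0, -1, 0, 1, -1] := by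
  decide +kernel

theorem exists_e6_equiv : ∃ (V : Type) (_ : AddCommGroup V) (_ : Module (ZMod 3) V)
    (_ : FiniteDimensional (ZMod 3) V) (Q : QuadraticForm (ZMod 3) V), ND Q ∧ finrank (ZMod 3) V = 5 ∧
    Nonempty (POm (e6Q (ZMod 2)) ≃* POm Q) := by
  let r : Fin 6 → ZMod 3 := ![1, 0, -1, 0, 1, -1]
  have h1 : ∀ x, polar (e6Q (ZMod 3)) r x = 0 := fun x => by
    rw [polar_e6Q, show e6C r = 0 by decide, zero_dotProduct]
  let φ : Dual (ZMod 3) (Fin 6 → ZMod 3) := LinearMap.proj 0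
  obtain ⟨f3, hf3⟩ := exists_radical_hom (r := r) (by decide) h1 φ rfl (e6Rep 3) (e6Q_rep 3) fun g =>
    ⟨_, e6_radical_three _ (e6C_eq_zero fun y => by
      have := OG_polar (ogHom _ (e6Q_rep 3) g) r ((ogHom _ (e6Q_rep 3) g)⁻¹.1 y)
      rwa [OG_apply_inv, h1] at this)⟩
  have hQ : ND ((e6Q (ZMod 3)).restrict (LinearMap.ker φ)) := fun x hx => Subtype.ext (by
    have := e6_radical_three x (e6C_eq_zero fun y => by
      have h2 : polar (e6Q (ZMod 3)) x (y - φ y • r) = 0 := hx ⟨y - φ y • r, by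
        rw [LinearMap.mem_ker, map_sub, map_smul, show φ r = 1 from rfl]; simp⟩
      rwa [polar_sub_right, polar_smul_right, polar_comm _ _ r, h1, smul_zero, sub_zero] at h2)
    rw [this, show x.1 0 = 0 from x.2, zero_smul]; rfl)
  have hV : finrank (ZMod 3) (LinearMap.ker φ) = 5 := by
    have := φ.finrank_range_add_finrank_ker
    rw [LinearMap.range_eq_top.2 (Function.surjective_eval 0)] at this
    simp at this
    omega
  refine ⟨_, _, _, inferInstance, _, hQ, hV, ?_⟩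
  have h6 : finrank (ZMod 2) (Fin 6 → ZMod 2) = 6 := by simp
  have hG : Good (e6Q (ZMod 2)) := good_of_five (by omega)
  have hG3 := good_of_five (Q := (e6Q (ZMod 3)).restrict (LinearMap.ker φ)) hV.ge
  let f2 := ogHom _ (e6Q_rep 2)
  have hf2 : f2.range = ⊤ := nd_e6_two.eq_top_of_refl hG _ fun v hv => by
    obtain ⟨r, -, hr, rfl⟩ := e6_exists_root v hv
    refine ⟨e6Refl r hr, OG_ext fun x => ?_⟩
    rw [ogHom_apply, e6Rep_refl, refl_apply, e6Q_cast, hr]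
    simp
  let g2 : commutator e6G →* POm (e6Q (ZMod 2)) := (QuotientGroup.mk' _).comp
    ((f2.comp (Subgroup.subtype _)).codRestrict _ fun g => map_mem_commutator f2 g.2)
  let g3 : commutator e6G →* POm _ := (QuotientGroup.mk' _).comp
    ((f3.comp (Subgroup.subtype _)).codRestrict _ fun g => map_mem_commutator f3 g.2)
  have hs : Function.Surjective g2 := fun x => by
    obtain ⟨⟨x, hx⟩, rfl⟩ := QuotientGroup.mk_surjective x
    have hx' : x ∈ (commutator e6G).map f2 := by rwa [map_commutator_eq, hf2]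
    obtain ⟨y, hy, rfl⟩ := hx'
    exact ⟨⟨y, hy⟩, rfl⟩
  have hk : g2.ker ≤ g3.ker := fun g hg => by
    have h2 := (QuotientGroup.eq_one_iff _).1 hg
    rw [nd_e6_two.center_Om_eq_bot hG (by omega) (.inl rfl)] at h2
    obtain ⟨c, hc, hc'⟩ := e6_eq_of_two (g := g.1) (LinearMap.ext fun x =>
      congrArg (fun k : Om _ => k.1.1 x) (Subgroup.mem_bot.1 h2))
    refine (QuotientGroup.eq_one_iff _).2 ((hQ.mem_center_Om_iff hG3 (by omega) _).2
      (eq_one_or_negOne_of_smul (c := (c : ZMod 3)) (by rcases hc with rfl | rfl <;> rfl)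
        fun x => Subtype.ext ?_))
    have h3 : e6Rep 3 g.1 x.1 = (c : ZMod 3) • x.1 := by
      obtain ⟨y, hy⟩ := exists_cast 3 x.1
      rw [hy, e6Rep_cast, hc']
      ext i
      simp
    refine (hf3 g.1 x).trans ?_
    rw [h3, map_smul, LinearMap.mem_ker.1 x.2]
    simp
  let ψ := g2.liftOfSurjective hs ⟨g3, hk⟩
  have := nd_e6_two.isSimpleGroup_POm (by omega)
  refine ⟨MulEquiv.ofBijective ψ ((Nat.bijective_iff_injective_and_card _).2 ⟨?_, ?_⟩)⟩
  · rw [← MonoidHom.ker_eq_bot_iff]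
    refine (ψ.normal_ker.eq_bot_or_eq_top).resolve_right fun h => ?_
    let a := e6Refl ![0, 0, 0, 0, 1, 0] rfl
    let b := e6Refl ![0, 0, 0, 0, 0, 1] rfl
    have h2 : g3 ⟨⁅a, b⁆, Subgroup.commutator_mem_commutator (Subgroup.mem_top _) (Subgroup.mem_top _)⟩ = 1 := by
      rw [← g2.liftOfRightInverse_comp_apply _ _ ⟨g3, hk⟩]
      exact (h ▸ Subgroup.mem_top _ : _ ∈ ψ.ker)
    have h3 := (hQ.mem_center_Om_iff hG3 (by omega) _).1 ((QuotientGroup.eq_one_iff _).1 h2)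
    have h4 := hf3 ⁅a, b⁆ ⟨fun i => ((![0, 0, 0, 0, 0, 1] : Fin 6 → ℤ) i : ZMod 3), rfl⟩
    rw [e6Rep_cast] at h4
    rcases h3 with h3 | h3 <;> rw [show f3 ⁅a, b⁆ = _ from h3] at h4 <;>
      exact absurd (congrFun h4 4) (by decide)
  · have h2 := nd_e6_two.card_POm_minus hG not_isPlus_e6 (m := 3) (by omega) h6
    have h3 := hQ.card_POm_odd (m := 2) (by omega) hV
    simp [Finset.prod_range_succ] at h2 h3
    omega

end Cfsg.Agent.H13
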