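import Cfsg.Agent.H13.Wall2

/-!
The type of a quadratic space with a fixed point free isometry of prime order.
-/

set_option autoImplicit false

namespace Cfsg.Agent.H13

open Module H28 Polynomial QuadraticMap

universe u

variable {F : Type u} {V W : Type*} [Field F] [AddCommGroup V] [Module F V] [AddCommGroup W] [Module F W]
  {Q : QuadraticForm F V} {R : QuadraticForm F W}

local notation "K" => AlgebraicClosure F
local notation "ι" => algebraMap F (AlgebraicClosure F)

theorem polar_map {a : End F V} (ha : ∀ x, Q (a x) = Q x) (x y : V) :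
    polar Q (a x) (a y) = polar Q x y := by simp [polar, ← map_add, ha]

theorem ND.prod (hQ : ND Q) (hR : ND R) : ND (Q.prod R) := fun x hx => Prod.ext
  (hQ _ fun y => by simpa using hx (y, 0)) (hR _ fun y => by simpa using hx (0, y))

theorem exists_eigen_mod {a : End F V} {U U' : Submodule F V} (hU' : ∀ w ∈ U', a w ∈ U')
    (s : Multiset F) {v : V} (hv : v ∈ U') (hv' : v ∉ U)
    (h : aeval a (s.map (X - C ·)).prod v ∈ U) : ∃ u ∈ U', u ∉ U ∧ ∃ c ∈ s, a u - c • u ∈ U := by
  induction s using Multiset.induction_on generalizing v with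
  | empty => exact absurd (by simpa using h) hv'
  | cons c s ih =>
    by_cases h1 : a v - c • v ∈ U
    · exact ⟨v, hv, hv', c, by simp, h1⟩
    · obtain ⟨u, h2, h3, d, h4, h5⟩ := ih (U'.sub_mem (hU' v hv) (U'.smul_mem c hv)) h1 (by
        rw [Multiset.map_cons, Multiset.prod_cons, mul_comm, map_mul] at h
        simpa only [End.mul_apply, aeval_sub, aeval_X, aeval_C, LinearMap.sub_apply,
          algebraMap_end_apply] using h)
      exact ⟨u, h2, h3, d, by simp [h4], h5⟩

variable [FiniteDimensional F V] [FiniteDimensional F W]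

theorem ND.isPlus_of_split (hQ : ND Q) {a : End F V} (ha : ∀ x, Q (a x) = Q x) {s : Multiset F}
    (hs : aeval a (s.map (X - C ·)).prod = 0) (h : ∀ c ∈ s, c ^ 2 ≠ 1) : IsPlus Q := by
  obtain ⟨U, ⟨h1, h2⟩, h3⟩ := (wellFounded_gt (α := Submodule F V)).has_min
    {U | (∀ w ∈ U, a w ∈ U) ∧ ∀ w ∈ U, Q w = 0} ⟨⊥, by simp⟩
  have h4 : perp Q U ≤ U := fun v hv => by
    by_contra hv'
    obtain ⟨u, h5, h6, c, h7, h8⟩ := exists_eigen_mod (a := a) (fun w hw => mem_perp.2 fun x hx => by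
      obtain ⟨y, hy⟩ := exists_sub_of_inj (a := a.restrict h1) (c := 0) (fun v hv => Subtype.ext
        (hQ _ fun y => by rw [← polar_map ha, show a v = 0 by simpa using congrArg Subtype.val hv]; simp))
        ⟨x, hx⟩
      rw [show x = a y by simpa using (congrArg Subtype.val hy).symm, polar_map ha]
      exact mem_perp.1 hw _ y.2) s hv hv' (by simp [hs])
    have h9 : Q u = 0 := by
      have := Q_add Q (a u - c • u) (c • u)
      rw [sub_add_cancel, ha, h2 _ h8, Q_smul, polar_smul_right, mem_perp.1 h5 _ h8] at this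
      exact (mul_eq_zero.1 (by linear_combination -this)).resolve_left (sub_ne_zero.2 (h c h7))
    refine h3 (U ⊔ F ∙ u) ⟨fun w hw => ?_, fun w hw => ?_⟩ (left_lt_sup.2 (by simpa))
    all_goals
      obtain ⟨x, hx, _, hy, rfl⟩ := Submodule.mem_sup.1 hw
      obtain ⟨d, rfl⟩ := Submodule.mem_span_singleton.1 hy
    · rw [map_add, map_smul, ← sub_add_cancel (a u) (c • u)]
      exact add_mem (Submodule.mem_sup_left (h1 x hx)) (Submodule.smul_mem _ _
        (Submodule.add_mem_sup h8 (Submodule.smul_mem _ _ (Submodule.mem_span_singleton_self u))))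
    · simp [Q_add, h2 x hx, Q_smul, h9, mem_perp.1 h5 _ hx]
  exact ⟨U, by rw [← hQ.finrank_perp U, le_antisymm h4 (le_perp_of_singular h2), two_mul], h2⟩

theorem isPlus_cancel {W' : Type*} [AddCommGroup W'] [Module F W'] [FiniteDimensional F W']
    {R' : QuadraticForm F W'} (hQ : ND Q) (hR' : ND R') (e : (V × W) ≃ₗ[F] (V × W'))
    (he : ∀ x, (Q.prod R') (e x) = (Q.prod R) x) (h : IsPlus R) : IsPlus R' := by
  let b := finBasis F V
  obtain ⟨g, hg⟩ := (hQ.prod hR').witt (e := fun i => (b i, 0)) (f := fun i => e (b i, 0))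
    (b.linearIndependent.map' (.inl F V W') (by simp [Submodule.ker_inl]))
    ((b.linearIndependent.map' (.inl F V W) (by simp [Submodule.ker_inl])).map' e.toLinearMap e.ker)
    (fun i j => by simp [polar, ← map_add, he]) fun i => by simp [he]
  let f := e.trans g.1.symm
  have h1 (x) : (Q.prod R') (f x) = (Q.prod R) x := (OG_map g⁻¹ _).trans (he x)
  have h2 : f.toLinearMap ∘ₗ .inl F V W = .inl F V W' := b.ext fun i => by simp [f, ← hg]
  have h3 (w : W) : (f (0, w)).1 = 0 := hQ _ fun v => by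
    have := h1 ((0, w) + (v, 0))
    rw [map_add, Q_add, Q_add, h1, h1, show f (v, 0) = (v, 0) from LinearMap.congr_fun h2 v] at this
    simpa using this
  obtain ⟨U, hU, hU'⟩ := h
  let ψ := LinearMap.snd F V W' ∘ₗ f.toLinearMap ∘ₗ .inr F V W
  refine ⟨U.map ψ, ?_, ?_⟩
  · rw [← (U.equivMapOfInjective ψ ((injective_iff_map_eq_zero _).2 fun w hw => by
      simpa using f.map_eq_zero_iff.1 (Prod.ext (h3 w) hw))).finrank_eq, hU]
    simpa using e.finrank_eq
  · rintro _ ⟨w, hw, rfl⟩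
    simpa [ψ, h3, hU' w hw] using h1 (0, w)

variable [Fintype F]

theorem ND.equiv_of_isPlus_iff (hQ : ND Q) (hR : ND R) {m : ℕ} (hV : finrank F V = 2 * m)
    (hW : finrank F W = 2 * m) (h : IsPlus Q ↔ IsPlus R) : ∃ e : V ≃ₗ[F] W, ∀ v, R (e v) = Q v := by
  by_cases h1 : IsPlus Q
  · obtain ⟨e, he⟩ := hQ.equiv_QPlus h1 hV
    obtain ⟨e', he'⟩ := hR.equiv_QPlus (h.1 h1) hW
    exact ⟨e.trans e'.symm, fun v => by simp [← he, ← he']⟩
  · obtain _ | m := m
    · exact absurd ⟨⊥, by simp [hV], by simp⟩ h1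
    obtain ⟨a, b, hab⟩ := exists_anisotropic_binary F
    obtain ⟨e, he⟩ := hQ.equiv_QMinus h1 hV hab
    obtain ⟨e', he'⟩ := hR.equiv_QMinus (mt h.2 h1) hW hab
    exact ⟨e.trans e'.symm, fun v => by simp [← he, ← he']⟩

theorem ND.exists_compl (hQ : ND Q) (hR : ND R) {k m : ℕ} (hV : finrank F V = 2 * k)
    (hW : finrank F W = 2 * m) (h : k < m) : ∃ (U : Type u) (_ : AddCommGroup U) (_ : Module F U)
      (_ : FiniteDimensional F U) (S : QuadraticForm F U) (e : (V × U) ≃ₗ[F] W),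
      ∀ v, R (e v) = (Q.prod S) v := by
  obtain ⟨l, rfl⟩ := Nat.exists_eq_add_of_lt h
  obtain ⟨a, b, hab⟩ := exists_anisotropic_binary F
  have h1 := hQ.prod (nd_QPlus (m := l + 1))
  have h2 := hQ.prod (nd_QMinus (m := l) hab)
  by_cases h3 : IsPlus (Q.prod (QPlus (l + 1) F)) ↔ IsPlus R
  · exact ⟨_, _, _, inferInstance, _, h1.equiv_of_isPlus_iff hR (by simp [hV]; ring) hW h3⟩
  · refine ⟨_, _, _, inferInstance, _, h2.equiv_of_isPlus_iff hR (by simp [hV]; ring) hW ?_⟩
    by_contra h4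
    obtain ⟨e, he⟩ := h1.equiv_of_isPlus_iff h2 (m := k + l + 1) (by simp [hV]; ring)
      (by simp [hV]; ring) (by tauto)
    exact not_isPlus_QMinus hab (isPlus_cancel hQ (nd_QMinus hab) e he (isPlus_QPlus _))

omit [Fintype F] [FiniteDimensional F V] in
theorem card_modEq_one [Finite V] {a : End F V} {r : ℕ} [Fact r.Prime] (h : a ^ r = 1)
    (h1 : ∀ v, a v = v → v = 0) {p : V → Prop} (h0 : p 0) (hp : ∀ v, p v → p (a v)) :
    (Nat.card {v // p v} : ZMod r) = 1 := by
  classical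
  have := Fintype.ofFinite {v // p v}
  let f : Function.End {v // p v} := fun v => ⟨a v, hp _ v.2⟩
  have h2 (j : ℕ) (v) : ((f ^ j) v).1 = (a ^ j) v := by
    induction j with
    | zero => rfl
    | succ j ih => rw [pow_succ', pow_succ', End.mul_apply, ← ih]; rfl
  have h3 := Equiv.Perm.card_fixedPoints_modEq (f := f) (p := r) (n := 1)
    (funext fun v => Subtype.ext (by rw [h2, pow_one, h]; rfl))
  rw [Nat.card_eq_fintype_card, (ZMod.natCast_eq_natCast_iff _ _ _).2 h3,
    (Fintype.card_eq_one_iff (α := f.fixedPoints)).2 ⟨⟨⟨0, h0⟩, Subtype.ext a.map_zero⟩, fun v =>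
      Subtype.ext (Subtype.ext (h1 _ (congrArg Subtype.val v.2)))⟩, Nat.cast_one]

theorem ND.isPlus_iff_fpf (hQ : ND Q) {m : ℕ} (hV : finrank F V = 2 * m) {a : End F V}
    (ha : ∀ x, Q (a x) = Q x) {r : ℕ} (hr : r.Prime) (hr2 : r ≠ 2) (h : a ^ r = 1)
    (h1 : ∀ x ∈ rts a, x ≠ 1) {i : ℕ} (hi : i = orderOf (Fintype.card F : ZMod r)) :
    IsPlus Q ↔ Odd i ∨ Even (2 * m / i) := by
  have := Fact.mk hr
  have : Finite V := Module.finite_of_finite F
  have h2 (v) (hv : a v = v) : v = 0 := by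
    by_contra h0
    exact h1 _ (mem_rts_of_apply h0 (c := 1) (by simpa)) (by simp)
  have h3 (x) (hx : x ∈ rts a) : x ^ r = 1 := by
    simpa using pow_eq_of_mem_rts hx (c := 1) (by simpa using h)
  by_cases hq : (Fintype.card F : ZMod r) = 1
  · have h4 (x) (hx : x ∈ rts a) : ι (Function.invFun ι x) = x := by
      refine Function.invFun_eq (exists_of_pow_card ?_)
      rw [pow_eq_pow_mod _ (h3 x hx), (ZMod.natCast_eq_natCast_iff' _ 1 r).1 (by simpa using hq),
        Nat.mod_eq_of_lt hr.one_lt, pow_one]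
    refine iff_of_true (hQ.isPlus_of_split ha (s := (rts a).map (Function.invFun ι)) ?_ ?_)
      (by simp [hi, hq])
    · rw [← a.aeval_self_charpoly]
      congr 1
      refine Polynomial.map_injective ι (ι).injective ?_
      rw [(IsAlgClosed.splits _).eq_prod_roots_of_monic (a.charpoly_monic.map _),
        Polynomial.map_multiset_prod, Multiset.map_map, Multiset.map_map]
      exact congrArg _ (Multiset.map_congr rfl fun x hx => by simp [h4 x hx])
    · simp only [Multiset.forall_mem_map_iff]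
      exact fun x hx h5 => sq_ne_one_of_dvd hr hr2 (orderOf_eq_prime (h3 x hx) (h1 x hx)).symm.dvd
        (by rw [← h4 x hx, ← map_pow, h5, map_one])
  obtain _ | m := m
  · exact iff_of_true ⟨⊥, by simp [hV], by simp⟩ (by simp)
  have h4 := card_modEq_one h h2 (p := fun _ => True) trivial fun _ _ => trivial
  rw [Nat.card_congr (Equiv.subtypeUnivEquiv fun _ => trivial), card_eq_pow (F := F), hV,
    Nat.card_eq_fintype_card, Nat.cast_pow] at h4
  have h5 (ε : ℤ) (hε) := congrArg (Int.cast : ℤ → ZMod r) (count_even ε m hQ hV hε).1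
  simp only [Int.cast_natCast, nz, card_modEq_one h h2 (p := fun v => Q v = 0) Q.map_zero
    fun v hv => (ha v).trans hv, Nat.card_eq_fintype_card] at h5
  push_cast at h5
  set x := (Fintype.card F : ZMod r)
  have h6 : IsPlus Q ↔ x ^ (m + 1) = 1 := by
    have : Fact (2 < r) := ⟨by have := hr.two_le; omega⟩
    by_cases hP : IsPlus Q
    · refine iff_of_true hP (sub_eq_zero.1 ((mul_eq_zero.1 ?_).resolve_left (sub_ne_zero.2 hq)))
      linear_combination (exp := 1) -x * h5 1 (.inl ⟨hP, rfl⟩) - h4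
    · refine iff_of_false hP fun h6 => ZMod.neg_one_ne_one (n := r) (sub_eq_zero.1
        ((mul_eq_zero.1 ?_).resolve_left (sub_ne_zero.2 hq)))
      linear_combination (exp := 1) -x * h5 (-1) (.inr ⟨hP, rfl⟩) - h4 + (x - 1) * h6
  obtain ⟨c, hc⟩ := hi ▸ orderOf_dvd_of_pow_eq_one h4
  have h7 : 0 < i := Nat.pos_of_mul_pos_right (b := c) (by omega)
  rw [h6, ← orderOf_dvd_iff_pow_eq_one, ← hi, hc, Nat.mul_div_cancel_left _ h7]
  refine ⟨fun ⟨d, hd⟩ => .inr ⟨d, Nat.eq_of_mul_eq_mul_left h7 (by rw [← hc, hd]; ring)⟩, ?_⟩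
  rintro (h8 | ⟨d, rfl⟩)
  · exact (Nat.coprime_two_right.2 h8).dvd_of_dvd_mul_left ⟨c, hc⟩
  · exact ⟨d, by linarith⟩

omit [Fintype F] in
theorem exists_quad {B : V →ₛₗ[RingHom.id F] V →ₗ[F] F} (D : H12.SD B) {a : End F V} (ha : Pres B a)
    (h : ∀ v, a (a v) = v → v = 0) : ∃ Q : QuadraticForm F V, ND Q ∧ ∀ x, Q (a x) = Q x :=
  ⟨LinearMap.BilinMap.toQuadraticMap ((B : V →ₗ[F] V →ₗ[F] F) ∘ₗ a), fun x hx =>
    h x (sub_eq_zero.1 (D.sep _ fun y => by
      obtain ⟨y, rfl⟩ := D.wittData.nds.surj ha y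
      have := hx y
      rw [LinearMap.BilinMap.polar_toQuadraticMap] at this
      change B (a x) y + B (a y) x = 0 at this
      rw [← ha, D.skew x] at this
      simpa [sub_eq_add_neg] using this)), fun v => ha (a v) v⟩

omit [Fintype F] [FiniteDimensional F V] [FiniteDimensional F W] in
theorem Rl.exists_sim_quad {G : Type*} [Group G] {ρ : G →* End F V}
    (h : Rl (σ := RingHom.id F) ρ (polarBilin Q) Q) (e : W ≃ₗ[F] V) {c : F}
    (he : ∀ x, Q (e x) = c * R x) {a : End F W} (ha : ∀ x, R (a x) = R x) : ∃ g, Sim a (ρ g) :=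
  h.exists_sim e (c := c) (B' := polarBilin R) (fun x y => by simp [polar, ← map_add, he, mul_sub])
    he (polar_map ha) ha

omit [Fintype F] in
theorem inj_sq_of_prime {a : End F V} {r : ℕ} (hr : r.Prime) (hr2 : r ≠ 2) (h : a ^ r = 1)
    (h1 : ∀ x ∈ rts a, x ≠ 1) : ∀ v, a (a v) = v → v = 0 :=
  have := Fact.mk hr
  inj_sq_of_rts fun x hx => sq_ne_one_of_dvd hr hr2 (orderOf_eq_prime
    (by simpa using pow_eq_of_mem_rts hx (c := 1) (by simpa using h)) (h1 x hx)).symm.dvd

theorem card_classes_O {G : Type*} [Group G] {ρ : G →* End F V} (hQ : ND Q)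
    (h : Rl (σ := RingHom.id F) ρ (polarBilin Q) Q) {m : ℕ} (hm : 1 ≤ m) (hV : finrank F V = 2 * m)
    {p r : ℕ} [Fact p.Prime] [CharP F p] (hr : r.Prime)
    (hr2 : r ≠ 2) (hrp : r ≠ p) {i s : ℕ} (hi : i = orderOf (Fintype.card F : ZMod r))
    (hs : s * i = r - 1) (c : Prop) [Decidable c] (hc : c ↔ ¬ (IsPlus Q ↔ Odd i ∨ Even (2 * m / i))) :
    Nat.card {C : ConjClasses G // ∃ g, ConjClasses.mk g = C ∧ orderOf g = r} =
      (2 * m / ((if Odd i then 2 else 1) * i) + s / (if Odd i then 2 else 1)).choose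
        (s / (if Odd i then 2 else 1)) - 1 - if (if Odd i then 2 else 1) * i ∣ 2 * m ∧ c then
        (2 * m / ((if Odd i then 2 else 1) * i) + s / (if Odd i then 2 else 1) - 1).choose
          (s / (if Odd i then 2 else 1) - 1) else 0 := by
  rw [card_classes_bil h (wittData_quad Q hQ) hr hr2 hrp hi hs c (by omega) (fun g hg h1 => by
    rw [hc, not_not]
    exact hQ.isPlus_iff_fpf hV (h.map g) hr hr2 (by rw [← map_pow, hg, map_one]) h1 hi)
    fun n B a hB ha h1 h2 h3 h4 => ?_, hV]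
  obtain ⟨k, hk⟩ := hB.even_finrank
  obtain ⟨S, hS, hS'⟩ := exists_quad hB ha (inj_sq_of_prime hr hr2 h1 h2)
  rw [← two_mul] at hk
  obtain rfl : n = 2 * k := by simpa using hk
  rcases (show k ≤ m by omega).eq_or_lt with rfl | h5
  · obtain ⟨e, he⟩ := hS.equiv_of_isPlus_iff hQ hk hV (by
      rw [hS.isPlus_iff_fpf hk hS' hr hr2 h1 h2 hi]; tauto)
    obtain ⟨g, hg⟩ := h.exists_sim_quad e (c := 1) (by simpa) hS'
    exact ⟨g, nr_of_sim h.inj (U := PUnit) (.trans ⟨.prodUnique, fun _ => rfl⟩ hg) h1 h2⟩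
  · obtain ⟨U, _, _, _, T, e, he⟩ := hS.exists_compl hQ hk hV h5
    obtain ⟨g, hg⟩ := h.exists_sim_quad e (c := 1) (R := S.prod T) (a := a.prodMap 1) (by simpa using he)
      (by simp [hS'])
    exact ⟨g, nr_of_sim h.inj hg h1 h2⟩

end Cfsg.Agent.H13
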