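import Cfsg.Agent.H13.Wall2
import Cfsg.Agent.H13.QEU

/-!
Determinants on centralizers in unitary groups; self-dual polynomials.
-/

set_option autoImplicit false

namespace Cfsg.Agent.H13

open Module H28 Polynomial

universe u

variable {F : Type u} {V : Type*} [Field F] [AddCommGroup V] [Module F V] {σ : F →+* F}
  {B : V →ₛₗ[σ] V →ₗ[F] F}

local notation "K" => AlgebraicClosure F
local notation "ι" => algebraMap F (AlgebraicClosure F)

theorem exists_sd_jt (hσ : σ ≠ RingHom.id F) (hσ2 : ∀ a, σ (σ a) = a) (M : Multiset ℕ) :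
    ∃ (V : Type u) (_ : AddCommGroup V) (_ : Module F V) (_ : FiniteDimensional F V)
      (B : V →ₛₗ[σ] V →ₗ[F] F) (a : End F V), H12.SD B ∧ Pres B a ∧ ed a = M.map (upp F) := by
  induction M using Multiset.induction_on with
  | empty => exact ⟨_, _, _, inferInstance, 0, _, ⟨hσ2, by simp, fun _ _ => Subsingleton.elim _ _,
      fun _ => ⟨0, by simp⟩⟩, fun _ _ => rfl, ed_model 0⟩
  | cons k M ih =>
    obtain ⟨V, _, _, _, B, a, h1, h2, h3⟩ := ih
    obtain ⟨θ, hθ⟩ : ∃ θ, θ ≠ (-1) ^ (k - 1) * σ θ := by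
      by_contra! h
      exact hσ (RingHom.ext fun x => by simpa [← show (1 : F) = _ by simpa using h 1] using (h x).symm)
    obtain ⟨B', h4, h5⟩ := exists_sd_unip hσ2 hθ
    exact ⟨_, _, _, inferInstance, _, _, sd_sumB h4 h1, h5.prodMap h2, by
      rw [ed_prodMap, h3, Multiset.map_cons, ← Multiset.singleton_add, ← ed_cyc]; rfl⟩

theorem card_fixed_semilinear [Finite V] (hσ : σ ≠ RingHom.id F) (hσ2 : ∀ a, σ (σ a) = a)
    (T : V →ₛₗ[σ] V) (hT : ∀ v, T (T v) = v) : Nat.card {v // T v = v} ^ 2 = Nat.card V := by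
  obtain ⟨θ, h⟩ := DFunLike.ne_iff.1 hσ
  have h0 : θ - σ θ ≠ 0 := sub_ne_zero.2 (Ne.symm h)
  rw [sq, ← Nat.card_prod]
  refine Nat.card_congr (.ofBijective (fun x => x.1.1 + θ • x.2.1) ⟨fun x y h => ?_, fun w => ?_⟩)
  · have h1 := congrArg T h
    simp only [map_add, map_smulₛₗ, x.1.2, x.2.2, y.1.2, y.2.2] at h h1
    have h2 : x.2.1 = y.2.1 := smul_right_injective V h0 (by linear_combination (norm := module) h - h1)
    exact Prod.ext (Subtype.ext (by simpa [h2] using h)) (Subtype.ext h2)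
  · have h1 : T ((θ - σ θ)⁻¹ • (w - T w)) = (θ - σ θ)⁻¹ • (w - T w) := by
      rw [map_smulₛₗ, map_inv₀, map_sub, map_sub, hσ2, hT, ← neg_sub, inv_neg, neg_smul, ← smul_neg,
        neg_sub]
    refine ⟨(⟨w - θ • (θ - σ θ)⁻¹ • (w - T w), ?_⟩, ⟨_, h1⟩), sub_add_cancel _ _⟩
    rw [map_sub, map_smulₛₗ, h1]
    linear_combination (norm := module) smul_inv_smul₀ h0 (w - T w)

theorem card_monic (n : ℕ) (P : (Fin (n + 1) → F) → Prop) :
    Nat.card {f : F[X] // (f.Monic ∧ f.natDegree = n) ∧ P fun i => f.coeff i} =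
      Nat.card {c : Fin (n + 1) → F // c (Fin.last n) = 1 ∧ P c} := by
  refine Nat.card_congr (.ofBijective (fun f => ⟨fun i => f.1.coeff i, by
    simpa [f.2.1.2] using f.2.1.1.coeff_natDegree, f.2.2⟩) ⟨fun f g h => Subtype.ext ?_, fun c => ?_⟩)
  · refine ext_iff_natDegree_le f.2.1.2.le g.2.1.2.le |>.2 fun i hi => ?_
    exact congrFun (Subtype.ext_iff.1 h) ⟨i, by omega⟩
  · obtain ⟨⟨f, hf⟩, h⟩ := (degreeLTEquiv F (n + 1)).surjective c.1
    have h1 : f.coeff n = 1 := (congrFun h (Fin.last n)).trans c.2.1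
    have h2 : f.natDegree ≤ n := natDegree_le_iff_degree_le.2
      (Order.le_of_lt_succ (mem_degreeLT.1 hf))
    exact ⟨⟨f, ⟨monic_of_natDegree_le_of_coeff_eq_one n h2 h1, natDegree_eq_of_le_of_coeff_ne_zero h2
      (by simp [h1])⟩, (congrArg P h).mpr c.2.2⟩, Subtype.ext h⟩

variable [FiniteDimensional F V]

theorem NDS.det_adj (D : NDS B) (y : End F V) : LinearMap.det (D.adj y) = σ (LinearMap.det y) := by
  let b := Module.finBasis F V
  let G : Matrix _ _ F := Matrix.of fun i j => B (b i) (b j)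
  have e (a : End F V) (i) : a (b i) = ∑ k, LinearMap.toMatrix b b a k i • b k := by
    simp [LinearMap.toMatrix_apply]
  have h1 : ((LinearMap.toMatrix b b (D.adj y)).map σ).transpose * G = G * LinearMap.toMatrix b b y := by
    ext i j
    have := D.adj_apply y (b i) (b j)
    rw [e, e y] at this
    simpa [Matrix.mul_apply, G, mul_comm, LinearMap.sum_apply] using this
  have h2 : G.det ≠ 0 := fun h => by
    obtain ⟨v, hv, h⟩ := Matrix.exists_vecMul_eq_zero_iff.2 h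
    have : ∑ i, σ (v i) • b i = 0 := D.sep _ fun y => by
      have : B (∑ i, σ (v i) • b i) = 0 := b.ext fun j => by
        simpa [Matrix.vecMul, dotProduct, G, D.invol, LinearMap.sum_apply] using congrFun h j
      rw [this, LinearMap.zero_apply]
    exact hv (funext fun i => (map_eq_zero σ).1
      (Fintype.linearIndependent_iff.1 b.linearIndependent _ this i))
  have h3 := congrArg Matrix.det h1
  rw [Matrix.det_mul, Matrix.det_mul, Matrix.det_transpose, ← RingHom.mapMatrix_apply,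
    ← RingHom.map_det, mul_comm, mul_right_inj' h2, LinearMap.det_toMatrix,
    LinearMap.det_toMatrix] at h3
  rw [← h3, D.invol]

theorem exists_comm_det_cyc (D : H12.SD B) {a y : End F V} (ha : Pres B a) {g : F[X]}
    (h : Sim a (cyc g)) (hy : a * y = y * a) (h0 : LinearMap.det y ≠ 0) :
    ∃ t, Pres B t ∧ a * t = t * a ∧ LinearMap.det t = LinearMap.det y * (σ (LinearMap.det y))⁻¹ := by
  have E := D.wittData.nds
  have h1 : Commute a (E.adj y) := by
    rw [← E.adj_adj_of_pres ha, commute_iff_eq, ← E.adj_mul, ← E.adj_mul, ← one_mul (y * _),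
      ← E.adj_mul_self ha, mul_assoc, ← mul_assoc a, hy, mul_assoc y, E.self_mul_adj ha, mul_one]
  obtain ⟨z, hz⟩ : IsUnit (E.adj y) := (LinearMap.isUnit_iff_isUnit_det _).2 (by simpa [E.det_adj])
  obtain ⟨p, hp⟩ := exists_aeval_of_commute h hy
  have h2 : Commute (z : End F V) y := by
    rw [hz]; nth_rw 2 [hp]
    exact (Algebra.commute_of_mem_adjoin_singleton_of_commute (aeval_mem_adjoin_singleton F a) h1.symm)
  refine ⟨y * z⁻¹, fun u v => ?_, ((show Commute a y from hy).mul_right (hz ▸ h1).units_inv_right),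
    ?_⟩
  · rw [← E.adj_apply, E.adj_mul, ← hz, ← End.mul_apply, h2.units_inv_left.symm.eq, mul_assoc,
      Units.mul_inv_cancel_left, ← E.adj_adj D.wittData.symm y, ← E.adj_mul, ← hz, z.mul_inv,
      E.adj_one, End.one_apply]
  · rw [← E.det_adj, ← hz, map_mul, eq_inv_of_mul_eq_one_left (a := LinearMap.det z⁻¹.1)]
    rw [← map_mul, z.inv_mul, map_one]

open Classical in
theorem exists_comm_det [Fintype F] [Nontrivial V] (D : H12.SD B) (hσ : σ ≠ RingHom.id F)
    (ρ : K →+* K) (hρ : ∀ c, ρ (ι c) = ι (σ c)) {a : End F V} (ha : Pres B a) {k : ℕ}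
    (hk : (k : F) ≠ 0) (h : a ^ k = 1) {c : F} (hc : σ c * c = 1) :
    ∃ t, Pres B t ∧ a * t = t * a ∧ LinearMap.det t = c := by
  have h1 := map_rts a (FiniteField.frobeniusAlgHom F K).toRingHom (AlgHom.commutes _)
  have h2 := map_rts_of_pres D ha ρ hρ
  have h3 (x) (hx : x ∈ rts a) : x ^ k = 1 := by
    simpa using pow_eq_of_mem_rts hx (c := 1) (by simpa using h)
  have h4 {φ : K → K} (hφ : Function.Injective φ) (h : (rts a).map φ = rts a) :
      (rts a).dedup.map φ = (rts a).dedup ∧ (rts a - (rts a).dedup).map φ = rts a - (rts a).dedup := by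
    have h4 : (rts a).dedup.map φ = (rts a).dedup := by
      rw [← Multiset.dedup_map_of_injective hφ, h]
    refine ⟨h4, add_left_cancel (a := (rts a).dedup) ?_⟩
    conv_lhs => rw [← h4, ← Multiset.map_add, h4]
    rw [add_tsub_cancel_of_le (Multiset.dedup_le _), h]
  have h5 := h4 (RingHom.injective _) h1
  have h6 := h4 (inv_injective.comp ρ.injective) h2
  obtain ⟨B₀, a₀, D₀, ha₀, h₀, r₀⟩ := exists_sd_rts D.invol ρ hρ h5.1 h6.1 hk
    (fun x hx => h3 x (Multiset.mem_dedup.1 hx)) (.inl hσ)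
  obtain ⟨B₁, a₁, D₁, ha₁, h₁, r₁⟩ := exists_sd_rts D.invol ρ hρ h5.2 h6.2 hk
    (fun x hx => h3 x (Multiset.mem_of_le (Multiset.sub_le_self _ _) hx)) (.inl hσ)
  obtain ⟨e, e1, e2⟩ := wall_core (sd_sumB D₀ D₁).wittData.nds D.wittData.nds
    (sd_sumB D₀ D₁).wittData.symm D.wittData.symm (ha₀.prodMap ha₁) ha (sim_of_charpoly hk
      (by rw [prodMap_pow, h₀, h₁, LinearMap.prodMap_one]) hk h (charpoly_eq_of_rts (by
        rw [rts_prodMap, r₀, r₁, add_tsub_cancel_of_le (Multiset.dedup_le _)]))) (.inl hσ)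
  obtain ⟨d, hd, rfl⟩ := H12.exists_div_conj_eq hσ D.invol hc
  obtain ⟨α, hα⟩ := Multiset.card_pos_iff_exists_mem.1 (card_rts a ▸ finrank_pos)
  obtain ⟨x, hx, -⟩ := exists_ed_of_mem_rts (r₀ ▸ Multiset.mem_dedup.2 hα)
  obtain ⟨y, hy, rfl⟩ := exists_commute_det_eq a₀ hx (isSS_ed hk h₀ x hx) d
  have := finite_adjoinRoot a₀.charpoly_monic.ne_zero
  obtain ⟨t, t1, t2, t3⟩ := exists_comm_det_cyc D₀ ha₀ (sim_of_charpoly hk h₀ hk (l := k) (by
    have hk0 : k ≠ 0 := by rintro rfl; simp at hk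
    rw [← sub_eq_zero, show cyc a₀.charpoly ^ k - 1 = aeval (cyc a₀.charpoly) (X ^ k - 1 : F[X]) by simp,
      aeval_cyc_eq_zero_iff, ← map_dvd_map' ι,
      (IsAlgClosed.splits _).eq_prod_roots_of_monic (a₀.charpoly_monic.map _), ← rts, r₀,
      Multiset.prod_X_sub_C_dvd_iff_le_roots (by simpa using X_pow_sub_C_ne_zero hk0.bot_lt (1 : K)),
      Multiset.le_iff_subset (Multiset.nodup_dedup _)]
    intro x hx
    simpa [h3 x (Multiset.mem_dedup.1 hx)] using X_pow_sub_C_ne_zero hk0.bot_lt (1 : K))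
    (charpoly_cyc a₀.charpoly_monic).symm) hy hd
  refine ⟨e.conj (t.prodMap 1), fun u v => ?_, LinearMap.ext fun v => ?_, ?_⟩
  · obtain ⟨u, rfl⟩ := e.surjective u
    obtain ⟨v, rfl⟩ := e.surjective v
    simp [LinearEquiv.conj_apply, e1, sumB_apply, t1 u.1]
  · obtain ⟨v, rfl⟩ := e.surjective v
    simpa [LinearEquiv.conj_apply, ← e2] using LinearMap.congr_fun t2 v.1
  · rw [← (sim_conj _ e).det_eq, LinearMap.det_prodMap, t3, map_one, mul_one]

section U
variable [Fintype F] {q : ℕ}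

theorem exists_frob_ext (hF : Fintype.card F = q ^ 2) :
    ∃ ρ : K →+* K, ∀ c, ρ (ι c) = ι (H12.frobq hF c) := by
  obtain ⟨p, a, hp, _, hq⟩ := H12.exists_pow_of_card_eq_sq hF
  have := Fact.mk hp
  exact ⟨iterateFrobenius K p a, fun c => by
    rw [iterateFrobenius_def, ← hq, H12.frobq_apply, map_pow]⟩

/-- the inclusion of `SU` in `GU` -/
def suGU (n : ℕ) (F : Type*) [Field F] (q : ℕ) : SU n F q →* GU n F q :=
  (Matrix.SpecialLinearGroup.toGL.comp (SU n F q).subtype).codRestrict _ fun g => g.2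

omit [Fintype F] in
theorem suGU_injective (n : ℕ) : Function.Injective (suGU n F q) := fun _ _ h =>
  Subtype.ext (Matrix.SpecialLinearGroup.toGL_injective (congrArg Subtype.val h))

omit [Fintype F] in
theorem range_suGU (n : ℕ) :
    (suGU n F q).range = (Matrix.GeneralLinearGroup.det.comp (GU n F q).subtype).ker := by
  ext g
  exact ⟨fun ⟨a, h⟩ => h ▸ Units.ext a.1.2, fun h => ⟨⟨⟨g.1.1, congrArg Units.val h⟩, g.2⟩, Subtype.ext (Units.ext rfl)⟩⟩

theorem isConj_SU_of_charpoly (hF : Fintype.card F = q ^ 2) {n : ℕ} {g h : SU n F q} {k l : ℕ}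
    (hk : (k : F) ≠ 0) (hg : g ^ k = 1) (hl : (l : F) ≠ 0) (hh : h ^ l = 1)
    (hc : g.1.1.charpoly = h.1.1.charpoly) : IsConj g h := by
  obtain _ | n := n
  · rw [show g = h from Subtype.ext (Subsingleton.elim _ _)]
  have R := rl_GU hF (n + 1)
  have D := H12.sd_uB hF (n + 1)
  have h1 {g : SU (n + 1) F q} {k} (hg : g ^ k = 1) : tg _ (suGU _ F q g) ^ k = 1 := by
    rw [← map_pow, ← map_pow, hg, map_one, map_one]
  obtain ⟨x, hx⟩ := isConj_iff.1 ((R.isConj_iff_u D (H12.frobq_ne_id hF)).2 (sim_of_charpoly hk (h1 hg)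
    hl (h1 hh) ((Matrix.charpoly_toLin' _).trans (hc.trans (Matrix.charpoly_toLin' _).symm))))
  obtain ⟨ρ, hρ⟩ := exists_frob_ext hF
  obtain ⟨t, t1, t2, t3⟩ := exists_comm_det D (H12.frobq_ne_id hF) ρ hρ (R.pres _) hk (h1 hg)
    (D.udet_mem_N1 (H12.guEquiv hF _ x⁻¹))
  obtain ⟨t, rfl⟩ := (R.range t).2 ⟨t1, fun _ => rfl⟩
  obtain ⟨y, hy⟩ : x * t ∈ (suGU _ F q).range := by
    rw [range_suGU, MonoidHom.mem_ker, map_mul, mul_eq_one_iff_inv_eq, ← map_inv]
    exact Units.ext ((congrArg Units.val (H12.udet_guEquiv hF x⁻¹)).symm.trans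
      (t3.symm.trans (LinearMap.det_toLin' _)))
  refine isConj_iff.2 ⟨y, suGU_injective _ ?_⟩
  rw [← map_mul, ← map_mul] at t2
  rw [map_mul, map_mul, map_inv, hy, ← hx, mul_assoc x, ← R.inj t2]
  group

theorem exists_GU_jt (hF : Fintype.card F = q ^ 2) {n : ℕ} {M : Multiset ℕ} (hM : ∀ k ∈ M, 0 < k)
    (h : M.sum = n) : ∃ g : GU n F q, IsNilpotent (g.1.1 - 1) ∧ jt (Matrix.toLin' g.1.1) = M := by
  obtain ⟨V, _, _, _, B, a, h1, h2, h3⟩ := exists_sd_jt (H12.frobq_ne_id hF) (H12.frobq_frobq hF) M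
  obtain ⟨h4, h5⟩ := jt_of_ed hM h3
  obtain ⟨e, he⟩ := h1.exists_equiv_std (H12.frobq_ne_id hF) (H12.skw_ne hF) (H12.frobq_skw hF)
    (n := n) (by rw [← sum_jt h4, h5, h])
  obtain ⟨g, hg⟩ := (rl_GU hF n).exists_sim e (c := 1) (d := 1) (N' := fun _ => 0)
    (by simpa using he) (by simp) h2 (by simp)
  exact ⟨g, isNilpotent_toLin'.1 (hg.isNilpotent h4),
    ((sim_iff_jt h4 (hg.isNilpotent h4)).1 hg).symm.trans h5⟩

theorem isConj_GU_iff (hF : Fintype.card F = q ^ 2) {n : ℕ} {A B : GU n F q} :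
    IsConj A B ↔ IsConj A.1.1 B.1.1 := by
  rw [(rl_GU hF n).isConj_iff_u (H12.sd_uB hF n) (H12.frobq_ne_id hF), isConj_iff_sim]
  rfl

end U

end Cfsg.Agent.H13
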