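import Cfsg.Agent.H13.EO7
import Cfsg.Agent.H28.Spec6

/-! The Zassenhaus formula for the spinor norm. -/

set_option autoImplicit false

namespace Cfsg.Agent.H13

open Module H28 QuadraticMap

universe u v

variable {F : Type u} {V : Type v} [Field F] [AddCommGroup V] [Module F V] {Q : QuadraticForm F V}

theorem ND.exists_two_ne [FiniteDimensional F V] [Nontrivial V] (hQ : ND Q) (h2 : (2 : F) ≠ 0) {h : OG Q}
    (hf : ∀ x, h.1 x = x → x = 0) : ∃ w, Q w ≠ 0 ∧ Q (w - h.1 w) ≠ 0 := by
  by_contra! H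
  obtain ⟨w, hw⟩ := hQ.exists_ne_zero
  let T : End F V := 1 - eo Q h
  have hT : ∀ x, T x = x - h.1 x := fun _ => rfl
  have h1 : Function.Injective T := (injective_iff_map_eq_zero _).2 fun x hx => hf x (sub_eq_zero.1 hx).symm
  have h3 : ∀ x, (∀ u, polar Q (T u) (T x) = 0) → x = 0 := fun x hx => h1 (by
    rw [map_zero]
    refine hQ _ fun y => ?_
    obtain ⟨y, rfl⟩ := LinearMap.surjective_of_injective h1 y
    rw [polar_comm, hx])
  have h4 : Q (T w) = 0 := H w hw
  have h5 : ∀ u, polar Q (T u) (T w) ≠ 0 → polar Q u w * polar Q (T u) (T w) = 2 * Q w * Q (T u) := fun u hu => by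
    have a1 : ∀ t : F, Q (T u) + t * polar Q (T u) (T w) ≠ 0 → Q u + t ^ 2 * Q w + t * polar Q u w = 0 :=
      fun t ht => by
        by_contra a2
        refine ht (Eq.trans ?_ (H (u + t • w) (by rwa [Q_add, Q_smul, polar_smul_right])))
        rw [← hT, map_add, map_smul, Q_add, Q_smul, polar_smul_right, h4]; simp
    obtain ⟨t, ht⟩ : ∃ t, Q (T u) = -t * polar Q (T u) (T w) := ⟨-Q (T u) / polar Q (T u) (T w), by field_simp⟩
    have a2 := a1 (t + 1) (by rw [ht]; convert hu using 1; ring)
    have a3 := a1 (t - 1) (by rw [ht]; convert neg_ne_zero.2 hu using 1; ring)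
    rw [ht]
    exact mul_left_cancel₀ h2 (by linear_combination polar Q (T u) (T w) * (a2 - a3))
  have h6 : polar Q (T w) w = 0 := by
    rw [hT, Q_sub, OG_map] at h4
    rw [hT, polar_sub_left, polar_self', polar_comm]; linear_combination h4
  have h7 : polar Q (T (T w)) (T w) = Q (T (T w)) := by
    rw [hT (T w), Q_sub, OG_map, polar_sub_left, polar_self', polar_comm]; ring
  have h8 : Q (T (T w)) = 0 := by
    by_contra h8
    have := h5 (T w) (h7 ▸ h8)
    rw [h6, zero_mul, eq_comm] at this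
    exact mul_ne_zero (mul_ne_zero h2 hw) h8 this
  have h9 : ∀ u, polar Q (T u) (T w) ≠ 0 → polar Q (T u) (T (T w)) = 0 := fun u hu => by
    have a1 := h5 (u + T w) (by rwa [map_add, polar_add_left, h7, h8, add_zero])
    rw [map_add, polar_add_left, polar_add_left, h7, h8, h6, Q_add, h8, add_zero, add_zero, h5 u hu] at a1
    exact mul_left_cancel₀ (mul_ne_zero h2 hw) (by linear_combination -a1)
  obtain ⟨u, hu⟩ : ∃ u, polar Q (T u) (T w) ≠ 0 := by
    by_contra! a1
    exact hw (by rw [h3 w a1, map_zero])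
  refine hw ((congrArg Q (h1 ((h3 (T w) fun x => ?_).trans (map_zero T).symm))).trans (map_zero Q))
  by_cases a1 : polar Q (T x) (T w) = 0
  · simpa [h9 u hu] using h9 (x + u) (by simpa [a1] using hu)
  · exact h9 x a1

/-- the Wall form -/
def wf (h : OG Q) : LinearMap.BilinForm F V := (polarBilin Q).compl₂ (1 - eo Q h)

theorem wf_apply (h : OG Q) (x y : V) : wf h x y = polar Q x (y - h.1 y) := rfl

theorem gdet_wf {ι : Type*} [Fintype ι] [DecidableEq ι] (h : OG Q) (b : Basis ι F V) :
    gdet (wf h) b = gdet (polarBilin Q) b * LinearMap.det (1 - eo Q h) := by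
  rw [gdet_eq_toMatrix, gdet_eq_toMatrix, ← LinearMap.det_toMatrix b, ← Matrix.det_mul,
    ← LinearMap.BilinForm.toMatrix_compRight]
  rfl

variable [Finite F]

theorem spinor_wf (h2 : (2 : F) ≠ 0) (n : ℕ) : ∀ {V : Type v} [AddCommGroup V] [Module F V]
    [FiniteDimensional F V] {Q : QuadraticForm F V} (hQ : ND Q) (h : OG Q) (b : Basis (Fin n) F V),
    (∀ x, h.1 x = x → x = 0) → spinor hQ (good_of_two_ne_zero h2) h = sgn (gdet (wf h) b) := by
  induction n with
  | zero =>
    intro V _ _ _ Q hQ h b _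
    have := b.repr.subsingleton
    rw [show h = 1 from OG_ext fun x => Subsingleton.elim _ _, map_one, gdet, Matrix.det_fin_zero, sgn_one]
  | succ n ih =>
    intro V _ _ _ Q hQ h b hf
    have hV : finrank F V = n + 1 := by simpa using finrank_eq_card_basis b
    have : Nontrivial V := nontrivial_of_finrank_pos (R := F) (by omega)
    obtain ⟨w, h1, h3⟩ := hQ.exists_two_ne h2 hf
    set v := w - h.1 w with hv
    have hw0 : w ≠ 0 := fun e => h1 (by rw [e, map_zero])
    have h4 : (refl Q v * h).1 w = w := by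
      rw [OG_mul_apply, hv, ← neg_sub, refl_neg]
      exact refl_sub_apply (OG_map h w) (by rwa [← neg_sub, QuadraticMap.map_neg])
    have h5 : ∀ (c : F) x, x ∈ perp Q (F ∙ w) → c • w + x = 0 → c = 0 := fun c x hx e => by
      have := congrArg (polar Q w) e
      rw [polar_add_right, mem_perp_singleton.1 hx, polar_smul_right, polar_self'] at this
      simpa [h1, h2] using this
    have h6 : ND (Q.restrict (F ∙ w)) := nd_restrict_iff.2 (Submodule.disjoint_def.2 fun x hx hx' => by
      obtain ⟨c, rfl⟩ := Submodule.mem_span_singleton.1 hx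
      rw [h5 c _ (neg_mem hx') (add_neg_cancel _), zero_smul])
    have hU := hQ.nd_perp h6
    have h7 := mem_perp_iff_of_fix (s := {w}) (g := refl Q v * h) (by simpa using h4)
    have h8 := extOG_resOG (hQ.isCompl hU) _ h7 fun z hz => by
      obtain ⟨c, rfl⟩ := Submodule.mem_span_singleton.1 (hQ.perp_perp _ ▸ hz)
      rw [map_smul, h4]
    have h9 : finrank F (perp Q (F ∙ w)) = n := by
      have := hQ.finrank_perp (F ∙ w)
      rw [finrank_span_singleton hw0] at this; omega
    let b' := finBasisOfFinrankEq F _ h9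
    have h10 := ih hU (resOG _ _ h7) b' fun x hx => Subtype.ext (by
      have a1 : (refl Q v).1 (h.1 x) = x := congrArg Subtype.val hx
      rw [refl_apply] at a1
      generalize polar Q v (h.1 x) * (Q v)⁻¹ = c at a1
      have a2 := hf (x + c • w) (by rw [map_add, map_smul, sub_eq_iff_eq_add.1 a1, hv, smul_sub]; abel)
      rw [h5 c x x.2 (by rw [add_comm, a2]), zero_smul, add_zero] at a2
      exact a2)
    rw [← spinor_extOG hQ (good_of_two_ne_zero h2) (hQ.isCompl hU), h8, map_mul, spinor_refl _ _ h3] at h10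
    let c := Basis.mkFinCons w b' h5 fun z => ⟨-(polar Q w z / (2 * Q w)), mem_perp_singleton.2 (by
      rw [polar_add_right, polar_smul_right, polar_self', smul_eq_mul, neg_mul,
        div_mul_cancel₀ _ (mul_ne_zero h2 h1), add_neg_cancel])⟩
    have a1 : polar Q w v = Q v := by
      rw [hv, Q_sub, OG_map, polar_sub_right, polar_self']; ring
    have a2 : ∀ y, polar Q w (y - h.1 y) = -polar Q v (h.1 y) := fun y => by
      rw [hv, polar_sub_left, polar_sub_right, OG_polar]; ring
    have c0 : c 0 = w := by simp [c]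
    have c1 : ∀ i, c i.succ = b' i := by simp [c]
    have h11 : gdet (wf h) c = Q v * gdet (wf (resOG _ _ h7)) b' := by
      rw [gdet, Matrix.det_eq_of_forall_row_eq_smul_add_const (B := Matrix.of (Fin.cons
        (fun j => wf h w (c j)) fun i j => wf h (b' i) (c j) - polar Q (b' i) v * (Q v)⁻¹ * wf h w (c j)))
        (Fin.cons 0 fun i => polar Q (b' i) v * (Q v)⁻¹) 0 rfl fun i j => by
          refine Fin.cases ?_ (fun i => ?_) i <;> simp [c0, c1], Matrix.det_succ_column_zero, Fin.sum_univ_succ,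
        Finset.sum_eq_zero fun i _ => by
          simp only [Matrix.of_apply, Fin.cons_succ, c0, wf_apply, ← hv, a1, inv_mul_cancel_right₀ h3, sub_self,
            mul_zero, zero_mul]]
      simp only [Matrix.of_apply, Fin.cons_zero, c0, wf_apply, ← hv, a1, gdet, Fin.val_zero, pow_zero, one_mul,
        add_zero, Fin.succAbove_zero]
      congr 2
      ext i j
      simp only [Matrix.submatrix_apply, Matrix.of_apply, Fin.cons_succ, c1, a2]
      change _ = polar Q (b' i) (b' j - (refl Q v).1 (h.1 (b' j)))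
      rw [refl_apply, ← sub_add, polar_add_right, polar_smul_right, smul_eq_mul]; ring
    obtain ⟨t, h12, h13⟩ := gdet_basis_change (wf h) c b
    have h14 : gdet (wf h) c ≠ 0 := by
      rw [gdet_wf]
      exact mul_ne_zero (gdet_ne_zero hQ.nondeg c) ((LinearMap.isUnit_iff_isUnit_det _).1
        ((End.isUnit_iff _).2 (LinearEquiv.ofInjectiveEndo (1 - eo Q h) ((injective_iff_map_eq_zero _).2
          fun x hx => hf x (sub_eq_zero.1 hx).symm)).bijective)).ne_zero
    rw [h13, sgn_sq_mul h12 h14, h11, sgn_mul h3 (right_ne_zero_of_mul (h11 ▸ h14)), ← h10, ← mul_assoc,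
      Int.units_mul_self, one_mul]

variable [FiniteDimensional F V]

theorem ND.spinor_eq (hQ : ND Q) (h2 : (2 : F) ≠ 0) {h : OG Q} (h0 : LinearMap.det (1 - eo Q h) ≠ 0) :
    spinor hQ (good_of_two_ne_zero h2) h = disc Q * sgn (LinearMap.det (1 - eo Q h)) := by
  rw [spinor_wf h2 _ hQ h (finBasis F V) fun x hx => ((End.isUnit_iff _).1
    ((LinearMap.isUnit_iff_isUnit_det _).2 (IsUnit.mk0 _ h0))).1 ((sub_eq_zero.2 hx.symm).trans (map_zero _).symm),
    gdet_wf, sgn_mul (gdet_ne_zero hQ.nondeg _) h0, disc]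

theorem ND.spinor_eq' (hQ : ND Q) (h2 : (2 : F) ≠ 0) {g : OG Q} (h0 : LinearMap.det (1 + eo Q g) ≠ 0) :
    spinor hQ (good_of_two_ne_zero h2) g = sgn (2 ^ finrank F V * LinearMap.det (1 + eo Q g)) := by
  have h1 : 1 - eo Q (negOne Q * g) = 1 + eo Q g := LinearMap.ext fun x => sub_neg_eq_add _ _
  have h3 := hQ.spinor_eq h2 (h := negOne Q * g) (h1 ▸ h0)
  rw [map_mul, hQ.spinor_negOne _ h2, h1, mul_right_comm, mul_comm (disc Q), mul_left_inj] at h3
  rw [sgn_mul (pow_ne_zero _ h2) h0, sgn_pow h2, ← h3, ← mul_assoc, Int.units_mul_self, one_mul]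

end Cfsg.Agent.H13
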